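import Groth.Prelude.Def_GSzGalSym
import Groth.Agent.EtPicLib.Pic

set_option autoImplicit false
set_option backward.isDefEq.respectTransparency false
set_option backward.isDefEq.respectTransparency.types false
universe u

open CategoryTheory CategoryTheory.Limits AlgebraicGeometry

namespace Groth.Agent.Misc3.KummerField

/-- Hilbert 90 for the spectrum of a field. -/
theorem subsingleton_H1_Gm (F : Type u) [Field F] :
    Subsingleton (EtCoh.H (Spec (CommRingCat.of F)) (EtCoh.Gm (Spec (CommRingCat.of F))) 1) := by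
  refine EtPicLib.subsingleton_H_iff.mpr fun L hL => ?_
  obtain ⟨U, t, hx, ht⟩ := TMul.exists_isGen hL (default : ↥(Spec (CommRingCat.of F)))
  have hU : U = ⊤ := top_le_iff.mp fun y _ => by
    rw [Subsingleton.elim y (default : ↥(Spec (CommRingCat.of F)))]
    exact hx
  subst hU
  exact EtPicLib.nonempty_iso_of_gen ht

theorem surjective_kumClass (F : Type u) [Field F] (m : ℕ)
    (hm : Epi (EtCoh.powMap (Spec (CommRingCat.of F)) m)) :
    Function.Surjective (fun a : Fˣ => GalSym.kumClass hm (GalSym.specUnit F a)) := by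
  intro x
  let X := Spec (CommRingCat.of F)
  have hS := EtSix.kummerShortExact (X := X) hm
  haveI : Subsingleton (Abelian.Ext (EtCoh.const X ℤ) (EtSix.kummerSC X m).X₂ 1) :=
    subsingleton_H1_Gm F
  obtain ⟨y, hy⟩ := Abelian.Ext.covariant_sequence_exact₁ (EtCoh.const X ℤ) hS x
    (Subsingleton.elim _ _) (zero_add 1)
  obtain ⟨φ, rfl⟩ : ∃ φ : EtCoh.const X ℤ ⟶ EtCoh.Gm X, Abelian.Ext.mk₀ φ = y :=
    (Abelian.Ext.mk₀_bijective _ _).2 y
  let s : (EtCore.gsec X).obj (EtCoh.Gm X) :=
    (EtCore.constAdj X).homEquiv _ _ φ (ULift.up 1)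
  let u : (Γ(X, ⊤) : Type u)ˣ :=
    ((s : ULift.{u + 1} (Additive ((Γ(X, ⊤) : Type u)ˣ))).down).toMul
  have hu : GalSym.unitSection X u = s := rfl
  refine ⟨Units.map ((Scheme.ΓSpecIso (CommRingCat.of F)).hom.hom : _ →* F) u, ?_⟩
  show GalSym.kumClass hm (GalSym.specUnit F _) = x
  have hsu : GalSym.specUnit F (Units.map ((Scheme.ΓSpecIso (CommRingCat.of F)).hom.hom : _ →* F) u) = u := by
    ext
    simp only [GalSym.specUnit, Units.coe_map, RingHom.toMonoidHom_eq_coe, MonoidHom.coe_coe]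
    exact CategoryTheory.Iso.hom_inv_id_apply _ _
  rw [hsu, GalSym.kumClass]
  have hφ : GalSym.unitMor X u = φ := by
    rw [GalSym.unitMor, Equiv.symm_apply_eq]
    ext ⟨n⟩
    show n • GalSym.unitSection X u = (EtCore.constAdj X).homEquiv _ _ φ (ULift.up n)
    rw [hu]
    have : (ULift.up n : ULift.{u + 1} ℤ) = n • ULift.up 1 := by ext; simp
    rw [this, map_zsmul]
  rw [GalSym.unitClass, hφ]
  exact hy

end Groth.Agent.Misc3.KummerField
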