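import Groth.Agent.Misc3.EtTransfer
import Groth.Agent.EtMV.HenselNbhd
import Mathlib.FieldTheory.Galois.Basic
import Mathlib.FieldTheory.Normal.Closure
import Mathlib.RingTheory.Unramified.Field
import Mathlib.RingTheory.Etale.Field
import Mathlib.AlgebraicGeometry.ResidueField

/-! Positive degree etale cohomology of a field is torsion. -/

set_option autoImplicit false
set_option backward.isDefEq.respectTransparency false
set_option linter.auxLemma false
set_option linter.style.haveILetI false
universe u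

open CategoryTheory CategoryTheory.Limits CategoryTheory.Abelian AlgebraicGeometry Opposite

noncomputable section

namespace Groth.Agent.Misc3.EtFieldTorsion

attribute [local instance 100000] EtCoh.H._proof_1 EtMV.hext
attribute [local instance 200000] EtMV.hextAb

variable {k : Type u} [Field k]

/-- Two maps into an unramified scheme agreeing at a point agree near it. -/
theorem exists_nhd_eq {X : Scheme.{u}} {Z Y : X.Etale} (p q : Z ⟶ Y) (z : Z.left)
    (h : Z.left.fromSpecResidueField z ≫ p.left = Z.left.fromSpecResidueField z ≫ q.left) :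
    ∃ (Z' : X.Etale) (j : Z' ⟶ Z) (w : Z'.left), j.left w = z ∧ j ≫ p = j ≫ q := by
  haveI : Etale Y.hom := Y.prop
  haveI : Etale Z.hom := Z.prop
  haveI : IsOpenImmersion (pullback.diagonal Y.hom) := inferInstance
  let d : Z.left ⟶ pullback Y.hom Y.hom :=
    pullback.lift p.left q.left ((MorphismProperty.Over.w p).trans (MorphismProperty.Over.w q).symm)
  let U : Z.left.Opens := d ⁻¹ᵁ (pullback.diagonal Y.hom).opensRange
  have hz : z ∈ U := by
    show d z ∈ (pullback.diagonal Y.hom).opensRange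
    have e : Z.left.fromSpecResidueField z ≫ d =
        (Z.left.fromSpecResidueField z ≫ p.left) ≫ pullback.diagonal Y.hom := by
      apply pullback.hom_ext
      · simp [d]
      · simp [d, h]
    have hd := congrArg (fun m => m (IsLocalRing.closedPoint (Z.left.residueField z))) e
    simp only [Scheme.Hom.comp_apply, Scheme.fromSpecResidueField_apply] at hd
    rw [hd]
    exact ⟨_, rfl⟩
  let Z' : X.Etale := MorphismProperty.Over.mk ⊤ (U.ι ≫ Z.hom) (inferInstance : Etale (U.ι ≫ Z.hom))
  let j : Z' ⟶ Z := MorphismProperty.Over.homMk U.ι rfl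
  refine ⟨Z', j, ⟨z, hz⟩, rfl, ?_⟩
  apply MorphismProperty.Over.Hom.ext
  rw [MorphismProperty.Comma.comp_left, MorphismProperty.Comma.comp_left]
  show U.ι ≫ p.left = U.ι ≫ q.left
  have hr : Set.range (U.ι ≫ d) ⊆ Set.range (pullback.diagonal Y.hom) := by
    rintro _ ⟨u, rfl⟩
    exact u.2
  have e := IsOpenImmersion.lift_fac (pullback.diagonal Y.hom) (U.ι ≫ d) hr
  have e1 := congrArg (fun m => m ≫ pullback.fst Y.hom Y.hom) e
  have e2 := congrArg (fun m => m ≫ pullback.snd Y.hom Y.hom) e
  simp only [d, Category.assoc, pullback.lift_fst, pullback.lift_snd, pullback.diagonal_fst,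
    pullback.diagonal_snd, Category.comp_id] at e1 e2
  exact e1.symm.trans e2

/-- A class killed by a point over a Galois extension is torsion. -/
theorem nsmul_eq_zero (L : Type u) [Field L] [Algebra k L] [FiniteDimensional k L] [IsGalois k L]
    (Y : (Spec (CommRingCat.of k)).Etale) (i : Y.left ≅ Spec (CommRingCat.of L))
    (hi : Y.hom = i.hom ≫ Spec.map (CommRingCat.ofHom (algebraMap k L)))
    (F : EtCoh.Ab (Spec (CommRingCat.of k))) (n : ℕ)
    (c : Ext ((EtMV.P _).obj (EtCoh.top (Spec (CommRingCat.of k)))) F n)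
    (hc : (Ext.mk₀ ((EtMV.P _).map (EtMV.toTop Y))).comp c (zero_add n) = 0) :
    Fintype.card (L ≃ₐ[k] L) • c = 0 := by
  let f : ∀ _ : L ≃ₐ[k] L, Y.left ⟶ Y.left := fun g =>
    i.hom ≫ Spec.map (CommRingCat.ofHom g.toAlgHom.toRingHom) ≫ i.inv
  have hf : ∀ g, f g ≫ Y.hom = Y.hom := fun g => by
    simp only [f, hi, Category.assoc, Iso.inv_hom_id_assoc, ← Spec.map_comp]
    congr 2
    ext x
    exact g.commutes x
  let σ : (L ≃ₐ[k] L) → (Y ⟶ Y) := fun g => MorphismProperty.Over.homMk (f g) (hf g)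
  have hY : Function.Surjective Y.hom.base := fun x =>
    ⟨i.inv default, @Subsingleton.elim ↥(Spec (CommRingCat.of k)) _ _ _⟩
  refine EtTransfer.card_nsmul_eq_zero Y hY σ (fun a b => ?_) ?_ F n c hc
  · apply MorphismProperty.Over.Hom.ext
    rw [MorphismProperty.Comma.comp_left]
    show f a ≫ f b = f (a * b)
    simp only [f, Category.assoc, Iso.inv_hom_id_assoc]
    rw [← Spec.map_comp_assoc]
    rfl
  · intro Z p q z
    let κ := Z.left.residueField z
    obtain ⟨α, hα⟩ := Spec.map_surjective (Z.left.fromSpecResidueField z ≫ p.left ≫ i.hom)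
    obtain ⟨β, hβ⟩ := Spec.map_surjective (Z.left.fromSpecResidueField z ≫ q.left ≫ i.hom)
    have hαβ : ∀ x : k, α.hom (algebraMap k L x) = β.hom (algebraMap k L x) := by
      have e : CommRingCat.ofHom (algebraMap k L) ≫ α = CommRingCat.ofHom (algebraMap k L) ≫ β := by
        apply Spec.map_injective
        rw [Spec.map_comp, Spec.map_comp, hα, hβ]
        simp only [Category.assoc, ← hi]
        exact congrArg _ ((MorphismProperty.Over.w p).trans (MorphismProperty.Over.w q).symm)
      exact fun x => RingHom.congr_fun (congrArg CommRingCat.Hom.hom e) x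
    letI : Algebra L κ := α.hom.toAlgebra
    letI : Algebra k κ := (α.hom.comp (algebraMap k L)).toAlgebra
    haveI : IsScalarTower k L κ := IsScalarTower.of_algebraMap_eq fun _ => rfl
    let β' : L →ₐ[k] κ := { β.hom with commutes' := fun x => (hαβ x).symm }
    let g := β'.restrictNormal' L
    have hg : ∀ x, α.hom (g x) = β.hom x := fun x => β'.restrictNormal_commutes L x
    have hpt : Z.left.fromSpecResidueField z ≫ q.left = Z.left.fromSpecResidueField z ≫ (p ≫ σ g).left := by
      rw [← cancel_mono i.hom, MorphismProperty.Comma.comp_left]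
      show _ = (_ ≫ p.left ≫ f g) ≫ _
      simp only [f, Category.assoc, Iso.inv_hom_id, Category.comp_id]
      rw [← hβ, ← Category.assoc p.left, ← Category.assoc, ← hα, ← Spec.map_comp]
      congr 1
      ext x
      exact (hg x).symm
    obtain ⟨Z', j, w, hw, hj⟩ := exists_nhd_eq q (p ≫ σ g) z hpt
    exact ⟨Z', j, w, hw, g, hj⟩

theorem exists_galois_nhd (W : (Spec (CommRingCat.of k)).Etale) (w : W.left) :
    ∃ (L : Type u) (_ : Field L) (_ : Algebra k L) (_ : FiniteDimensional k L) (_ : IsGalois k L)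
      (h : Spec (CommRingCat.of L) ⟶ W.left),
      h ≫ W.hom = Spec.map (CommRingCat.ofHom (algebraMap k L)) := by
  obtain ⟨Y', f, hfE, hfF, hfS, h, hh⟩ := EtMV.exists_finite_nhd k W w (@Subsingleton.elim ↥(Spec (CommRingCat.of k)) _ _ _)
  haveI : IsAffine Y' := isAffine_of_isAffineHom f
  obtain ⟨ψ, hψ⟩ := Spec.map_surjective (Y'.isoSpec.inv ≫ f)
  have hE : Etale (Spec.map ψ) := by rw [hψ]; infer_instance
  rw [HasRingHomProperty.Spec_iff (P := @Etale)] at hE
  letI : Algebra k Γ(Y', ⊤) := ψ.hom.toAlgebra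
  haveI : Algebra.Etale k Γ(Y', ⊤) := hE
  obtain ⟨y, -⟩ := hfS.surj (default : ↥(Spec (CommRingCat.of k)))
  haveI : Nontrivial Γ(Y', ⊤) :=
    ((Y'.isoSpec.hom y : PrimeSpectrum Γ(Y', ⊤)).nontrivial)
  obtain ⟨m, hm⟩ := Ideal.exists_maximal Γ(Y', ⊤)
  let K := Γ(Y', ⊤) ⧸ m
  letI : Field K := Ideal.Quotient.field m
  haveI : Algebra.FormallyUnramified k K :=
    Algebra.FormallyUnramified.of_surjective (Ideal.Quotient.mkₐ k m) Ideal.Quotient.mk_surjective
  haveI : Algebra.FiniteType k K :=
    Algebra.FiniteType.of_surjective (Ideal.Quotient.mkₐ k m) Ideal.Quotient.mk_surjective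
  haveI : Module.Finite k K := Algebra.FormallyUnramified.finite_of_free k K
  haveI : Algebra.IsSeparable k K := Algebra.FormallyUnramified.isSeparable k K
  let Ω := SeparableClosure k
  let e : K →ₐ[k] Ω := IsSepClosed.lift
  let L := IntermediateField.normalClosure k K Ω
  let e' : K →ₐ[k] L :=
    (IntermediateField.inclusion e.fieldRange_le_normalClosure).comp e.rangeRestrict
  refine ⟨L, inferInstance, inferInstance, inferInstance, inferInstance,
    Spec.map (CommRingCat.ofHom (e'.comp (Ideal.Quotient.mkₐ k m)).toRingHom) ≫ Y'.isoSpec.inv ≫ h, ?_⟩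
  simp only [Category.assoc, hh]
  rw [← hψ, ← Spec.map_comp]
  congr 1
  exact CommRingCat.hom_ext (RingHom.ext fun x => (e'.comp (Ideal.Quotient.mkₐ k m)).commutes x)

/-- Positive degree etale cohomology of a field is torsion. -/
theorem isOfFinAddOrder (k : Type u) [Field k] (F : EtCoh.Ab (Spec (CommRingCat.of k))) (i : ℕ)
    (hi : 0 < i) (x : EtCoh.H (Spec (CommRingCat.of k)) F i) : IsOfFinAddOrder x := by
  obtain ⟨n, rfl⟩ : ∃ n, i = n + 1 := ⟨i - 1, by omega⟩
  let X := Spec (CommRingCat.of k)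
  let c := (EtMV.eX X F (n + 1)).symm x
  obtain ⟨o, h, w, -, hkill⟩ := EtMV.exists_kill n (EtCoh.top X) F c (default : ↥X)
  obtain ⟨L, _, _, _, _, a, ha⟩ := exists_galois_nhd o w
  haveI hE : Etale (Spec.map (CommRingCat.ofHom (algebraMap k L))) := by
    rw [HasRingHomProperty.Spec_iff (P := @Etale)]
    haveI : Algebra.FormallyEtale k L := Algebra.FormallyEtale.of_isSeparable k L
    haveI : Algebra.FinitePresentation k L := Algebra.FinitePresentation.of_finiteType.mp inferInstance
    haveI : Algebra.Etale k L := ⟨inferInstance, inferInstance⟩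
    exact RingHom.etale_algebraMap.mpr this
  let Y : X.Etale := MorphismProperty.Over.mk ⊤ (Spec.map (CommRingCat.ofHom (algebraMap k L))) hE
  let j : Y ⟶ o := MorphismProperty.Over.homMk a ha
  have hc : (Ext.mk₀ ((EtMV.P X).map (EtMV.toTop Y))).comp c (zero_add (n + 1)) = 0 := by
    rw [EtMV.hom_top_ext (EtMV.toTop Y) (j ≫ h), Functor.map_comp, ← Ext.mk₀_comp_mk₀_assoc, hkill,
      Ext.comp_zero]
  have h0 := nsmul_eq_zero L Y (Iso.refl _) (Category.id_comp _).symm F (n + 1) c hc
  refine isOfFinAddOrder_iff_nsmul_eq_zero.mpr ⟨Fintype.card (L ≃ₐ[k] L), Fintype.card_pos, ?_⟩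
  rw [← (EtMV.eX X F (n + 1)).apply_symm_apply x, ← map_nsmul]
  exact (congrArg (EtMV.eX X F (n + 1)) h0).trans (map_zero _)

/-- Uniquely divisible coefficients have no positive degree cohomology on a field. -/
theorem subsingleton_of_divisible (k : Type u) [Field k] (F : EtCoh.Ab (Spec (CommRingCat.of k)))
    (hdiv : ∀ n : ℕ, 0 < n → IsIso (n • 𝟙 F)) (i : ℕ) (hi : 0 < i) :
    Subsingleton (EtCoh.H (Spec (CommRingCat.of k)) F i) := by
  refine subsingleton_of_forall_eq 0 fun x => ?_
  obtain ⟨m, hm, hx⟩ := (isOfFinAddOrder k F i hi x).exists_nsmul_eq_zero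
  haveI := hdiv m hm
  have e : ∀ r : ℕ, x.comp (Ext.mk₀ (r • 𝟙 F)) (add_zero i) = r • x := by
    intro r
    induction r with
    | zero => rw [zero_smul, zero_smul, Ext.mk₀_zero, Ext.comp_zero]
    | succ r ih => rw [succ_nsmul, succ_nsmul, Ext.mk₀_add, Ext.comp_add, ih, Ext.comp_mk₀_id]
  calc x = x.comp (Ext.mk₀ ((m • 𝟙 F) ≫ inv (m • 𝟙 F))) (add_zero i) := by
        rw [IsIso.hom_inv_id, Ext.comp_mk₀_id]
    _ = (x.comp (Ext.mk₀ (m • 𝟙 F)) (add_zero i)).comp (Ext.mk₀ (inv (m • 𝟙 F))) (add_zero i) := by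
        rw [Ext.comp_assoc_of_third_deg_zero, Ext.mk₀_comp_mk₀]
    _ = 0 := by rw [e, hx, Ext.zero_comp]

end Groth.Agent.Misc3.EtFieldTorsion
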