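import Mathlib.Combinatorics.SimpleGraph.Acyclic
import Mathlib.Combinatorics.SimpleGraph.Finite
import Mathlib.Tactic

set_option autoImplicit false
universe u v

open SimpleGraph Finset

namespace Groth.Agent.Misc3.CycleSpace

variable {V : Type u} [Fintype V] [DecidableEq V]

/-- The sign of a vertex. -/
def eps (c : V → Bool) (v : V) : ℤ := if c v then 1 else -1

lemma eps_mul_self (c : V → Bool) (v : V) : eps c v * eps c v = 1 := by
  unfold eps; split_ifs <;> simp

lemma eps_adj {G : SimpleGraph V} {c : V → Bool} (hbip : ∀ v w, G.Adj v w → c v ≠ c w) {v w : V}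
    (h : G.Adj v w) : eps c w = - eps c v := by
  unfold eps
  have := hbip v w h
  cases hv : c v <;> cases hw : c w <;> simp_all

lemma sum_inc (G : SimpleGraph V) [DecidableRel G.Adj] {M : Type*} [AddCommMonoid M]
    (x : Sym2 V → M) (v : V) :
    ∑ e ∈ G.incidenceFinset v, x e = ∑ e ∈ G.edgeFinset, if v ∈ e then x e else 0 := by
  rw [← Finset.sum_filter]
  refine Finset.sum_congr ?_ fun _ _ => rfl
  ext e
  simp [SimpleGraph.incidenceSet]

lemma path_chain (G : SimpleGraph V) [DecidableRel G.Adj] (c : V → Bool)
    (hbip : ∀ v w, G.Adj v w → c v ≠ c w) (T : SimpleGraph V) (hT : T ≤ G) {a b : V}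
    (p : T.Walk a b) :
    ∃ z : Sym2 V → ℤ, (∀ e, e ∉ T.edgeSet → z e = 0) ∧
      ∀ v, ∑ e ∈ G.incidenceFinset v, z e =
        eps c v * ((if a = v then 1 else 0) - (if b = v then 1 else 0)) := by
  induction p with
  | nil => exact ⟨0, fun _ _ => rfl, fun v => by simp⟩
  | @cons a a' b h q ih =>
    obtain ⟨z, hz, hzs⟩ := ih
    refine ⟨fun e => z e + (if e = s(a, a') then eps c a else 0), fun e he => ?_, fun v => ?_⟩
    · have : e ≠ s(a, a') := fun h' => he (by rw [h']; exact h)
      simp [hz e he, this]
    · rw [Finset.sum_add_distrib, hzs, Finset.sum_ite_eq']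
      have hea := eps_adj hbip (hT h)
      have hne : a ≠ a' := h.ne
      simp only [mem_incidenceFinset, SimpleGraph.mk'_mem_incidenceSet_iff, hT h, true_and]
      by_cases h1 : a = v
      · subst h1
        simp [hne.symm]
        split_ifs <;> ring
      · by_cases h2 : a' = v
        · subst h2
          simp [h1, hne.symm, hea]
          split_ifs <;> ring
        · simp [h1, h2, Ne.symm h1, Ne.symm h2]

lemma tree_zero (G : SimpleGraph V) [DecidableRel G.Adj] (c : V → Bool)
    (hbip : ∀ v w, G.Adj v w → c v ≠ c w) (T : SimpleGraph V) (hT : T ≤ G) (hac : T.IsAcyclic)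
    {A : Type v} [AddCommGroup A] (x : Sym2 V → A) (hx : ∀ e, e ∉ T.edgeSet → x e = 0)
    (hsum : ∀ v, ∑ e ∈ G.incidenceFinset v, x e = 0) : x = 0 := by
  classical
  funext e0
  by_cases he : e0 ∈ T.edgeSet
  · induction e0 using Sym2.ind with
    | _ u w =>
      have hnr := SimpleGraph.isBridge_iff.mp (isAcyclic_iff_forall_isBridge.mp hac he)
      set S : Finset V := univ.filter fun s => (T.deleteEdges {s(u, w)}).Reachable u s with hS
      have h0 : ∑ s ∈ S, eps c s • ∑ e ∈ G.incidenceFinset s, x e = 0 := by simp [hsum]
      have h1 : ∑ s ∈ S, eps c s • ∑ e ∈ G.incidenceFinset s, x e =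
          ∑ e ∈ G.edgeFinset, (∑ s ∈ S, if s ∈ e then eps c s else 0) • x e := by
        simp only [sum_inc, Finset.smul_sum, Finset.sum_smul]
        rw [Finset.sum_comm]
        refine Finset.sum_congr rfl fun e _ => Finset.sum_congr rfl fun s _ => ?_
        split_ifs <;> simp
      have hmemG : s(u, w) ∈ G.edgeFinset := by
        rw [mem_edgeFinset]; exact hT he
      have h2 : ∑ e ∈ G.edgeFinset, (∑ s ∈ S, if s ∈ e then eps c s else 0) • x e =
          eps c u • x s(u, w) := by
        rw [Finset.sum_eq_single_of_mem _ hmemG]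
        · congr 1
          rw [Finset.sum_eq_single_of_mem u (by simp [hS])]
          · simp
          · intro s hs hsu
            rw [if_neg]
            intro hse
            rcases Sym2.mem_iff.mp hse with rfl | rfl
            · exact hsu rfl
            · exact hnr (Finset.mem_filter.mp hs).2
        · intro e _ hne
          by_cases heT : e ∈ T.edgeSet
          · induction e using Sym2.ind with
            | _ p q =>
              have hadj : (T.deleteEdges {s(u, w)}).Adj p q := by
                rw [SimpleGraph.deleteEdges_adj]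
                exact ⟨heT, by simpa using hne⟩
              have hiff : p ∈ S ↔ q ∈ S := by
                simp only [hS, Finset.mem_filter, Finset.mem_univ, true_and]
                exact ⟨fun h => h.trans hadj.reachable, fun h => h.trans hadj.symm.reachable⟩
              have hpq : p ≠ q := hadj.ne
              have : (∑ s ∈ S, if s ∈ s(p, q) then eps c s else 0) = 0 := by
                rw [← Finset.sum_filter]
                by_cases hp : p ∈ S
                · have : S.filter (fun s => s ∈ s(p, q)) = {p, q} := by
                    ext s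
                    simp only [Finset.mem_filter, Sym2.mem_iff, Finset.mem_insert,
                      Finset.mem_singleton]
                    exact ⟨fun h => h.2, fun h => ⟨by rcases h with rfl | rfl; exacts [hp, hiff.mp hp], h⟩⟩
                  rw [this, Finset.sum_pair hpq, eps_adj hbip (hT heT)]
                  simp
                · have : S.filter (fun s => s ∈ s(p, q)) = ∅ := by
                    ext s
                    simp only [Finset.mem_filter, Sym2.mem_iff, Finset.notMem_empty, iff_false,
                      not_and]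
                    rintro hs (rfl | rfl)
                    exacts [hp hs, hp (hiff.mpr hs)]
                  rw [this, Finset.sum_empty]
              rw [this, zero_smul]
          · rw [hx e heT, smul_zero]
      rw [h1, h2] at h0
      calc x s(u, w) = (eps c u * eps c u) • x s(u, w) := by rw [eps_mul_self, one_smul]
        _ = 0 := by rw [mul_smul, h0, smul_zero]
  · exact hx e0 he

theorem exists_param (G : SimpleGraph V) [DecidableRel G.Adj] (hconn : G.Connected) (c : V → Bool)
    (hbip : ∀ v w : V, G.Adj v w → c v ≠ c w) (A : Type v) [AddCommGroup A] (n : ℕ)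
    (hn : G.edgeFinset.card + 1 = Fintype.card V + n) :
    ∃ f : (Fin n → A) →+ (Sym2 V → A), Function.Injective f ∧
      Set.range f = {x : Sym2 V → A | (∀ e : Sym2 V, e ∉ G.edgeSet → x e = 0) ∧
        ∀ v : V, ∑ e ∈ G.incidenceFinset v, x e = 0} := by
  classical
  obtain ⟨T, hT, htree⟩ := hconn.exists_isTree_le
  have hcard : (G.edgeFinset \ T.edgeFinset).card = n := by
    have h := htree.card_edgeFinset
    have hs : T.edgeFinset ⊆ G.edgeFinset := edgeFinset_mono hT
    have := Finset.card_sdiff_of_subset hs
    have := Finset.card_le_card hs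
    omega
  let E : Fin n ≃ ↥(G.edgeFinset \ T.edgeFinset) :=
    (Fintype.equivFinOfCardEq (by rw [Fintype.card_coe, hcard])).symm
  have hcyc : ∀ e : Sym2 V, e ∈ G.edgeSet → e ∉ T.edgeSet → ∃ z : Sym2 V → ℤ, z e = 1 ∧
      (∀ e', e' ∉ T.edgeSet → e' ≠ e → z e' = 0) ∧
      ∀ v, ∑ e' ∈ G.incidenceFinset v, z e' = 0 := by
    intro e
    induction e using Sym2.ind with
    | _ a b =>
      intro heG heT
      obtain ⟨p⟩ := htree.connected.preconnected b a
      obtain ⟨z, hz, hzs⟩ := path_chain G c hbip T hT p
      refine ⟨fun e' => (if e' = s(a, b) then 1 else 0) + eps c a * z e', ?_, ?_, ?_⟩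
      · simp [hz _ heT]
      · intro e' he' hne
        simp [hne, hz _ he']
      · intro v
        have hG : G.Adj a b := heG
        rw [Finset.sum_add_distrib, ← Finset.mul_sum, hzs, Finset.sum_ite_eq']
        simp only [mem_incidenceFinset, SimpleGraph.mk'_mem_incidenceSet_iff, hG, true_and]
        by_cases h1 : a = v
        · subst h1
          simp [hG.ne, Ne.symm hG.ne]
          linarith [eps_mul_self c a]
        · by_cases h2 : b = v
          · subst h2
            simp [h1, Ne.symm h1, eps_adj hbip hG]
            linarith [eps_mul_self c a]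
          · simp [h1, h2, Ne.symm h1, Ne.symm h2]
  have hmem : ∀ i, (E i : Sym2 V) ∈ G.edgeSet ∧ (E i : Sym2 V) ∉ T.edgeSet := by
    intro i
    have := Finset.mem_sdiff.mp (E i).2
    exact ⟨mem_edgeFinset.mp this.1, fun h => this.2 (mem_edgeFinset.mpr h)⟩
  choose z hz1 hz0 hzs using fun i => hcyc _ (hmem i).1 (hmem i).2
  let f : (Fin n → A) →+ (Sym2 V → A) :=
    AddMonoidHom.mk' (fun a e => ∑ i, z i e • a i) (fun a b => by
      funext e; simp [smul_add, Finset.sum_add_distrib])
  have hfe : ∀ a e, f a e = ∑ i, z i e • a i := fun _ _ => rfl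
  have hfE : ∀ a j, f a (E j) = a j := by
    intro a j
    rw [hfe, Finset.sum_eq_single_of_mem j (Finset.mem_univ _), hz1, one_smul]
    intro i _ hij
    rw [hz0 i _ (hmem j).2 (fun h => hij (E.injective (Subtype.ext h)).symm), zero_smul]
  have hfker : ∀ a, (∀ e, e ∉ G.edgeSet → f a e = 0) ∧
      ∀ v, ∑ e ∈ G.incidenceFinset v, f a e = 0 := by
    intro a
    refine ⟨fun e he => ?_, fun v => ?_⟩
    · rw [hfe]
      refine Finset.sum_eq_zero fun i _ => ?_
      rw [hz0 i e (fun h => he (edgeSet_mono hT h)) (fun h => he (h ▸ (hmem i).1)), zero_smul]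
    · simp only [hfe]
      rw [Finset.sum_comm]
      refine Finset.sum_eq_zero fun i _ => ?_
      rw [← Finset.sum_smul, hzs, zero_smul]
  refine ⟨f, fun a b h => funext fun j => ?_, Set.eq_of_subset_of_subset ?_ ?_⟩
  · rw [← hfE a j, ← hfE b j, h]
  · rintro _ ⟨a, rfl⟩
    exact hfker a
  · intro x ⟨hx0, hxs⟩
    refine ⟨fun j => x (E j), ?_⟩
    set a : Fin n → A := fun j => x (E j)
    have h := tree_zero G c hbip T hT htree.isAcyclic (fun e => f a e - x e) ?_ ?_
    · funext e
      exact sub_eq_zero.mp (congrFun h e)
    · intro e he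
      by_cases heG : e ∈ G.edgeSet
      · obtain ⟨j, hj⟩ := E.surjective ⟨e, by simp [Finset.mem_sdiff, mem_edgeFinset, heG, he]⟩
        have : (E j : Sym2 V) = e := by rw [hj]
        rw [← this, hfE]
        exact sub_self _
      · rw [(hfker a).1 e heG, hx0 e heG, sub_zero]
    · intro v
      rw [Finset.sum_sub_distrib, (hfker a).2 v, hxs v, sub_zero]

end Groth.Agent.Misc3.CycleSpace
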