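import Groth.Prelude.Def_CAlg
import Groth.Prelude.Def_W4c5grrsingularflatDSeq
import Groth.Agent.SectFinite.Basic
import Groth.Agent.CMFlat.Localization
import Mathlib.RingTheory.RegularLocalRing.Defs
import Mathlib.RingTheory.Ideal.KrullsHeightTheorem
import Mathlib.Algebra.Module.SpanRank

set_option autoImplicit false
set_option linter.style.haveILetI false
universe u

open IsLocalRing RingTheory.Sequence

namespace Groth.Agent.Misc3.DSeqPrime

variable {T : Type u} [CommRing T]

lemma exists_finset_span [IsNoetherianRing T] (P : Ideal T) :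
    ∃ G : Finset T, G.card ≤ Submodule.spanFinrank P ∧ P = Ideal.span (G : Set T) := by
  have hfg : Submodule.FG P := IsNoetherian.noetherian P
  refine ⟨hfg.finite_generators.toFinset, ?_, ?_⟩
  · rw [← Set.ncard_eq_toFinset_card _ hfg.finite_generators, Submodule.FG.generators_ncard hfg]
  · rw [Set.Finite.coe_toFinset]
    exact (Submodule.span_generators P).symm

lemma spanFinrank_ofList_le (xs : List T) :
    Submodule.spanFinrank (Ideal.ofList xs) ≤ xs.length := by
  classical
  have h : ({r | r ∈ xs} : Set T) = (xs.toFinset : Set T) := by ext; simp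
  refine (Submodule.spanFinrank_span_le_ncard_of_finite (R := T) (s := {r | r ∈ xs}) ?_).trans ?_
  · rw [h]; exact Finset.finite_toSet _
  · rw [h, Set.ncard_coe_finset]; exact List.toFinset_card_le xs

lemma exchange [IsLocalRing T] (P : Ideal T) (xs : List T) (G : Finset T)
    (hP : P = Ideal.ofList xs ⊔ Ideal.span (G : Set T)) {x : T} (hx : x ∈ P)
    (hx' : x ∉ Ideal.ofList xs ⊔ maximalIdeal T * P) :
    ∃ G' : Finset T, G'.card + 1 ≤ G.card ∧
      P = Ideal.ofList (xs ++ [x]) ⊔ Ideal.span (G' : Set T) := by
  classical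
  have hxP := hx
  rw [hP] at hx
  obtain ⟨a, ha, b, hb, rfl⟩ := Submodule.mem_sup.mp hx
  obtain ⟨c, -, rfl⟩ := Submodule.mem_span_finset.mp hb
  obtain ⟨g, hg, hcg⟩ : ∃ g ∈ G, c g ∉ maximalIdeal T := by
    by_contra! hall
    refine hx' (Submodule.mem_sup.mpr ⟨a, ha, _, ?_, rfl⟩)
    refine Ideal.sum_mem _ fun g hg => ?_
    rw [smul_eq_mul]
    exact Ideal.mul_mem_mul (hall g hg)
      (hP ▸ Ideal.mem_sup_right (Ideal.subset_span (Finset.mem_coe.mpr hg)))
  refine ⟨G.erase g, by rw [Finset.card_erase_of_mem hg]; have := Finset.card_pos.mpr ⟨g, hg⟩; omega, ?_⟩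
  set y := a + ∑ i ∈ G, c i • i with hy
  set Q := Ideal.ofList (xs ++ [y]) ⊔ Ideal.span ((G.erase g : Finset T) : Set T) with hQ
  have hxs : Ideal.ofList xs ≤ Q := le_trans (by rw [Ideal.ofList_append]; exact le_sup_left) le_sup_left
  have hGe : ∀ i ∈ G.erase g, i ∈ Q := fun i hi =>
    Ideal.mem_sup_right (Ideal.subset_span (Finset.mem_coe.mpr hi))
  refine le_antisymm ?_ ?_
  · rw [hP]
    refine sup_le hxs (Ideal.span_le.mpr fun i hi => ?_)
    rcases eq_or_ne i g with rfl | hig
    · have hyQ : y ∈ Q := Ideal.mem_sup_left (Ideal.subset_span (by simp))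
      have h1 : c i * i ∈ Q := by
        have e : c i * i = y - a - ∑ j ∈ G.erase i, c j • j := by
          rw [hy, ← Finset.add_sum_erase G _ hg, smul_eq_mul]
          ring
        rw [e]
        exact Ideal.sub_mem _ (Ideal.sub_mem _ hyQ (hxs ha))
          (Ideal.sum_mem _ fun j hj => Ideal.mul_mem_left _ _ (hGe j hj))
      rw [IsLocalRing.mem_maximalIdeal, mem_nonunits_iff, not_not] at hcg
      obtain ⟨u, hu⟩ := hcg
      rw [← hu] at h1
      exact (Ideal.unit_mul_mem_iff_mem Q u.isUnit).mp h1
    · exact hGe i (Finset.mem_erase.mpr ⟨hig, hi⟩)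
  · refine sup_le ?_ ?_
    · refine Ideal.span_le.mpr fun r hr => ?_
      rcases List.mem_append.mp hr with h | h
      · exact hP ▸ Ideal.mem_sup_left (Ideal.subset_span h)
      · rw [List.mem_singleton.mp h]; exact hxP
    · refine Ideal.span_le.mpr fun i hi => ?_
      exact hP ▸ Ideal.mem_sup_right (Ideal.subset_span (Finset.mem_coe.mpr (Finset.mem_of_mem_erase hi)))

lemma le_of_le_sup_mul [IsLocalRing T] [IsNoetherianRing T] {P N : Ideal T}
    (h : P ≤ N ⊔ maximalIdeal T * P) : P ≤ N := by
  refine Submodule.le_of_le_smul_of_le_jacobson_bot (I := maximalIdeal T) (IsNoetherian.noetherian _) ?_ ?_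
  · rw [IsLocalRing.jacobson_eq_maximalIdeal ⊥ bot_ne_top]
  · rwa [smul_eq_mul]

lemma mem_ofList_take_succ {xs : List T} {i : ℕ} (hi : i < xs.length) :
    xs[i] ∈ Ideal.ofList (xs.take (i + 1)) :=
  Ideal.subset_span (List.mem_take_iff_getElem.mpr ⟨i, by omega, rfl⟩)

lemma isCohenMacaulayRing_of_local (T : Type u) [CommRing T] [LocCoh.IsCohenMacaulayLocalRing T] :
    LocCoh.IsCohenMacaulayRing T :=
  { isCohenMacaulayLocalRing_localization := fun p _ =>
      CMFlat.isCohenMacaulayLocalRing_atPrime T p }

lemma colon_eq {I : Ideal T} {a b : T} (h : ∀ x, x * (a * b) ∈ I → x * a ∈ I) :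
    I.colon {a * b} = I.colon {a} := by
  ext x
  rw [Submodule.mem_colon_singleton, Submodule.mem_colon_singleton, smul_eq_mul, smul_eq_mul]
  exact ⟨h x, fun hx => by rw [← mul_assoc]; exact Ideal.mul_mem_right _ _ hx⟩

theorem exists_dseq {T : Type u} [CommRing T] [LocCoh.IsCohenMacaulayLocalRing T]
    (p : Ideal T) [p.IsPrime] (hgen : (Submodule.spanFinrank p : ℕ∞) ≤ p.height + 1)
    [IsRegularLocalRing (Localization.AtPrime p)] :
    ∃ ts : List T, Ideal.ofList ts = p ∧ W4c5grrsingularflat.IsDSeq ts := by
  classical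
  haveI := isCohenMacaulayRing_of_local T
  let L := Localization.AtPrime p
  let φ : T →+* L := algebraMap T L
  have hφp : p.map φ = maximalIdeal L := Localization.AtPrime.map_eq_maximalIdeal
  have hmem : ∀ x ∈ p, φ x ∈ maximalIdeal L := fun x hx => hφp ▸ Ideal.mem_map_of_mem φ hx
  set n := Submodule.spanFinrank p with hn
  obtain ⟨h, hh⟩ : ∃ h : ℕ, p.height = h :=
    ⟨p.height.toNat, (ENat.natCast_toNat Ideal.height_ne_top_of_isPrime).symm⟩
  have hhn : h ≤ n := by
    have := Ideal.height_le_spanFinrank p (Ideal.IsPrime.ne_top ‹_›)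
    rw [hh, ← hn] at this
    exact_mod_cast this
  have hnh : n ≤ h + 1 := by rw [hh] at hgen; exact_mod_cast hgen
  have hLdim : Submodule.spanFinrank (maximalIdeal L) = h := by
    have h1 := IsRegularLocalRing.spanFinrank_maximalIdeal (R := L)
    rw [IsLocalization.AtPrime.ringKrullDim_eq_height p L, hh] at h1
    exact_mod_cast h1
  -- the first `h` elements
  have step : ∀ i, i ≤ h → ∃ xs : List T, xs.length = i ∧ IsWeaklyRegular T xs ∧ (∀ x ∈ xs, x ∈ p) ∧
      (∃ G : Finset T, G.card + i ≤ n ∧ p = Ideal.ofList xs ⊔ Ideal.span (G : Set T)) ∧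
      (∃ G : Finset L, G.card + i ≤ h ∧
        maximalIdeal L = Ideal.ofList (xs.map φ) ⊔ Ideal.span (G : Set L)) := by
    intro i
    induction i with
    | zero =>
      intro _
      obtain ⟨G, hG, hGp⟩ := exists_finset_span p
      obtain ⟨G', hG', hGp'⟩ := exists_finset_span (maximalIdeal L)
      exact ⟨[], rfl, IsWeaklyRegular.nil T T, by simp, ⟨G, by omega, by simpa using hGp⟩,
        ⟨G', by omega, by simpa using hGp'⟩⟩
    | succ i ih =>
      intro hi
      obtain ⟨xs, hlen, hw, hxp, ⟨G, hG, hGp⟩, ⟨G', hG', hGp'⟩⟩ := ih (by omega)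
      let A1 : Ideal T := (Ideal.ofList (xs.map φ) ⊔ maximalIdeal L * maximalIdeal L).comap φ
      let A2 : Ideal T := Ideal.ofList xs ⊔ maximalIdeal T * p
      have hA1 : ¬ p ≤ A1 := by
        intro hle
        have h1 : maximalIdeal L ≤ Ideal.ofList (xs.map φ) := by
          refine le_of_le_sup_mul ?_
          rw [← Ideal.map_le_iff_le_comap, hφp] at hle
          exact hle
        have h2 : Ideal.ofList (xs.map φ) = maximalIdeal L := by
          refine le_antisymm (Ideal.span_le.mpr fun r hr => ?_) h1
          obtain ⟨s, hs, rfl⟩ := List.mem_map.mp hr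
          exact hmem s (hxp s hs)
        have h3 := spanFinrank_ofList_le (xs.map φ)
        rw [h2, hLdim, List.length_map, hlen] at h3
        omega
      have hA2 : ¬ p ≤ A2 := by
        intro hle
        have h2 : Ideal.ofList xs = p :=
          le_antisymm (Ideal.span_le.mpr hxp) (le_of_le_sup_mul hle)
        have h3 := spanFinrank_ofList_le xs
        rw [h2, ← hn, hlen] at h3
        omega
      let M := T ⧸ Ideal.ofList xs
      have hfin : (associatedPrimes T M).Finite := associatedPrimes.finite T M
      let f : Option (Option (associatedPrimes T M)) → Ideal T := fun o => match o with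
        | none => A1
        | some none => A2
        | some (some P) => P.1
      haveI : Fintype (associatedPrimes T M) := hfin.fintype
      have hnot : ¬ ((p : Set T) ⊆ ⋃ o ∈ ((Finset.univ : Finset (Option (Option (associatedPrimes T M)))) :
          Set (Option (Option (associatedPrimes T M)))), (f o : Set T)) := by
        rw [Ideal.subset_union_prime none (some none)]
        · rintro ⟨o, -, hle⟩
          match o with
          | none => exact hA1 hle
          | some none => exact hA2 hle
          | some (some P) =>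
            have := (Ideal.height_mono (show p ≤ P.1 from hle)).trans
              (SectFinite.height_le_of_associated hw (P := P.1) P.2)
            rw [hh, hlen, Nat.cast_le] at this
            omega
        · intro o _ h1 h2
          match o with
          | none => exact absurd rfl h1
          | some none => exact absurd rfl h2
          | some (some P) => exact IsAssociatedPrime.isPrime P.2
      obtain ⟨x, hx, hxn⟩ := Set.not_subset.mp hnot
      simp only [Finset.coe_univ, Set.mem_univ, Set.iUnion_true, Set.mem_iUnion, SetLike.mem_coe,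
        not_exists] at hxn
      obtain ⟨G2, hG2, hG2p⟩ := exchange p xs G hGp hx (hxn (some none))
      obtain ⟨G3, hG3, hG3p⟩ := exchange (maximalIdeal L) (xs.map φ) G' hGp' (hmem x hx) (hxn none)
      have hreg : ∀ m : M, x • m = 0 → m = 0 := fun m hm => by
        by_contra hm0
        obtain ⟨P, hP, hle⟩ := exists_le_isAssociatedPrime_of_isNoetherianRing T m hm0
        exact hxn (some (some ⟨P, hP⟩)) (hle (by rw [Submodule.mem_colon_singleton, Submodule.mem_bot]; exact hm))
      refine ⟨xs ++ [x], by simp [hlen], ?_, ?_, ⟨G2, by omega, hG2p⟩, ⟨G3, by omega, ?_⟩⟩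
      · refine (isWeaklyRegular_append_iff T xs [x]).mpr ⟨hw, (isWeaklyRegular_cons_iff _ x []).mpr
          ⟨?_, IsWeaklyRegular.nil _ _⟩⟩
        let e : M ≃ₗ[T] T ⧸ (Ideal.ofList xs • ⊤ : Submodule T T) :=
          Submodule.quotEquivOfEq _ _ (by rw [smul_eq_mul, Ideal.mul_top])
        exact (e.isSMulRegular_congr x).mp (IsSMulRegular.of_right_eq_zero_of_smul hreg)
      · intro r hr
        rcases List.mem_append.mp hr with h | h
        · exact hxp r h
        · rw [List.mem_singleton.mp h]; exact hx
      · simpa using hG3p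
  obtain ⟨xs, hlen, hw, hxp, ⟨G, hG, hGp⟩, ⟨G', hG', hGp'⟩⟩ := step h le_rfl
  have hG'0 : G' = ∅ := Finset.card_eq_zero.mp (by omega)
  have hmax : maximalIdeal L = Ideal.ofList (xs.map φ) := by simpa [hG'0] using hGp'
  have hcolon_lt : ∀ (ts : List T) (i : ℕ) (hi : i < xs.length) (hts : ts.take i = xs.take i)
      (hti : ∀ hi' : i < ts.length, ts[i] = xs[i]) (hi' : i < ts.length) (y : T),
      (Ideal.ofList (ts.take i)).colon {y * ts[i]} = (Ideal.ofList (ts.take i)).colon {y} := by
    intro ts i hi hts hti hi' y
    refine colon_eq fun z hz => ?_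
    rw [hts] at hz ⊢
    rw [hti hi'] at hz
    have hr := hw.regular_mod_prev i hi
    suffices h0 : Ideal.Quotient.mk (Ideal.ofList (xs.take i)) (z * y) = 0 from
      Ideal.Quotient.eq_zero_iff_mem.mp h0
    let e : (T ⧸ (Ideal.ofList (xs.take i) • ⊤ : Submodule T T)) ≃ₗ[T] (T ⧸ Ideal.ofList (xs.take i)) :=
      Submodule.quotEquivOfEq _ _ (by rw [smul_eq_mul, Ideal.mul_top])
    have hr' := (e.isSMulRegular_congr xs[i]).mp hr
    apply hr'
    simp only [smul_zero]
    show Ideal.Quotient.mk (Ideal.ofList (xs.take i)) (xs[i] * (z * y)) = 0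
    rw [Ideal.Quotient.eq_zero_iff_mem, show xs[i] * (z * y) = z * (y * xs[i]) by ring]
    exact hz
  have hirr : ∀ ts : List T, Ideal.ofList ts = p → ts.length ≤ n → ∀ i : Fin ts.length,
      ts[i] ∉ Ideal.span (Set.range fun j : {j : Fin ts.length // j ≠ i} => ts[(j : Fin ts.length)]) := by
    intro ts hts htl i hmemi
    set J := Ideal.span (Set.range fun j : {j : Fin ts.length // j ≠ i} => ts[(j : Fin ts.length)])
      with hJ
    have hpJ : p = J := by
      refine le_antisymm ?_ (Ideal.span_le.mpr ?_)
      · rw [← hts]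
        refine Ideal.span_le.mpr fun r hr => ?_
        obtain ⟨m, hm, rfl⟩ := List.mem_iff_getElem.mp hr
        rcases eq_or_ne (⟨m, hm⟩ : Fin ts.length) i with h | h
        · subst h; exact hmemi
        · exact Ideal.subset_span ⟨⟨⟨m, hm⟩, h⟩, rfl⟩
      · rintro _ ⟨j, rfl⟩
        exact hts.le (Ideal.subset_span (List.getElem_mem _))
    have h1 : Submodule.spanFinrank J ≤ ts.length - 1 := by
      refine (Submodule.spanFinrank_span_le_ncard_of_finite (Set.finite_range _)).trans ?_
      rw [← Set.image_univ]
      refine (Set.ncard_image_le Set.finite_univ).trans ?_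
      rw [Set.ncard_univ, Nat.card_eq_fintype_card, Fintype.card_subtype_compl,
        Fintype.card_subtype_eq, Fintype.card_fin]
    rw [← hpJ, ← hn] at h1
    have := i.isLt
    omega
  rcases Nat.lt_or_ge h n with hlt | hge
  · -- one more generator
    have hn1 : n = h + 1 := by omega
    let A2 : Ideal T := Ideal.ofList xs ⊔ maximalIdeal T * p
    have hA2 : ¬ p ≤ A2 := by
      intro hle
      have h2 : Ideal.ofList xs = p := le_antisymm (Ideal.span_le.mpr hxp) (le_of_le_sup_mul hle)
      have h3 := spanFinrank_ofList_le xs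
      rw [h2, ← hn, hlen] at h3
      omega
    let M := T ⧸ Ideal.ofList xs
    have hfin : (associatedPrimes T M).Finite := associatedPrimes.finite T M
    haveI : Fintype (associatedPrimes T M) := hfin.fintype
    let f : Option {P : associatedPrimes T M // P.1 ≠ p} → Ideal T := fun o => match o with
      | none => A2
      | some P => P.1.1
    have hnot : ¬ ((p : Set T) ⊆ ⋃ o ∈ ((Finset.univ : Finset (Option {P : associatedPrimes T M // P.1 ≠ p})) :
        Set (Option {P : associatedPrimes T M // P.1 ≠ p})), (f o : Set T)) := by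
      rw [Ideal.subset_union_prime none none]
      · rintro ⟨o, -, hle⟩
        match o with
        | none => exact hA2 hle
        | some P =>
          have hPh := SectFinite.height_le_of_associated hw (P := P.1.1) P.1.2
          haveI := IsAssociatedPrime.isPrime P.1.2
          rw [hlen, ← hh] at hPh
          refine P.2 ?_
          by_contra hne
          have hlt' : p < P.1.1 := lt_of_le_of_ne (show p ≤ P.1.1 from hle) (Ne.symm hne)
          exact absurd hPh (not_le.mpr (Ideal.height_strict_mono_of_isPrime hlt'))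
      · intro o _ h1 _
        match o with
        | none => exact absurd rfl h1
        | some P => exact IsAssociatedPrime.isPrime P.1.2
    obtain ⟨t, ht, htn⟩ := Set.not_subset.mp hnot
    simp only [Finset.coe_univ, Set.mem_univ, Set.iUnion_true, Set.mem_iUnion, SetLike.mem_coe,
      not_exists] at htn
    obtain ⟨G2, hG2, hG2p⟩ := exchange p xs G hGp ht (htn none)
    have hG20 : G2 = ∅ := Finset.card_eq_zero.mp (by omega)
    have hts : Ideal.ofList (xs ++ [t]) = p := by simpa [hG20] using hG2p.symm
    refine ⟨xs ++ [t], hts, hirr _ hts (by simp [hlen, hn1]), fun i k hk hik => ?_⟩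
    by_cases hi : i < xs.length
    · exact hcolon_lt (xs ++ [t]) i hi (List.take_append_of_le_length hi.le)
        (fun _ => List.getElem_append_left hi) _ _
    · have hi' : i = xs.length := by simp at hk; omega
      have hk' : k = xs.length := by simp at hk; omega
      subst hi'
      subst hk'
      have htake : (xs ++ [t]).take xs.length = xs := by simp
      have hget : (xs ++ [t])[xs.length]'hk = t := by simp
      simp only [htake, hget]
      refine colon_eq fun z hz => ?_
      by_contra hzt
      have hy0 : (Ideal.Quotient.mk (Ideal.ofList xs) (z * t) : M) ≠ 0 := fun h0 =>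
        hzt (Ideal.Quotient.eq_zero_iff_mem.mp h0)
      obtain ⟨P, hP, hle⟩ := exists_le_isAssociatedPrime_of_isNoetherianRing T _ hy0
      have hmemcolon : ∀ s : T, s * (z * t) ∈ Ideal.ofList xs → s ∈ P := fun s hs => hle (by
        rw [Submodule.mem_colon_singleton, Submodule.mem_bot]
        show Ideal.Quotient.mk (Ideal.ofList xs) (s * (z * t)) = 0
        exact Ideal.Quotient.eq_zero_iff_mem.mpr hs)
      have htP : t ∈ P := hmemcolon t (by rw [show t * (z * t) = z * (t * t) by ring]; exact hz)
      have hPp : P = p := by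
        by_contra hne
        exact htn (some ⟨⟨P, hP⟩, hne⟩) htP
      have hzp : φ (z * t) ∈ (Ideal.ofList xs).map φ := by
        rw [Ideal.map_ofList, ← hmax]
        exact hmem _ (Ideal.mul_mem_left _ _ ht)
      obtain ⟨⟨⟨a, ha⟩, ⟨s, hs⟩⟩, hx⟩ := (IsLocalization.mem_map_algebraMap_iff p.primeCompl L).mp hzp
      rw [← map_mul, IsLocalization.eq_iff_exists p.primeCompl L] at hx
      obtain ⟨⟨c, hc⟩, hcx⟩ := hx
      have hcs : c * s ∈ P := hmemcolon _ (by
        rw [show c * s * (z * t) = c * a by linear_combination hcx]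
        exact Ideal.mul_mem_left _ _ ha)
      rw [hPp] at hcs
      exact ((inferInstance : p.IsPrime).mem_or_mem hcs).elim hc hs
  · have hG0 : G = ∅ := Finset.card_eq_zero.mp (by omega)
    have hts : Ideal.ofList xs = p := by simpa [hG0] using hGp.symm
    refine ⟨xs, hts, hirr _ hts (by omega), fun i k hk hik => ?_⟩
    exact hcolon_lt xs i (lt_of_le_of_lt hik hk) rfl (fun _ => rfl) _ _

end Groth.Agent.Misc3.DSeqPrime
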