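import Groth.Agent.Misc3.EtFieldTorsion
import Mathlib.GroupTheory.QuotientGroup.Defs
import Mathlib.Algebra.Category.Grp.Abelian
import Mathlib.Algebra.Homology.ShortComplex.Ab
import Mathlib.CategoryTheory.Abelian.FunctorCategory
import Mathlib.Algebra.Homology.ShortComplex.ExactFunctor

/-! `H^i(k, ℤ) = H^(i-1)(k, ℚ/ℤ)`. -/

set_option autoImplicit false
set_option backward.isDefEq.respectTransparency false
set_option linter.auxLemma false
set_option linter.style.haveILetI false
universe u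

open CategoryTheory CategoryTheory.Limits CategoryTheory.Abelian AlgebraicGeometry Opposite

noncomputable section

namespace Groth.Agent.Misc3.EtFieldRatModInt

attribute [local instance 100000] EtCoh.H._proof_1 EtMV.hext
attribute [local instance 200000] EtMV.hextAb

abbrev QZ : Type := ℚ ⧸ AddSubgroup.zmultiples (1 : ℚ)

/-- `ℤ → ℚ → ℚ/ℤ`, lifted one universe. -/
def sc : ShortComplex AddCommGrpCat.{u + 1} :=
  ShortComplex.mk
    (AddCommGrpCat.ofHom (AddEquiv.ulift.symm.toAddMonoidHom.comp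
      ((Int.castAddHom ℚ).comp AddEquiv.ulift.toAddMonoidHom) : ULift.{u + 1} ℤ →+ ULift.{u + 1} ℚ))
    (AddCommGrpCat.ofHom (AddEquiv.ulift.symm.toAddMonoidHom.comp
      ((QuotientAddGroup.mk' _).comp AddEquiv.ulift.toAddMonoidHom) : ULift.{u + 1} ℚ →+ ULift.{u + 1} QZ))
    (by
      ext ⟨n⟩
      show ((n : ℚ) : QZ) = 0
      exact (QuotientAddGroup.eq_zero_iff _).mpr ⟨n, by simp⟩)

theorem sc_shortExact : sc.{u}.ShortExact where
  exact := by
    rw [ShortComplex.ab_exact_iff]
    rintro ⟨q⟩ hq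
    have hq' : ((q : ℚ) : QZ) = 0 := congrArg ULift.down hq
    obtain ⟨n, hn⟩ := (QuotientAddGroup.eq_zero_iff _).mp hq'
    exact ⟨⟨n⟩, ULift.ext _ _ (show ((n : ℤ) : ℚ) = q by simpa using hn)⟩
  mono_f := (AddCommGrpCat.mono_iff_injective _).mpr fun ⟨a⟩ ⟨b⟩ h => by
    have h' : (a : ℚ) = b := congrArg ULift.down h
    exact ULift.ext _ _ (Int.cast_injective h')
  epi_g := (AddCommGrpCat.epi_iff_surjective _).mpr fun ⟨x⟩ => by
    obtain ⟨q, rfl⟩ := QuotientAddGroup.mk'_surjective _ x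
    exact ⟨⟨q⟩, rfl⟩

variable (X : Scheme.{u})

abbrev CS : AddCommGrpCat.{u + 1} ⥤ EtCoh.Ab X :=
  constantSheaf X.smallEtaleTopology AddCommGrpCat.{u + 1}

instance preservesFiniteLimits : PreservesFiniteLimits (CS X) :=
  comp_preservesFiniteLimits _ _

instance preservesFiniteColimits : PreservesFiniteColimits (CS X) :=
  comp_preservesFiniteColimits _ _

instance : (CS X).Additive := Functor.additive_of_preserves_binary_products _

theorem isIso_nsmul_constQ (n : ℕ) (hn : 0 < n) : IsIso (n • 𝟙 (EtCoh.const X ℚ)) := by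
  have e : ∀ m : ℕ, (CS X).map (m • 𝟙 (AddCommGrpCat.of (ULift.{u + 1} ℚ))) =
      m • 𝟙 (EtCoh.const X ℚ) := fun m => by
    rw [Functor.map_nsmul, CategoryTheory.Functor.map_id]
  haveI : IsIso (n • 𝟙 (AddCommGrpCat.of (ULift.{u + 1} ℚ))) := by
    rw [ConcreteCategory.isIso_iff_bijective]
    have e' : ∀ x, (n • 𝟙 (AddCommGrpCat.of (ULift.{u + 1} ℚ))) x = n • x := by
      intro x
      induction n with
      | zero => exact absurd hn (lt_irrefl 0)
      | succ m ih =>
        rcases Nat.eq_zero_or_pos m with rfl | hm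
        · simp
        · rw [succ_nsmul, succ_nsmul, ← ih hm]; rfl
    constructor
    · intro a b h
      rw [e', e'] at h
      have h' : (n : ℚ) * a.down = n * b.down := by simpa using congrArg ULift.down h
      exact ULift.ext _ _ (mul_left_cancel₀ (Nat.cast_ne_zero.mpr hn.ne') h')
    · intro a
      refine ⟨⟨a.down / n⟩, ?_⟩
      rw [e']
      apply ULift.ext
      have hn' : (n : ℚ) ≠ 0 := Nat.cast_ne_zero.mpr hn.ne'
      show n • (a.down / (n : ℚ)) = a.down
      rw [nsmul_eq_mul]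
      field_simp
  rw [← e n]
  infer_instance

theorem nonempty_equiv (k : Type u) [Field k] (i : ℕ) (hi : 2 ≤ i) :
    Nonempty (EtCoh.H (Spec (CommRingCat.of k)) (EtCoh.const (Spec (CommRingCat.of k)) ℤ) i ≃+
      EtCoh.H (Spec (CommRingCat.of k))
        (EtCoh.const (Spec (CommRingCat.of k)) (ℚ ⧸ AddSubgroup.zmultiples (1 : ℚ))) (i - 1)) := by
  obtain ⟨j, rfl⟩ : ∃ j, i = j + 1 := ⟨i - 1, by omega⟩
  let X := Spec (CommRingCat.of k)
  have hS : (sc.{u}.map (CS X)).ShortExact := sc_shortExact.map_of_exact (CS X)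
  have hQ : ∀ m : ℕ, 0 < m → Subsingleton
      (Ext (EtCoh.const X ℤ) (sc.{u}.map (CS X)).X₂ m) := fun m hm =>
    EtFieldTorsion.subsingleton_of_divisible k (EtCoh.const X ℚ) (isIso_nsmul_constQ X) m hm
  let δ : Ext (EtCoh.const X ℤ) (sc.{u}.map (CS X)).X₃ j →+
      Ext (EtCoh.const X ℤ) (sc.{u}.map (CS X)).X₁ (j + 1) := hS.extClass.postcomp _ rfl
  have hsurj : Function.Surjective δ := fun x => by
    haveI := hQ (j + 1) (by omega)
    exact Ext.covariant_sequence_exact₁ _ hS x (Subsingleton.elim _ _) rfl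
  have hinj : Function.Injective δ := (injective_iff_map_eq_zero _).mpr fun x hx => by
    haveI := hQ j (by omega)
    obtain ⟨y, rfl⟩ := Ext.covariant_sequence_exact₃ _ hS x rfl hx
    rw [Subsingleton.elim y 0, Ext.zero_comp]
  rw [Nat.add_sub_cancel]
  exact ⟨(AddEquiv.ofBijective δ ⟨hinj, hsurj⟩).symm⟩

end Groth.Agent.Misc3.EtFieldRatModInt
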