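import Groth.Agent.Misc3.EtFieldTorsion
import Groth.Agent.EtMV.Etale
import Groth.Agent.EtMV.Main

/-! Transfer along a finite separable extension, not necessarily Galois. -/

set_option autoImplicit false
set_option backward.isDefEq.respectTransparency false
set_option linter.auxLemma false
set_option linter.style.haveILetI false
universe u

open CategoryTheory CategoryTheory.Limits CategoryTheory.Abelian AlgebraicGeometry Opposite

noncomputable section

namespace Groth.Agent.Misc3.EtSepTransfer

attribute [local instance 100000] EtCoh.H._proof_1 EtMV.hext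
attribute [local instance 200000] EtMV.hextAb

theorem card_nsmul_eq_zero {X : Scheme.{u}} {ι : Type u} [Fintype ι] (Y Y' : X.Etale)
    (hY' : Function.Surjective Y'.hom.base) (σ : ι → (Y' ⟶ Y))
    (hcov : ∀ (Z : X.Etale) (p q : Z ⟶ Y') (z : Z.left), ∃ (Z' : X.Etale) (j : Z' ⟶ Z) (w : Z'.left),
      j.left w = z ∧ ∃ e : ι ≃ ι, ∀ i, j ≫ q ≫ σ i = j ≫ p ≫ σ (e i))
    (F : EtCoh.Ab X) (n : ℕ) (c : Ext ((EtMV.P X).obj (EtCoh.top X)) F n)
    (hc : (Ext.mk₀ ((EtMV.P X).map (EtMV.toTop Y))).comp c (zero_add n) = 0) :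
    Fintype.card ι • c = 0 := by
  let G := (EtMV.P X).obj Y
  let N := (EtMV.P X).obj (EtCoh.top X)
  let s : EtCoh.sect G Y' := ∑ i : ι, EtFLC.res G (σ i) (EtMV.uel Y)
  have hs : ∀ {Z : X.Etale} (p q : Z ⟶ Y'), EtFLC.res G p s = EtFLC.res G q s := by
    intro Z p q
    refine EtFLC.sect_ext G fun z => ?_
    obtain ⟨Z', j, w, hw, e, he⟩ := hcov Z p q z
    refine ⟨Z', j, w, hw, ?_⟩
    simp only [s, map_sum, EtFLC.res_res]
    symm
    refine Fintype.sum_equiv e _ _ fun i => ?_
    congr 2
    simp only [Category.assoc, he]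
  obtain ⟨t₀, ht⟩ := EtTransfer.exists_descend G Y' hY' s hs
  let t : N ⟶ G := EtMV.σ.symm t₀
  have htt : t ≫ (EtMV.P X).map (EtMV.toTop Y) = Fintype.card ι • 𝟙 _ := by
    refine EtMV.σ.injective ?_
    rw [EtMV.σ_comp, Equiv.apply_symm_apply]
    let π := EtMV.toTop Y'
    have hinj : ∀ a b : EtCoh.sect N (EtCoh.top X), EtFLC.res N π a = EtFLC.res N π b → a = b := by
      intro a b hab
      refine EtFLC.sect_ext N fun x => ?_
      obtain ⟨y, hy⟩ := hY' x
      exact ⟨Y', π, y, hy, hab⟩
    refine hinj _ _ ?_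
    rw [← EtFLC.app_res, ht]
    have h1 : ∀ i, (((EtMV.P X).map (EtMV.toTop Y)).hom.app (op Y')).hom (EtFLC.res G (σ i) (EtMV.uel Y)) =
        EtFLC.res N π (EtMV.uel (EtCoh.top X)) := by
      intro i
      rw [EtFLC.app_res, ← EtMV.σ_eq]
      change N.obj.map (σ i).op _ = N.obj.map π.op (EtMV.uel (EtCoh.top X))
      rw [← EtMV.σ_map, EtMV.uel, ← EtMV.σ_map, ← Functor.map_comp, Category.comp_id,
        EtMV.hom_top_ext (σ i ≫ EtMV.toTop Y) π]
    simp only [s, map_sum]
    refine (Finset.sum_congr rfl fun i _ => h1 i).trans ?_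
    rw [Finset.sum_const, Finset.card_univ, ← map_nsmul]
    congr 1
  calc Fintype.card ι • c = (Ext.mk₀ (Fintype.card ι • 𝟙 N)).comp c (zero_add n) := by
        induction Fintype.card ι with
        | zero => rw [zero_smul, zero_smul, Ext.mk₀_zero, Ext.zero_comp]
        | succ m ih => rw [succ_nsmul, succ_nsmul, Ext.mk₀_add, Ext.add_comp, ← ih, Ext.mk₀_id_comp]
    _ = 0 := by rw [← htt, ← Ext.mk₀_comp_mk₀_assoc, hc, Ext.comp_zero]

theorem finrank_nsmul_eq_zero (K : Type u) [Field K] (F : EtCoh.Ab (Spec (CommRingCat.of K))) (n : ℕ)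
    (α : EtCoh.H (Spec (CommRingCat.of K)) F n) (L : Type u) [Field L] [Algebra K L] [FiniteDimensional K L]
    [Algebra.IsSeparable K L] [PreservesFiniteLimits (EtCoh.pull (Spec.map (CommRingCat.ofHom (algebraMap K L))))]
    (hα : EtCore.Hpull (Spec.map (CommRingCat.ofHom (algebraMap K L))) F n α = 0) :
    Module.finrank K L • α = 0 := by
  let X := Spec (CommRingCat.of K)
  have hE : ∀ (E : Type u) [Field E] [Algebra K E] [FiniteDimensional K E] [Algebra.IsSeparable K E],
      Etale (Spec.map (CommRingCat.ofHom (algebraMap K E))) := by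
    intro E _ _ _ _
    rw [HasRingHomProperty.Spec_iff (P := @Etale)]
    haveI : Algebra.FormallyEtale K E := Algebra.FormallyEtale.of_isSeparable K E
    haveI : Algebra.FinitePresentation K E := Algebra.FinitePresentation.of_finiteType.mp inferInstance
    haveI : Algebra.Etale K E := ⟨inferInstance, inferInstance⟩
    exact RingHom.etale_algebraMap.mpr this
  haveI := hE L
  let fL : Spec (CommRingCat.of L) ⟶ X := Spec.map (CommRingCat.ofHom (algebraMap K L))
  let Y : X.Etale := Scheme.Etale.mk fL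
  let c := (EtMV.eX X F n).symm α
  have hc : (Ext.mk₀ ((EtMV.P X).map (EtMV.toTop Y))).comp c (zero_add n) = 0 := by
    refine (EtMV.Tcc_etale_bijective fL F n).1 ?_
    rw [map_zero, EtMV.T_precomp,
      show EtMV.cc fL (EtMV.δd fL) ≫ (EtCoh.pull fL).map ((EtMV.P X).map (EtMV.toTop Y)) =
          EtMV.cc fL (EtMV.δtop fL) by
        apply (EtMV.κ_bijective _).1
        rw [EtMV.κ_cc_map, EtMV.κ_cc, ← Category.comp_id ((EtMV.P X).map _), EtMV.σ_map]
        exact EtMV.r_res fL (EtMV.δtop fL) (EtMV.δd fL) (EtMV.toTop Y) EtMV.thin_top _ (EtMV.uel _)]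
    exact (EtMV.Hpull_eq fL F n α).symm.trans hα
  -- a Galois extension splitting `L`
  let Ω := AlgebraicClosure L
  let N := IntermediateField.normalClosure K L Ω
  haveI : IsGalois K N := by
    haveI : Algebra.IsSeparable K N := (le_separableClosure_iff K Ω N).1 (normalClosure_le_iff.2 fun φ => by
      rintro _ ⟨y, rfl⟩
      rw [mem_separableClosure_iff]
      show (minpoly K (φ y)).Separable
      rw [minpoly.algHom_eq φ φ.injective]
      exact Algebra.IsSeparable.isSeparable K y)
    exact IsGalois.mk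
  haveI := hE N
  let Y' : X.Etale := Scheme.Etale.mk (Spec.map (CommRingCat.ofHom (algebraMap K N)))
  let σ : (L →ₐ[K] N) → (Y' ⟶ Y) := fun φ => MorphismProperty.Over.homMk
    (Spec.map (CommRingCat.ofHom φ.toRingHom)) (by
      show Spec.map _ ≫ Spec.map _ = Spec.map _
      rw [← Spec.map_comp]
      congr 1
      exact CommRingCat.hom_ext (RingHom.ext fun x => φ.commutes x))
  have hY' : Function.Surjective Y'.hom.base := fun x =>
    ⟨(default : ↥(Spec (CommRingCat.of N))), @Subsingleton.elim ↥(Spec (CommRingCat.of K)) _ _ _⟩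
  have hcard : Fintype.card (L →ₐ[K] N) = Module.finrank K L := by
    rw [← AlgHom.card K L Ω]
    exact Fintype.card_congr (normalClosure.algHomEquiv K L Ω)
  rw [← (EtMV.eX X F n).apply_symm_apply α, ← map_nsmul, ← hcard]
  refine (congrArg (EtMV.eX X F n) (card_nsmul_eq_zero Y Y' hY' σ ?_ F n c hc)).trans (map_zero _)
  intro Z p q z
  let κ := Z.left.residueField z
  obtain ⟨a, ha⟩ := Spec.map_surjective (Z.left.fromSpecResidueField z ≫ p.left)
  obtain ⟨b, hb⟩ := Spec.map_surjective (Z.left.fromSpecResidueField z ≫ q.left)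
  have hab : ∀ x : K, a.hom (algebraMap K N x) = b.hom (algebraMap K N x) := by
    have e : CommRingCat.ofHom (algebraMap K N) ≫ a = CommRingCat.ofHom (algebraMap K N) ≫ b := by
      apply Spec.map_injective
      rw [Spec.map_comp, Spec.map_comp, ha, hb]
      simp only [Category.assoc]
      exact congrArg _ ((MorphismProperty.Over.w p).trans (MorphismProperty.Over.w q).symm)
    exact fun x => RingHom.congr_fun (congrArg CommRingCat.Hom.hom e) x
  letI : Algebra N κ := a.hom.toAlgebra
  letI : Algebra K κ := (a.hom.comp (algebraMap K N)).toAlgebra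
  haveI : IsScalarTower K N κ := IsScalarTower.of_algebraMap_eq fun _ => rfl
  let b' : N →ₐ[K] κ := { b.hom with commutes' := fun x => (hab x).symm }
  let g := b'.restrictNormal' N
  have hg : ∀ x, a.hom (g x) = b.hom x := fun x => b'.restrictNormal_commutes N x
  let τ : Y' ⟶ Y' := MorphismProperty.Over.homMk (Spec.map (CommRingCat.ofHom g.toAlgHom.toRingHom)) (by
    show Spec.map _ ≫ Spec.map _ = Spec.map _
    rw [← Spec.map_comp]
    congr 1
    exact CommRingCat.hom_ext (RingHom.ext fun x => g.commutes x))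
  have hpt : Z.left.fromSpecResidueField z ≫ q.left = Z.left.fromSpecResidueField z ≫ (p ≫ τ).left := by
    rw [MorphismProperty.Comma.comp_left]
    show _ = _ ≫ p.left ≫ Spec.map _
    rw [← hb, ← Category.assoc, ← ha, ← Spec.map_comp]
    congr 1
    ext x
    exact (hg x).symm
  obtain ⟨Z', j, w, hw, hj⟩ := EtFieldTorsion.exists_nhd_eq q (p ≫ τ) z hpt
  refine ⟨Z', j, w, hw, AlgEquiv.arrowCongr AlgEquiv.refl g, fun φ => ?_⟩
  rw [← Category.assoc, hj, Category.assoc, Category.assoc]
  congr 2
  apply MorphismProperty.Over.Hom.ext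
  rw [MorphismProperty.Comma.comp_left]
  show Spec.map _ ≫ Spec.map _ = Spec.map _
  rw [← Spec.map_comp]
  rfl

end Groth.Agent.Misc3.EtSepTransfer
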