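import Groth.Agent.EtMV.Main
import Groth.Agent.EtMV.KillClass
import Groth.Agent.EtFLC.Site

/-! Transfer along a Galois covering: positive degree classes killed by it are killed by its degree. -/

set_option autoImplicit false
set_option backward.isDefEq.respectTransparency false
set_option linter.auxLemma false
universe u

open CategoryTheory CategoryTheory.Limits CategoryTheory.Abelian AlgebraicGeometry Opposite

noncomputable section

namespace Groth.Agent.Misc3.EtTransfer

attribute [local instance 100000] EtCoh.H._proof_1 EtMV.hext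
attribute [local instance 200000] EtMV.hextAb

variable {X : Scheme.{u}}

/-- Descent of an invariant section along a covering whose double points are translates. -/
theorem exists_descend (F : EtCoh.Ab X) (Y : X.Etale) (hY : Function.Surjective Y.hom.base)
    (s : EtCoh.sect F Y)
    (hs : ∀ {Z : X.Etale} (p q : Z ⟶ Y), EtFLC.res F p s = EtFLC.res F q s) :
    ∃ t : EtCoh.sect F (EtCoh.top X), EtFLC.res F (EtMV.toTop Y) t = s := by
  let P : X.Etaleᵒᵖ ⥤ Type (u + 1) := F.obj ⋙ forget AddCommGrpCat.{u + 1}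
  have hsh : Presieve.IsSheaf X.smallEtaleTopology P :=
    (isSheaf_iff_isSheaf_of_type _ _).1
      ((sheafCompose X.smallEtaleTopology (forget AddCommGrpCat.{u + 1})).obj F).property
  have hmem : Sieve.ofArrows (fun _ : PUnit.{u + 1} => Y) (fun _ => EtMV.toTop Y) ∈
      X.smallEtaleTopology (EtCoh.top X) := by
    rw [Scheme.ofArrows_mem_smallEtaleTopology_iff]
    refine Set.eq_univ_of_forall fun x => ?_
    obtain ⟨y, hy⟩ := hY x
    exact Set.mem_iUnion.2 ⟨⟨⟩, y, hy⟩
  have h := (Presieve.isSheafFor_iff_generate _).2 (hsh _ hmem)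
  rw [Presieve.ofArrows_pUnit, Presieve.isSheafFor_singleton] at h
  obtain ⟨t, ht, -⟩ := h s fun {Z} p q _ => hs p q
  exact ⟨t, ht⟩

variable {G : Type u} [Group G] [Fintype G] (Y : X.Etale) (hY : Function.Surjective Y.hom.base)
  (σ : G → (Y ⟶ Y)) (hmul : ∀ a b, σ a ≫ σ b = σ (a * b))
  (hcov : ∀ (Z : X.Etale) (p q : Z ⟶ Y) (z : Z.left), ∃ (Z' : X.Etale) (j : Z' ⟶ Z) (w : Z'.left),
    j.left w = z ∧ ∃ g : G, j ≫ q = j ≫ p ≫ σ g)

include hY hmul hcov in
/-- The sum of the sheets as a morphism from the free sheaf on the final object. -/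
theorem exists_trace :
    ∃ t : (EtMV.P X).obj (EtCoh.top X) ⟶ (EtMV.P X).obj Y,
      t ≫ (EtMV.P X).map (EtMV.toTop Y) = Fintype.card G • 𝟙 _ := by
  let F := (EtMV.P X).obj Y
  let s : EtCoh.sect F Y := ∑ g : G, EtFLC.res F (σ g) (EtMV.uel Y)
  have hs : ∀ {Z : X.Etale} (p q : Z ⟶ Y), EtFLC.res F p s = EtFLC.res F q s := by
    intro Z p q
    refine EtFLC.sect_ext F fun z => ?_
    obtain ⟨Z', j, w, hw, g₀, hg⟩ := hcov Z p q z
    refine ⟨Z', j, w, hw, ?_⟩
    rw [EtFLC.res_res, EtFLC.res_res, hg]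
    simp only [s, map_sum, EtFLC.res_res]
    symm
    refine Fintype.sum_equiv (Equiv.mulLeft g₀) _ _ fun g => ?_
    congr 2
    simp only [Equiv.coe_mulLeft, Category.assoc, hmul]
  obtain ⟨t, ht⟩ := exists_descend F Y hY s hs
  refine ⟨EtMV.σ.symm t, EtMV.σ.injective ?_⟩
  let π := EtMV.toTop Y
  let N := (EtMV.P X).obj (EtCoh.top X)
  rw [EtMV.σ_comp, Equiv.apply_symm_apply]
  have hinj : ∀ a b : EtCoh.sect N (EtCoh.top X), EtFLC.res N π a = EtFLC.res N π b → a = b := by
    intro a b hab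
    refine EtFLC.sect_ext N fun x => ?_
    obtain ⟨y, hy⟩ := hY x
    exact ⟨Y, π, y, hy, hab⟩
  refine hinj _ _ ?_
  rw [← EtFLC.app_res, ht]
  have h1 : ∀ g : G, (((EtMV.P X).map π).hom.app (op Y)).hom (EtFLC.res F (σ g) (EtMV.uel Y)) =
      EtFLC.res N π (EtMV.uel (EtCoh.top X)) := by
    intro g
    have e1 := EtMV.σ_eq ((EtMV.P X).map (σ g) ≫ (EtMV.P X).map π)
    rw [EtFLC.app_res, ← EtMV.σ_eq]
    change _ = N.obj.map π.op (EtMV.uel (EtCoh.top X))
    change N.obj.map (σ g).op _ = _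
    rw [← EtMV.σ_map, EtMV.uel, ← EtMV.σ_map, ← Functor.map_comp, Category.comp_id,
      EtMV.hom_top_ext (σ g ≫ π) π]
  simp only [s, map_sum]
  refine (Finset.sum_congr rfl fun g _ => h1 g).trans ?_
  rw [Finset.sum_const, Finset.card_univ, ← map_nsmul]
  congr 1

include hY hmul hcov in
theorem card_nsmul_eq_zero (F : EtCoh.Ab X) (n : ℕ) (c : Ext ((EtMV.P X).obj (EtCoh.top X)) F n)
    (hc : (Ext.mk₀ ((EtMV.P X).map (EtMV.toTop Y))).comp c (zero_add n) = 0) :
    Fintype.card G • c = 0 := by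
  obtain ⟨t, ht⟩ := exists_trace Y hY σ hmul hcov
  calc Fintype.card G • c = (Ext.mk₀ (Fintype.card G • 𝟙 ((EtMV.P X).obj (EtCoh.top X)))).comp c (zero_add n) := by
        induction Fintype.card G with
        | zero => rw [zero_smul, zero_smul, Ext.mk₀_zero, Ext.zero_comp]
        | succ m ih => rw [succ_nsmul, succ_nsmul, Ext.mk₀_add, Ext.add_comp, ← ih, Ext.mk₀_id_comp]
    _ = 0 := by rw [← ht, ← Ext.mk₀_comp_mk₀_assoc, hc, Ext.comp_zero]

end Groth.Agent.Misc3.EtTransfer
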