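import Mathlib.RingTheory.FormalGroup.Basic
import Mathlib.Algebra.Ring.GeomSum
import Mathlib.Tactic

/-! Inverse series of a one-dimensional formal group law. -/

namespace Groth.Agent.Misc3

open PowerSeries

variable {R : Type*} [CommRing R]

/-- `h` in slot `e` and the variable in the other one. -/
noncomputable def slot (e : Fin 2) (h : PowerSeries R) : Fin 2 → PowerSeries R :=
  fun i => if i = e then h else PowerSeries.X

theorem slot_cc {e : Fin 2} {h : PowerSeries R} (hh : h.constantCoeff = 0) (i : Fin 2) :
    MvPowerSeries.constantCoeff (slot e h i) = 0 := by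
  show PowerSeries.constantCoeff (slot e h i) = 0
  rw [slot]; split_ifs
  · exact hh
  · exact PowerSeries.constantCoeff_X

theorem hasSubst_slot {e : Fin 2} {h : PowerSeries R} (hh : h.constantCoeff = 0) :
    MvPowerSeries.HasSubst (slot e h) := MvPowerSeries.hasSubst_of_constantCoeff_zero (slot_cc hh)

/-- The coefficient in degree `n` of the substitution. -/
theorem coeff_slot_sub (F : FormalGroup R) (e : Fin 2) {h h' : PowerSeries R} (hh : h.constantCoeff = 0)
    (hh' : h'.constantCoeff = 0) {n : ℕ} (hn : 1 ≤ n) (heq : ∀ i < n, coeff i h = coeff i h') :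
    coeff n (F.toPowerSeries.subst (slot e h) : PowerSeries R) -
      coeff n (F.toPowerSeries.subst (slot e h') : PowerSeries R) = coeff n h - coeff n h' := by
  classical
  have hdiv : (X : PowerSeries R) ^ n ∣ h - h' := X_pow_dvd_iff.2 fun i hi => by
    rw [map_sub, heq i hi, sub_self]
  have hlin : F.toPowerSeries.coeff (Finsupp.single e 1) = 1 := by
    fin_cases e
    · exact F.lin_coeff_X
    · exact F.lin_coeff_Y
  simp only [PowerSeries.coeff]
  rw [MvPowerSeries.coeff_subst (hasSubst_slot hh), MvPowerSeries.coeff_subst (hasSubst_slot hh'),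
    ← finsum_sub_distrib (MvPowerSeries.coeff_subst_finite (hasSubst_slot hh) _ _)
      (MvPowerSeries.coeff_subst_finite (hasSubst_slot hh') _ _),
    finsum_eq_single _ (Finsupp.single e 1)]
  · simp [hlin, slot]
  · intro d hd
    rw [← smul_sub, ← map_sub]
    by_cases hde : d e = 0
    · have : (d.prod fun i m => slot e h i ^ m) = d.prod fun i m => slot e h' i ^ m := by
        refine Finsupp.prod_congr fun i hi => ?_
        have hie : i ≠ e := fun h => Finsupp.mem_support_iff.1 hi (h ▸ hde)
        rw [slot, slot, if_neg hie, if_neg hie]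
      rw [this, sub_self, map_zero, smul_zero]
    · obtain ⟨o, hoe, hsplit⟩ : ∃ o, o ≠ e ∧ ∀ f : Fin 2 → PowerSeries R, ∏ i, f i = f e * f o := by
        fin_cases e
        · exact ⟨1, by decide, fun f => Fin.prod_univ_two f⟩
        · exact ⟨0, by decide, fun f => by rw [Fin.prod_univ_two]; exact mul_comm _ _⟩
      have hprod : ∀ g : PowerSeries R, (d.prod fun i m => slot e g i ^ m) = g ^ d e * X ^ d o := fun g => by
        rw [Finsupp.prod_fintype _ _ (fun _ => pow_zero _), hsplit]
        simp [slot, hoe]
      rw [hprod, hprod]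
      have h2 : 2 ≤ d e + d o := by
        by_contra hlt
        refine hd (Finsupp.ext fun i => ?_)
        rcases eq_or_ne i e with rfl | hi
        · rw [Finsupp.single_eq_same]; omega
        · rw [Finsupp.single_eq_of_ne hi]
          have : i = o := by fin_cases e <;> fin_cases i <;> fin_cases o <;> simp_all
          rw [this]; omega
      have hg : (X : PowerSeries R) ^ (d e - 1) ∣
          ∑ i ∈ Finset.range (d e), h ^ i * h' ^ (d e - 1 - i) := by
        refine Finset.dvd_sum fun i hi => ?_
        have hi' := Finset.mem_range.1 hi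
        have := mul_dvd_mul (pow_dvd_pow_of_dvd (X_dvd_iff.2 hh) i) (pow_dvd_pow_of_dvd (X_dvd_iff.2 hh') (d e - 1 - i))
        rwa [← pow_add, show i + (d e - 1 - i) = d e - 1 by omega] at this
      have hd3 : (X : PowerSeries R) ^ (n + 1) ∣ h ^ d e * X ^ d o - h' ^ d e * X ^ d o := by
        rw [← sub_mul, ← geom_sum₂_mul]
        refine (pow_dvd_pow _ (show n + 1 ≤ d e - 1 + n + d o by omega)).trans ?_
        rw [pow_add, pow_add]
        exact mul_dvd_mul (mul_dvd_mul hg hdiv) dvd_rfl
      have := X_pow_dvd_iff.1 hd3 n (Nat.lt_succ_self n)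
      rw [PowerSeries.coeff] at this
      rw [this, smul_zero]

/-- Coefficients of the inverse. -/
noncomputable def invCoeff (F : FormalGroup R) (e : Fin 2) : ℕ → R
  | n => if n = 0 then 0 else
    -coeff n (F.toPowerSeries.subst (slot e (PowerSeries.mk fun i => if h : i < n then invCoeff F e i else 0)) :
      PowerSeries R)

theorem exists_inverse (F : FormalGroup R) (e : Fin 2) :
    ∃ g : PowerSeries R, g.constantCoeff = 0 ∧ (F.toPowerSeries.subst (slot e g) : PowerSeries R) = 0 := by
  classical
  have h0 : invCoeff F e 0 = 0 := by rw [invCoeff]; simp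
  have hg : PowerSeries.constantCoeff (PowerSeries.mk (invCoeff F e)) = 0 := by simp [h0]
  refine ⟨PowerSeries.mk (invCoeff F e), hg, PowerSeries.ext fun n => ?_⟩
  rw [map_zero]
  rcases Nat.eq_zero_or_pos n with rfl | hn
  · rw [PowerSeries.coeff_zero_eq_constantCoeff_apply]
    exact MvPowerSeries.constantCoeff_subst_eq_zero (hasSubst_slot hg) (slot_cc hg) F.zero_constantCoeff
  · set t := PowerSeries.mk fun i => if h : i < n then invCoeff F e i else 0
    have ht : t.constantCoeff = 0 := by simp [t, h0, hn]
    have key := coeff_slot_sub F e hg ht hn fun i hi => by simp [t, hi]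
    rw [PowerSeries.coeff_mk, show coeff n t = 0 by simp [t], sub_zero,
      show invCoeff F e n = -coeff n (F.toPowerSeries.subst (slot e t) : PowerSeries R) by
        rw [invCoeff, if_neg hn.ne']] at key
    linear_combination key

theorem inverse_series (F : FormalGroup R) :
    ∃ g : PowerSeries R, g.constantCoeff = 0 ∧
      F.toPowerSeries.subst ![PowerSeries.X, g] = (0 : PowerSeries R) ∧
      F.toPowerSeries.subst ![g, PowerSeries.X] = (0 : PowerSeries R) ∧
      ∀ l : PowerSeries R, l.constantCoeff = 0 →
        (F.toPowerSeries.subst ![PowerSeries.X, l] = (0 : PowerSeries R) ∨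
          F.toPowerSeries.subst ![l, PowerSeries.X] = (0 : PowerSeries R)) → l = g := by
  have hs : ∀ h : PowerSeries R, slot 1 h = ![X, h] ∧ slot 0 h = ![h, X] := fun h =>
    ⟨funext fun i => by fin_cases i <;> simp [slot], funext fun i => by fin_cases i <;> simp [slot]⟩
  obtain ⟨g, hg, h1⟩ := exists_inverse F 1
  obtain ⟨g', hg', h2⟩ := exists_inverse F 0
  rw [(hs g).1] at h1
  rw [(hs g').2] at h2
  let x : F.Point Unit := ⟨X, PowerSeries.HasSubst.X'⟩
  let pt : ∀ h : PowerSeries R, h.constantCoeff = 0 → F.Point Unit := fun h hh =>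
    ⟨h, PowerSeries.HasSubst.of_constantCoeff_zero' hh⟩
  have hr : x + pt g hg = 0 := Subtype.ext h1
  have hl : pt g' hg' + x = 0 := Subtype.ext h2
  have e : pt g' hg' = pt g hg := left_neg_eq_right_neg hl hr
  have e' : g' = g := congrArg Subtype.val e
  refine ⟨g, hg, h1, e' ▸ h2, fun l hl' h => ?_⟩
  rcases h with h | h
  · have hx : x + pt l hl' = 0 := Subtype.ext h
    have h3 : pt g' hg' = pt l hl' := left_neg_eq_right_neg hl hx
    exact (congrArg Subtype.val h3).symm.trans e'
  · have hx : pt l hl' + x = 0 := Subtype.ext h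
    have h3 : pt l hl' = pt g hg := left_neg_eq_right_neg hx hr
    exact congrArg Subtype.val h3

end Groth.Agent.Misc3
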