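import Groth.Prelude.Def_W4c2azumayainvolQEt
import Mathlib.RingTheory.LocalRing.Basic
import Mathlib.RingTheory.Jacobson.Radical
import Mathlib.RingTheory.Jacobson.Ideal
import Mathlib.LinearAlgebra.Matrix.NonsingularInverse
import Mathlib.RingTheory.MvPolynomial.Basic
import Mathlib.RingTheory.Ideal.Quotient.Operations
import Mathlib.RingTheory.Localization.Away.Basic
import Mathlib.RingTheory.TensorProduct.Basic
import Mathlib.Tactic

set_option autoImplicit false
universe u v w

open TensorProduct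

namespace Groth.Agent.Misc3.HermCongr

/-- The explicit congruence over a ring in which a square root `r` of `1 + a * d'` is given. -/
lemma exists_basis {A : Type w} [CommRing A] (σ : A →+* A) (a b binv d r u w q : A)
    (hb : b * binv = 1) (ha : σ a = -a) (hd : σ d = -d) (hr : σ r = r) (hu' : σ u = u)
    (hw' : σ w = w) (hq' : σ q = q) (hσσ : σ (σ binv) = binv)
    (hr2 : r * r = 1 + a * (d * binv * σ binv))
    (hu : u * (1 + r) = 1) (hq : q * r = 1) (hw : 2 * (r * r) * w = 1) :
    ∃ v : Matrix (Fin 2) (Fin 2) A, IsUnit v ∧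
      (v.map σ).transpose * !![a, b; -σ b, d] * v = !![0, 1; -1, 0] := by
  have hB : σ b * σ binv = 1 := by rw [← map_mul, hb, map_one]
  set dd := d * binv * σ binv with hdd
  set c := -(a * u) with hc
  set β := dd * w with hβ
  have hσdd : σ dd = -dd := by
    rw [hdd, map_mul, map_mul, hd, hσσ]; ring
  have hσc : σ c = -c := by rw [hc, map_neg, map_mul, ha, hu']; ring
  have hσβ : σ β = -β := by rw [hβ, map_mul, hσdd, hw']; ring
  have key : a + 2 * c - dd * c ^ 2 = 0 := by
    rw [hc]
    linear_combination (a * u ^ 2) * hr2 - (a * (1 - u + r * u)) * hu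
  have k1 : 1 - c * dd = r := by
    rw [hc]
    linear_combination (-u) * hr2 + (r - 1) * hu
  have hq2 : q ^ 2 = 2 * w := by
    linear_combination (-q ^ 2) * hw + (2 * w * (q * r + 1)) * hq
  refine ⟨!![1, β; binv * c, binv * (c * β + q)], ?_, ?_⟩
  · rw [Matrix.isUnit_iff_isUnit_det, Matrix.det_fin_two_of]
    refine IsUnit.of_mul_eq_one (b * r) ?_
    linear_combination (q * r) * hb + hq
  · have h00 : a + b * (binv * c) + (σ binv * -c) * (-σ b + d * (binv * c)) = 0 := by
      rw [hdd] at key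
      linear_combination key + c * hb + c * hB
    have h01 : a * β + b * (binv * (c * β + q)) +
        (σ binv * -c) * (-σ b * β + d * (binv * (c * β + q))) = 1 := by
      rw [hdd] at key k1
      linear_combination β * key + (c * β + q) * hb + c * β * hB + q * k1 + hq
    have h10 : -β * (a + b * (binv * c)) +
        (σ binv * (c * β + q)) * (-σ b + d * (binv * c)) = -1 := by
      rw [hdd] at key k1
      linear_combination (-β) * key - c * β * hb - (c * β + q) * hB - q * k1 - hq
    have h11 : -β * (a * β + b * (binv * (c * β + q))) +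
        (σ binv * (c * β + q)) * (-σ b * β + d * (binv * (c * β + q))) = 0 := by
      have e : dd * q ^ 2 = 2 * β * q * r := by
        rw [hq2, hβ]
        linear_combination (-2 * dd * w) * hq
      rw [hdd] at key k1 e
      linear_combination (-β ^ 2) * key - (β * (c * β + q)) * hb - (β * (c * β + q)) * hB
        + (-2 * β * q) * k1 + e
    ext i j
    fin_cases i <;> fin_cases j <;>
      simp [Matrix.mul_apply, Fin.sum_univ_two, hσβ, hσc, hq']
    · linear_combination h00
    · linear_combination h01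
    · linear_combination h10
    · linear_combination h11

variable {B : Type u} {A : Type v} [CommRing B] [CommRing A] [Algebra B A]

lemma exists_preimage_unit (lam : A ≃ₐ[B] A) (hB : RInv.IsFixedRing B A lam.toRingEquiv) {x : A}
    (hx : IsUnit x) (hfix : lam x = x) : ∃ s : Bˣ, algebraMap B A (s : B) = x := by
  obtain ⟨u, rfl⟩ := hx
  obtain ⟨s, hs⟩ := (hB.2 _).mp hfix
  have hfix' : lam ((u⁻¹ : Aˣ) : A) = ((u⁻¹ : Aˣ) : A) := by
    have h : lam (u : A) * lam ((u⁻¹ : Aˣ) : A) = 1 := by rw [← map_mul, Units.mul_inv, map_one]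
    rw [hfix] at h
    calc lam ((u⁻¹ : Aˣ) : A) = ((u⁻¹ : Aˣ) : A) * (u * lam ((u⁻¹ : Aˣ) : A)) := by
          rw [← mul_assoc, Units.inv_mul, one_mul]
      _ = _ := by rw [h, mul_one]
  obtain ⟨t, ht⟩ := (hB.2 _).mp hfix'
  refine ⟨⟨s, t, hB.1 ?_, hB.1 ?_⟩, hs⟩ <;> simp [map_mul, hs, ht]

theorem exists_cover (lam : A ≃ₐ[B] A) (hlam : ∀ a, lam (lam a) = a)
    (hB : RInv.IsFixedRing B A lam.toRingEquiv)
    (h2 : IsUnit (2 : A))
    (h : Matrix (Fin 2) (Fin 2) A) (herm : -(h.map lam).transpose = h)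
    (hJ : ∀ i j : Fin 2, h i j - Matrix.of ![![(0 : A), 1], ![-1, 0]] i j ∈ Ring.jacobson A) :
    ∃ (s t : Bˣ) (r : ℕ) (f : Fin r → (MvPolynomial (Fin 2) B ⧸ Ideal.span ({MvPolynomial.X 0 ^ 2 - MvPolynomial.C (s : B), MvPolynomial.X 1 ^ 2 - MvPolynomial.C (t : B)} : Set (MvPolynomial (Fin 2) B)))),
      Ideal.span (Set.range f) = ⊤ ∧
      ∀ i : Fin r, ∃ v : Matrix (Fin 2) (Fin 2) (Localization.Away (f i) ⊗[B] A), IsUnit v ∧
        (v.map (Algebra.TensorProduct.congr (AlgEquiv.refl : Localization.Away (f i) ≃ₐ[Localization.Away (f i)] Localization.Away (f i)) lam)).transpose * h.map (Algebra.TensorProduct.includeRight : A →ₐ[B] Localization.Away (f i) ⊗[B] A) * v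
          = (Matrix.of ![![(0 : A), 1], ![-1, 0]]).map (Algebra.TensorProduct.includeRight : A →ₐ[B] Localization.Away (f i) ⊗[B] A) := by
  have he : ∀ i j, lam (h j i) = -h i j := by
    intro i j
    have := congrFun (congrFun herm i) j
    simp only [Matrix.neg_apply, Matrix.transpose_apply, Matrix.map_apply] at this
    rw [← this, neg_neg]
  have hj : ∀ x : A, x - 1 ∈ Ring.jacobson A → IsUnit x := by
    intro x hx
    exact Ideal.isUnit_of_sub_one_mem_jacobson_bot x (by rwa [Ideal.jacobson_bot])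
  have hbu : IsUnit (h 0 1) := hj _ (by simpa using hJ 0 1)
  obtain ⟨binv, hbinv⟩ := hbu.exists_right_inv
  set S : A := 1 + h 0 0 * (h 1 1 * binv * lam binv) with hS
  have hSfix : lam S = S := by
    rw [hS]
    simp only [map_add, map_mul, map_one, he 0 0, he 1 1, hlam]
    ring
  have hSu : IsUnit S := by
    refine hj _ ?_
    rw [hS, add_sub_cancel_left]
    exact Ideal.mul_mem_right _ _ (by simpa using hJ 0 0)
  obtain ⟨s, hs⟩ := exists_preimage_unit lam hB hSu hSfix
  have h2fix : lam (2 : A) = 2 := map_ofNat lam 2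
  obtain ⟨two, htwo⟩ := exists_preimage_unit lam hB h2 h2fix
  have htwo' : (two : B) = 2 := hB.1 (by rw [htwo, map_ofNat])
  refine ⟨s, 1, 2, ?_⟩
  set I := Ideal.span ({MvPolynomial.X 0 ^ 2 - MvPolynomial.C (s : B),
    MvPolynomial.X 1 ^ 2 - MvPolynomial.C ((1 : Bˣ) : B)} : Set (MvPolynomial (Fin 2) B)) with hI
  let r0 : MvPolynomial (Fin 2) B ⧸ I := Ideal.Quotient.mk I (MvPolynomial.X 0)
  have hr0 : r0 * r0 = algebraMap B _ (s : B) := by
    show Ideal.Quotient.mk I (MvPolynomial.X 0) * Ideal.Quotient.mk I (MvPolynomial.X 0) = _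
    rw [← map_mul, show
      algebraMap B (MvPolynomial (Fin 2) B ⧸ I) (s : B) =
        Ideal.Quotient.mk I (algebraMap B (MvPolynomial (Fin 2) B) (s : B)) from rfl,
      Ideal.Quotient.eq, MvPolynomial.algebraMap_eq, ← pow_two]
    exact Ideal.subset_span (Set.mem_insert _ _)
  refine ⟨![1 + r0, 1 - r0], ?_, ?_⟩
  · have hsum : algebraMap B (MvPolynomial (Fin 2) B ⧸ I) (two : B) ∈
        Ideal.span (Set.range ![1 + r0, 1 - r0]) := by
      rw [htwo', map_ofNat, show (2 : MvPolynomial (Fin 2) B ⧸ I) = (1 + r0) + (1 - r0) by ring]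
      exact add_mem (Ideal.subset_span ⟨0, rfl⟩) (Ideal.subset_span ⟨1, rfl⟩)
    exact Ideal.eq_top_of_isUnit_mem _ hsum (two.isUnit.map _)
  · intro i
    obtain ⟨r1, hr1, hfi⟩ : ∃ r1 : MvPolynomial (Fin 2) B ⧸ I,
        r1 * r1 = algebraMap B _ (s : B) ∧ ![1 + r0, 1 - r0] i = 1 + r1 := by
      fin_cases i
      · exact ⟨r0, hr0, rfl⟩
      · exact ⟨-r0, by linear_combination hr0, by simp [sub_eq_add_neg]⟩
    set L := Localization.Away (![1 + r0, 1 - r0] i) with hL
    set σ : L ⊗[B] A ≃ₐ[L] L ⊗[B] A :=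
      Algebra.TensorProduct.congr (AlgEquiv.refl : L ≃ₐ[L] L) lam with hσ
    set ι : A →ₐ[B] L ⊗[B] A := Algebra.TensorProduct.includeRight with hι
    let rr : L ⊗[B] A := algebraMap L (L ⊗[B] A) (algebraMap _ L r1)
    have hσι : ∀ x, σ (ι x) = ι (lam x) := fun x => by simp [hσ, hι]
    have hσL : ∀ x : L, σ (algebraMap L _ x) = algebraMap L _ x := fun x => σ.commutes x
    have hsA : algebraMap L (L ⊗[B] A) (algebraMap B L (s : B)) = ι S := by
      rw [← hs, hι, AlgHom.commutes, ← IsScalarTower.algebraMap_apply]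
    have hrr : rr * rr = ι S := by
      simp only [rr]
      rw [← map_mul, ← map_mul, hr1, ← IsScalarTower.algebraMap_apply B (MvPolynomial (Fin 2) B ⧸ I) L,
        hsA]
    have hunit : IsUnit (algebraMap _ L (1 + r1)) := by
      rw [← hfi]
      exact IsLocalization.Away.algebraMap_isUnit _
    obtain ⟨u0, hu0⟩ := hunit.exists_left_inv
    obtain ⟨sinv, hsinv⟩ := (h2.mul hSu).exists_right_inv
    have hwfix : lam sinv = sinv := by
      have e : 2 * S * lam sinv = 1 := by
        have := congrArg lam hsinv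
        rwa [map_mul, map_mul, h2fix, hSfix, map_one] at this
      calc lam sinv = lam sinv * (2 * S * sinv) := by rw [hsinv, mul_one]
        _ = (2 * S * lam sinv) * sinv := by ring
        _ = sinv := by rw [e, one_mul]
    have hqr : rr * ι (2 * sinv) * rr = 1 := by
      rw [mul_right_comm, hrr, ← map_mul, show S * (2 * sinv) = 1 by rw [← hsinv]; ring, map_one]
    have hσr : σ rr = rr := hσL _
    obtain ⟨v, hv, hveq⟩ := exists_basis (A := L ⊗[B] A) σ.toRingEquiv.toRingHom
      (ι (h 0 0)) (ι (h 0 1)) (ι binv) (ι (h 1 1)) rr (algebraMap L _ u0) (ι sinv)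
      (rr * ι (2 * sinv)) (by rw [← map_mul, hbinv, map_one])
      (by show σ (ι (h 0 0)) = _; rw [hσι, he 0 0, map_neg])
      (by show σ (ι (h 1 1)) = _; rw [hσι, he 1 1, map_neg])
      hσr (hσL _) (by show σ (ι sinv) = _; rw [hσι, hwfix])
      (by show σ (rr * ι (2 * sinv)) = _; rw [map_mul, hσr, hσι, map_mul, h2fix, hwfix])
      (by show σ (σ (ι binv)) = _; rw [hσι, hσι, hlam])
      (by
        rw [hrr, hS]
        show ι _ = 1 + ι (h 0 0) * (ι (h 1 1) * ι binv * σ (ι binv))
        rw [hσι]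
        simp only [map_add, map_mul, map_one])
      (by
        show algebraMap L _ u0 * (1 + algebraMap L _ (algebraMap _ L r1)) = 1
        rw [← map_one (algebraMap L (L ⊗[B] A)), ← map_add,
          ← map_one (algebraMap (MvPolynomial (Fin 2) B ⧸ I) L), ← map_add, ← map_mul, hu0]
        simp only [map_one])
      hqr
      (by rw [hrr, show (2 : L ⊗[B] A) = ι 2 from (map_ofNat ι 2).symm, ← map_mul, ← map_mul,
        hsinv, map_one])
    refine ⟨v, hv, ?_⟩
    have hh : h.map ι = !![ι (h 0 0), ι (h 0 1); -σ (ι (h 0 1)), ι (h 1 1)] := by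
      ext p q
      fin_cases p <;> fin_cases q <;> simp [hσι, he 1 0]
    have hJm : (Matrix.of ![![(0 : A), 1], ![-1, 0]]).map ι = !![0, 1; -1, 0] := by
      ext p q
      fin_cases p <;> fin_cases q <;> simp
    rw [hh, hJm]
    exact hveq

end Groth.Agent.Misc3.HermCongr
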