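import Groth.Prelude.Def_ComodSub
import Groth.Agent.ComodDualEx.Invariants

set_option autoImplicit false
universe u v w w'

open TensorProduct

noncomputable section

namespace Groth.Agent.Misc3.LDual

variable {k : Type u} [CommRing k] {A : Type v} [AddCommGroup A] [Module k A]
  {M : Type w} [AddCommGroup M] [Module k M]

/-- Reading `N ⊗ M^*` as maps `M → N`. -/
def rd (N : Type w') [AddCommGroup N] [Module k N] :
    N ⊗[k] Module.Dual k M →ₗ[k] M →ₗ[k] N :=
  dualTensorHom k M N ∘ₗ (TensorProduct.comm k N (Module.Dual k M)).toLinearMap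

@[simp] lemma rd_tmul {N : Type w'} [AddCommGroup N] [Module k N] (n : N) (φ : Module.Dual k M) (m : M) :
    rd N (n ⊗ₜ[k] φ) m = φ m • n := by simp [rd]

lemma rd_bijective [Module.FinitePresentation k M] (N : Type w') [AddCommGroup N] [Module k N]
    [Module.Flat k N] : Function.Bijective (rd (k := k) (M := M) N) :=
  (Groth.Agent.ComodDualEx.dualTensorHom_bijective_of_flat N).comp
    (TensorProduct.comm k N (Module.Dual k M)).bijective

lemma rd_rTensor {N : Type w'} [AddCommGroup N] [Module k N] {N' : Type*} [AddCommGroup N'] [Module k N']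
    (f : N →ₗ[k] N') (t : N ⊗[k] Module.Dual k M) :
    rd N' (f.rTensor _ t) = f ∘ₗ rd N t := by
  induction t using TensorProduct.induction_on with
  | zero => simp
  | add p q hp hq => simp [hp, hq, LinearMap.comp_add]
  | tmul n φ => ext m; simp

variable [Coalgebra k A] [Module.Flat k A] [Module.FinitePresentation k M]

def ldualLin (c : HopfRep.Comod k A M) : Module.Dual k M →ₗ[k] M →ₗ[k] A where
  toFun g := ComodSub.ldualFun c g
  map_add' g g' := by
    ext m; simp [ComodSub.ldualFun]
  map_smul' r g := by
    ext m; simp [ComodSub.ldualFun]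

def coactMap (c : HopfRep.Comod k A M) : Module.Dual k M →ₗ[k] A ⊗[k] Module.Dual k M :=
  (LinearEquiv.ofBijective (rd A) (rd_bijective A)).symm.toLinearMap ∘ₗ ldualLin c

lemma rd_coactMap (c : HopfRep.Comod k A M) (g : Module.Dual k M) :
    rd A (coactMap c g) = ComodSub.ldualFun c g :=
  (LinearEquiv.ofBijective (rd A) (rd_bijective A)).apply_symm_apply _

lemma coassoc_coactMap (c : HopfRep.Comod k A M) :
    (coactMap c).lTensor A ∘ₗ coactMap c =
      (TensorProduct.assoc k A A (Module.Dual k M)).toLinearMap ∘ₗ
        (CoalgebraStruct.comul (R := k) (A := A)).rTensor (Module.Dual k M) ∘ₗ coactMap c := by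
  apply LinearMap.ext
  intro g
  simp only [LinearMap.comp_apply, LinearEquiv.coe_coe]
  rw [← LinearEquiv.symm_apply_eq]
  apply (rd_bijective (k := k) (M := M) (A ⊗[k] A)).1
  rw [rd_rTensor, rd_coactMap]
  have key : ∀ t : A ⊗[k] Module.Dual k M, ∀ m : M,
      rd (A ⊗[k] A) ((TensorProduct.assoc k A A (Module.Dual k M)).symm ((coactMap c).lTensor A t)) m =
        (rd A t).rTensor A (c.coact m) := by
    intro t m
    induction t using TensorProduct.induction_on with
    | zero => simp
    | add p q hp hq => simp [hp, hq]
    | tmul a φ =>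
      rw [LinearMap.lTensor_tmul]
      have h1 : ∀ z : A ⊗[k] Module.Dual k M,
          rd (A ⊗[k] A) ((TensorProduct.assoc k A A (Module.Dual k M)).symm (a ⊗ₜ[k] z)) m =
            a ⊗ₜ[k] rd A z m := by
        intro z
        induction z using TensorProduct.induction_on with
        | zero => simp
        | add p q hp hq => simp [TensorProduct.tmul_add, hp, hq]
        | tmul b ψ => simp [TensorProduct.tmul_smul]
      rw [h1, rd_coactMap, ComodSub.ldualFun_apply]
      induction c.coact m using TensorProduct.induction_on with
      | zero => simp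
      | add p q hp hq => simp [TensorProduct.tmul_add, hp, hq]
      | tmul x b => simp [TensorProduct.tmul_smul, TensorProduct.smul_tmul']
  apply LinearMap.ext
  intro m
  rw [key, rd_coactMap, LinearMap.comp_apply, ComodSub.ldualFun_apply]
  have hco := LinearMap.congr_fun c.coassoc m
  simp only [LinearMap.coe_comp, Function.comp_apply, LinearEquiv.coe_coe] at hco
  have e1 : ∀ t : M ⊗[k] A, (ComodSub.ldualFun c g).rTensor A t =
      ((TensorProduct.lid k A).toLinearMap ∘ₗ g.rTensor A).rTensor A (c.coact.rTensor A t) := by
    intro t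
    rw [← LinearMap.rTensor_comp_apply]
    rfl
  rw [e1, ← (TensorProduct.assoc k M A A).symm_apply_apply (c.coact.rTensor A (c.coact m)), hco]
  induction c.coact m using TensorProduct.induction_on with
  | zero => simp
  | add p q hp hq => simp only [map_add, hp, hq]
  | tmul x b =>
    simp only [LinearMap.lTensor_tmul, LinearMap.rTensor_tmul, TensorProduct.lid_tmul, map_smul]
    induction CoalgebraStruct.comul (R := k) b using TensorProduct.induction_on with
    | zero => simp
    | add p q hp hq => simp only [TensorProduct.tmul_add, map_add, smul_add, hp, hq]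
    | tmul p q => simp [TensorProduct.smul_tmul']

lemma counit_coactMap (c : HopfRep.Comod k A M) :
    (CoalgebraStruct.counit (R := k) (A := A)).rTensor (Module.Dual k M) ∘ₗ coactMap c =
      TensorProduct.mk k k (Module.Dual k M) 1 := by
  apply LinearMap.ext
  intro g
  apply (rd_bijective (k := k) (M := M) k).1
  rw [LinearMap.comp_apply, rd_rTensor, rd_coactMap]
  apply LinearMap.ext
  intro m
  have hc := LinearMap.congr_fun c.counit_comp m
  simp only [LinearMap.coe_comp, Function.comp_apply, LinearMap.flip_apply, TensorProduct.mk_apply] at hc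
  have h := congrArg (fun t => TensorProduct.lid k k (g.rTensor k t)) hc
  simp only [LinearMap.rTensor_tmul, TensorProduct.lid_tmul, smul_eq_mul, mul_one] at h
  rw [TensorProduct.mk_apply, rd_tmul, smul_eq_mul, mul_one, LinearMap.comp_apply,
    ComodSub.ldualFun_apply, ← h]
  induction c.coact m using TensorProduct.induction_on with
  | zero => simp
  | add p q hp hq => simp only [map_add, hp, hq]
  | tmul x b => simp

/-- The left dual comodule. -/
theorem exists_lcomod (c : HopfRep.Comod k A M) :
    ∃ l : ComodSub.LComod k A (Module.Dual k M), ComodSub.LComod.IsLDual c l :=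
  ⟨{ coact := coactMap c, coassoc := coassoc_coactMap c, counit_comp := counit_coactMap c },
    fun g => rd_coactMap c g⟩

end Groth.Agent.Misc3.LDual
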