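import Groth.Agent.Misc3.NodePrimes
import Mathlib.RingTheory.Ideal.Quotient.Noetherian
import Mathlib.RingTheory.Localization.Submodule

/-!
Fibral height one primes of `R[[x,y]]/(xy - r)` and of the local ring of `R[x,y]/(xy - r)`.
-/

set_option autoImplicit false
universe u

open IsLocalRing

noncomputable section

namespace Groth.Agent.Misc3.NodeFibral

open Groth.Agent.Misc3.NodeUnits Groth.Agent.Misc3.NodePrimes

theorem eq_of_height_one {T : Type u} [CommRing T] [IsDomain T] {J q : Ideal T} [J.IsPrime] [q.IsPrime]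
    (hq : q.height = 1) (hJ : J ≠ ⊥) (hle : J ≤ q) : J = q := by
  by_contra hne
  have h := Ideal.height_add_one_le_of_lt_of_isPrime (lt_of_le_of_ne hle hne)
  rw [hq] at h
  refine hJ (Ideal.height_eq_zero_iff_eq_bot.mp ?_)
  cases hj : J.height with
  | top => rw [hj] at h; simp at h
  | coe m => rw [hj] at h; norm_cast at h; norm_cast; omega

theorem height_one {T : Type u} [CommRing T] [IsDomain T] [IsNoetherianRing T] {J : Ideal T} [J.IsPrime]
    {a : T} (ha : a ∈ J) (ha0 : a ≠ 0)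
    (hmin : ∀ J' : Ideal T, J'.IsPrime → J' ≤ J → a ∈ J' → J ≤ J') : J.height = 1 := by
  have hm : J ∈ (Ideal.span {a}).minimalPrimes :=
    ⟨⟨inferInstance, (Ideal.span_singleton_le_iff_mem _).mpr ha⟩,
      fun J' hJ' hle => hmin J' hJ'.1 hle ((Ideal.span_singleton_le_iff_mem _).mp hJ'.2)⟩
  refine le_antisymm (Ideal.height_le_one_of_isPrincipal_of_mem_minimalPrimes _ _ hm) ?_
  rw [Order.one_le_iff_pos, pos_iff_ne_zero, ne_eq, Ideal.height_eq_zero_iff_eq_bot]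
  exact fun h => ha0 (by simpa [h] using ha)

variable {R : Type u} [CommRing R] [IsLocalRing R] [IsAdicComplete (maximalIdeal R) R]
  [IsNoetherianRing R] [IsDomain R]

abbrev I (r : R) : Ideal (P2 R) :=
  Ideal.span {(MvPowerSeries.X 0 * MvPowerSeries.X 1 - MvPowerSeries.C r : P2 R)}

abbrev A (r : R) := P2 R ⧸ I r

theorem I_eq (r : R) : I r = K r ⊥ := by
  rw [K, Ideal.map_bot, bot_sup_eq]; rfl

theorem I_le_K (r : R) (𝔭 : Ideal R) : I r ≤ K r 𝔭 := le_sup_right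

theorem I_le_Kx (r : R) (𝔭 : Ideal R) (hrp : r ∈ 𝔭) (i : Fin 2) : I r ≤ Kx 𝔭 i := by
  rw [Ideal.span_le, Set.singleton_subset_iff]
  refine sub_mem (Ideal.mem_sup_right ?_) (Ideal.mem_sup_left (Ideal.mem_map_of_mem _ hrp))
  fin_cases i
  · exact Ideal.mul_mem_right _ _ (Ideal.subset_span rfl)
  · exact Ideal.mul_mem_left _ _ (Ideal.subset_span rfl)

theorem X_not_mem_Kx {𝔭 : Ideal R} [h𝔭 : 𝔭.IsPrime] {i j : Fin 2} (hij : i ≠ j) :
    (MvPowerSeries.X j : P2 R) ∉ Kx 𝔭 i := by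
  intro h
  rw [mem_Kx_iff (IsNoetherian.noetherian 𝔭)] at h
  have := h (Finsupp.single j 1) (by simp [hij])
  rw [MvPowerSeries.coeff_index_single_self_X] at this
  exact h𝔭.ne_top ((Ideal.eq_top_iff_one _).mpr this)

theorem C_not_mem_bot (r : R) (hr : r ∈ maximalIdeal R) (hr0 : r ≠ 0) {p : R} (hp : p ≠ 0) :
    Ideal.Quotient.mk (I r) (MvPowerSeries.C p) ≠ 0 := by
  rw [ne_eq, Ideal.Quotient.eq_zero_iff_mem, I_eq]
  intro h
  have := al_mem r hr (by simpa using hr0) h 0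
  rw [al_C, if_pos rfl] at this
  exact hp (by simpa using this)

theorem isDomain_A (r : R) (hr : r ∈ maximalIdeal R) (hr0 : r ≠ 0) : IsDomain (A r) := by
  rw [Ideal.Quotient.isDomain_iff_prime, I_eq]
  exact isPrime_K r hr (by simpa using hr0)

/-- The candidates over a prime element `p`. -/
def Cand (r p : R) (𝔓 : Ideal (A r)) : Prop :=
  (¬ p ∣ r ∧ 𝔓 = Ideal.map (Ideal.Quotient.mk (I r)) (K r (Ideal.span {p}))) ∨
    (p ∣ r ∧ ∃ i, 𝔓 = Ideal.map (Ideal.Quotient.mk (I r)) (Kx (Ideal.span {p}) i))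

theorem Cand.isPrime {r p : R} {𝔓 : Ideal (A r)} (hr : r ∈ maximalIdeal R) (hp : Prime p)
    (h : Cand r p 𝔓) : 𝔓.IsPrime := by
  haveI : (Ideal.span {p}).IsPrime := (Ideal.span_singleton_prime hp.ne_zero).mpr hp
  rcases h with ⟨hd, rfl⟩ | ⟨hd, i, rfl⟩
  · haveI := isPrime_K r hr (𝔭 := Ideal.span {p}) (by rwa [Ideal.mem_span_singleton])
    exact Ideal.map_isPrime_of_surjective Ideal.Quotient.mk_surjective
      (by rw [Ideal.mk_ker]; exact I_le_K _ _)
  · haveI := isPrime_Kx (IsNoetherian.noetherian (Ideal.span {p})) i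
    exact Ideal.map_isPrime_of_surjective Ideal.Quotient.mk_surjective
      (by rw [Ideal.mk_ker]; exact I_le_Kx _ _ (Ideal.mem_span_singleton.mpr hd) i)

theorem Cand.mem {r p : R} {𝔓 : Ideal (A r)} (h : Cand r p 𝔓) :
    Ideal.Quotient.mk (I r) (MvPowerSeries.C p) ∈ 𝔓 := by
  rcases h with ⟨-, rfl⟩ | ⟨-, i, rfl⟩ <;>
  exact Ideal.mem_map_of_mem _ (Ideal.mem_sup_left (Ideal.mem_map_of_mem _ (Ideal.subset_span rfl)))

/-- Every prime containing `p` contains a candidate. -/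
theorem exists_cand (r p : R) (hp : Prime p) (J : Ideal (A r)) [hJ : J.IsPrime]
    (hpJ : Ideal.Quotient.mk (I r) (MvPowerSeries.C p) ∈ J) : ∃ 𝔓, Cand r p 𝔓 ∧ 𝔓 ≤ J := by
  have hmap : Ideal.map MvPowerSeries.C (Ideal.span {p}) ≤ J.comap (Ideal.Quotient.mk (I r)) := by
    rw [Ideal.map_span, Set.image_singleton, Ideal.span_le, Set.singleton_subset_iff]
    exact hpJ
  by_cases hd : p ∣ r
  · obtain ⟨c, hc⟩ := hd
    have hxy : Ideal.Quotient.mk (I r) (MvPowerSeries.X 0) * Ideal.Quotient.mk (I r) (MvPowerSeries.X 1) ∈ J := by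
      rw [← map_mul, show Ideal.Quotient.mk (I r) (MvPowerSeries.X 0 * MvPowerSeries.X 1) =
        Ideal.Quotient.mk (I r) (MvPowerSeries.C p * MvPowerSeries.C c) from
          (Ideal.Quotient.mk_eq_mk_iff_sub_mem _ _).mpr (by
            rw [← map_mul, ← hc]; exact Ideal.subset_span rfl), map_mul]
      exact J.mul_mem_right _ hpJ
    obtain ⟨i, hi⟩ : ∃ i, Ideal.Quotient.mk (I r) (MvPowerSeries.X i) ∈ J :=
      (hJ.mem_or_mem hxy).elim (fun h => ⟨0, h⟩) (fun h => ⟨1, h⟩)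
    refine ⟨_, Or.inr ⟨⟨c, hc⟩, i, rfl⟩, ?_⟩
    rw [Ideal.map_le_iff_le_comap]
    exact sup_le hmap ((Ideal.span_singleton_le_iff_mem _).mpr hi)
  · refine ⟨_, Or.inl ⟨hd, rfl⟩, ?_⟩
    rw [Ideal.map_le_iff_le_comap]
    refine sup_le hmap ((Ideal.span_singleton_le_iff_mem _).mpr ?_)
    rw [Ideal.mem_comap, (Ideal.Quotient.eq_zero_iff_mem.mpr (Ideal.subset_span rfl) : Ideal.Quotient.mk (I r) (rel r) = 0)]
    exact zero_mem J

theorem X_not_mem_cand (r p : R) (hp : Prime p) (hd : p ∣ r) {i j : Fin 2} (hij : i ≠ j) :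
    Ideal.Quotient.mk (I r) (MvPowerSeries.X j) ∉
      Ideal.map (Ideal.Quotient.mk (I r)) (Kx (Ideal.span {p}) i) := by
  haveI : (Ideal.span {p}).IsPrime := (Ideal.span_singleton_prime hp.ne_zero).mpr hp
  intro h
  rw [Ideal.mem_quotient_iff_mem_sup, sup_eq_left.mpr (I_le_Kx _ _ (Ideal.mem_span_singleton.mpr hd) i)] at h
  exact X_not_mem_Kx hij h

theorem mem_cand_K (r p : R) (f : P2 R)
    (h : Ideal.Quotient.mk (I r) f ∈ Ideal.map (Ideal.Quotient.mk (I r)) (K r (Ideal.span {p}))) :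
    f ∈ K r (Ideal.span {p}) := by
  rwa [Ideal.mem_quotient_iff_mem_sup, sup_eq_left.mpr (I_le_K _ _)] at h

theorem mem_cand_Kx (r p : R) (hd : p ∣ r) (i : Fin 2) (f : P2 R)
    (h : Ideal.Quotient.mk (I r) f ∈ Ideal.map (Ideal.Quotient.mk (I r)) (Kx (Ideal.span {p}) i)) :
    f ∈ Kx (Ideal.span {p}) i := by
  rwa [Ideal.mem_quotient_iff_mem_sup,
    sup_eq_left.mpr (I_le_Kx _ _ (Ideal.mem_span_singleton.mpr hd) i)] at h

theorem Cand.height (r : R) (hr : r ∈ maximalIdeal R) (hr0 : r ≠ 0) {p : R} (hp : Prime p)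
    {𝔓 : Ideal (A r)} (h : Cand r p 𝔓) : 𝔓.height = 1 := by
  haveI := isDomain_A r hr hr0
  haveI := h.isPrime hr hp
  refine height_one h.mem (C_not_mem_bot r hr hr0 hp.ne_zero) fun J' hJ' hle ha => ?_
  obtain ⟨𝔓', h', hle'⟩ := exists_cand r p hp J' ha
  rcases h with ⟨hd, rfl⟩ | ⟨hd, i, rfl⟩
  · rcases h' with ⟨-, rfl⟩ | ⟨hd', -⟩
    · exact hle'
    · exact absurd hd' hd
  · rcases h' with ⟨hd', -⟩ | ⟨-, i', rfl⟩
    · exact absurd hd hd'
    · rcases eq_or_ne i i' with rfl | hne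
      · exact hle'
      · exact absurd (hle (hle' (Ideal.mem_map_of_mem _ (Ideal.mem_sup_right (Ideal.subset_span rfl)))))
          (X_not_mem_cand r p hp hd hne)

variable [UniqueFactorizationMonoid R]

theorem main (r : R) (hr : r ∈ maximalIdeal R) (hr0 : r ≠ 0) {T : Type u} [CommRing T] [Algebra R T]
    [IsNoetherianRing T] (π : F2 R →+* T) (hπC : ∀ a, π (MvPolynomial.C a) = algebraMap R T a)
    (hrel : π (relP r) = 0)
    (φ : T →+* A r)
    (hφπ : ∀ F, φ (π F) = Ideal.Quotient.mk (I r) ((MvPolynomial.coeToMvPowerSeries.ringHom : F2 R →+* P2 R) F))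
    (hsurj : ∀ b : T, ∃ F s, b * π s = π F ∧ IsUnit (π s)) :
    Set.BijOn (fun 𝔓 => Ideal.comap φ 𝔓)
      {𝔓 : Ideal (A r) | 𝔓.IsPrime ∧ 𝔓.height = 1 ∧ Ideal.comap (algebraMap R (A r)) 𝔓 ≠ ⊥}
      {q : Ideal T | q.IsPrime ∧ q.height = 1 ∧ Ideal.comap (algebraMap R T) q ≠ ⊥} := by
  haveI := isDomain_A r hr hr0
  haveI hbot : (⊥ : Ideal R).IsPrime := Ideal.isPrime_bot
  have hcoe : ∀ a, (MvPolynomial.coeToMvPowerSeries.ringHom : F2 R →+* P2 R) (MvPolynomial.C a) =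
      MvPowerSeries.C a := fun a => by simp
  have hcoeX : ∀ i, (MvPolynomial.coeToMvPowerSeries.ringHom : F2 R →+* P2 R) (MvPolynomial.X i) =
      MvPowerSeries.X i := fun i => by simp
  have halg : ∀ a, φ (algebraMap R T a) = algebraMap R (A r) a := fun a => by
    rw [← hπC, hφπ, hcoe]; rfl
  have hinj : Function.Injective φ := (injective_iff_map_eq_zero φ).mpr fun b hb => by
    obtain ⟨F, s, hbs, hs⟩ := hsurj b
    have h1 : φ (π F) = 0 := by rw [← hbs, map_mul, hb, zero_mul]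
    rw [hφπ, Ideal.Quotient.eq_zero_iff_mem, I_eq] at h1
    have h2 : π F = 0 := by
      have := Ideal.mem_map_of_mem π (mem_KP r hr (by simpa using hr0) F h1)
      simpa [KP, Ideal.map_span, hrel] using this
    rw [h2] at hbs
    exact (hs.mul_left_eq_zero).mp hbs
  haveI : IsDomain T := hinj.isDomain φ
  have hfib : ∀ (𝔓 : Ideal (A r)), Ideal.comap (algebraMap R T) (Ideal.comap φ 𝔓) =
      Ideal.comap (algebraMap R (A r)) 𝔓 := fun 𝔓 => by
    ext a; rw [Ideal.mem_comap, Ideal.mem_comap, Ideal.mem_comap, halg]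
  -- contraction of a candidate is generated by the obvious elements
  have hkey : ∀ (p : R), Prime p → ∀ 𝔓, Cand r p 𝔓 → ∀ J' : Ideal T, algebraMap R T p ∈ J' →
      (∀ i, 𝔓 = Ideal.map (Ideal.Quotient.mk (I r)) (Kx (Ideal.span {p}) i) → p ∣ r →
        π (MvPolynomial.X i) ∈ J') → Ideal.comap φ 𝔓 ≤ J' := by
    intro p hp 𝔓 h𝔓 J' hpJ hiJ b hb
    haveI : (Ideal.span {p}).IsPrime := (Ideal.span_singleton_prime hp.ne_zero).mpr hp
    obtain ⟨F, s, hbs, hs⟩ := hsurj b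
    have h1 : φ (π F) ∈ 𝔓 := by rw [← hbs, map_mul]; exact 𝔓.mul_mem_right _ hb
    rw [hφπ] at h1
    have hC : Ideal.map MvPolynomial.C (Ideal.span {p}) ≤ J'.comap π := by
      rw [Ideal.map_span, Set.image_singleton, Ideal.span_le, Set.singleton_subset_iff]
      show π _ ∈ J'
      rw [hπC]; exact hpJ
    have h2 : π F ∈ J' := by
      rcases h𝔓 with ⟨hd, rfl⟩ | ⟨hd, i, rfl⟩
      · have h3 := mem_KP r hr (by rwa [Ideal.mem_span_singleton]) F (mem_cand_K r p _ h1)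
        refine (sup_le hC ((Ideal.span_singleton_le_iff_mem _).mpr ?_) : KP r (Ideal.span {p}) ≤ J'.comap π) h3
        rw [Ideal.mem_comap, hrel]; exact zero_mem _
      · have h3 := mem_KxP (IsNoetherian.noetherian _) i F (mem_cand_Kx r p hd i _ h1)
        exact (sup_le hC ((Ideal.span_singleton_le_iff_mem _).mpr (hiJ i rfl hd)) :
          KxP (Ideal.span {p}) i ≤ J'.comap π) h3
    obtain ⟨v, hv⟩ := hs.exists_right_inv
    have : b = π F * v := by rw [← hbs, mul_assoc, hv, mul_one]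
    rw [this]; exact J'.mul_mem_right _ h2
  have hC' : ∀ p, φ (algebraMap R T p) = Ideal.Quotient.mk (I r) (MvPowerSeries.C p) := fun p => by
    rw [← hπC, hφπ, hcoe]
  have hX' : ∀ i, φ (π (MvPolynomial.X i)) = Ideal.Quotient.mk (I r) (MvPowerSeries.X i) := fun i => by
    rw [hφπ, hcoeX]
  -- a prime of `T` containing `p` contains the contraction of a candidate
  have hexT : ∀ (p : R), Prime p → ∀ J' : Ideal T, J'.IsPrime → algebraMap R T p ∈ J' →
      ∃ 𝔓, Cand r p 𝔓 ∧ Ideal.comap φ 𝔓 ≤ J' := by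
    intro p hp J' hJ' hpJ
    haveI : (Ideal.span {p}).IsPrime := (Ideal.span_singleton_prime hp.ne_zero).mpr hp
    by_cases hd : p ∣ r
    · obtain ⟨c, hc⟩ := hd
      have hxy : π (MvPolynomial.X 0) * π (MvPolynomial.X 1) ∈ J' := by
        have h := hrel
        rw [relP, map_sub, map_mul, sub_eq_zero, hπC, hc, map_mul] at h
        rw [h]; exact J'.mul_mem_right _ hpJ
      obtain ⟨i, hi⟩ : ∃ i, π (MvPolynomial.X i) ∈ J' :=
        (hJ'.mem_or_mem hxy).elim (fun h => ⟨0, h⟩) (fun h => ⟨1, h⟩)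
      refine ⟨_, Or.inr ⟨⟨c, hc⟩, i, rfl⟩, hkey p hp _ (Or.inr ⟨⟨c, hc⟩, i, rfl⟩) J' hpJ fun i' he _ => ?_⟩
      rcases eq_or_ne i i' with rfl | hne
      · exact hi
      · refine absurd ?_ (X_not_mem_cand r p hp ⟨c, hc⟩ hne)
        rw [he]
        exact Ideal.mem_map_of_mem _ (Ideal.mem_sup_right (Ideal.subset_span rfl))
    · exact ⟨_, Or.inl ⟨hd, rfl⟩, hkey p hp _ (Or.inl ⟨hd, rfl⟩) J' hpJ fun i _ hd' => absurd hd' hd⟩
  have hheight : ∀ (p : R), Prime p → ∀ 𝔓, Cand r p 𝔓 → (Ideal.comap φ 𝔓).height = 1 := by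
    intro p hp 𝔓 h𝔓
    haveI := h𝔓.isPrime hr hp
    have hmem : algebraMap R T p ∈ Ideal.comap φ 𝔓 := by
      rw [Ideal.mem_comap, hC']; exact h𝔓.mem
    refine height_one hmem (fun h => C_not_mem_bot r hr hr0 hp.ne_zero (by rw [← hC', h, map_zero]))
      fun J' hJ' hle ha => ?_
    refine hkey p hp 𝔓 h𝔓 J' ha fun i hi hd => ?_
    obtain ⟨𝔓', h', hle'⟩ := hexT p hp J' hJ' ha
    rcases h' with ⟨hd', -⟩ | ⟨-, i', rfl⟩
    · exact absurd hd hd'
    have hx : π (MvPolynomial.X i') ∈ J' := hle' (by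
      rw [Ideal.mem_comap, hX']
      exact Ideal.mem_map_of_mem _ (Ideal.mem_sup_right (Ideal.subset_span rfl)))
    rcases eq_or_ne i i' with rfl | hne
    · exact hx
    · refine absurd ?_ (X_not_mem_cand r p hp hd hne)
      rw [← hX', ← Ideal.mem_comap, ← hi]
      exact hle hx
  have hAcand : ∀ 𝔓 : Ideal (A r), 𝔓.IsPrime → 𝔓.height = 1 → ∀ p, Prime p →
      Ideal.Quotient.mk (I r) (MvPowerSeries.C p) ∈ 𝔓 → Cand r p 𝔓 := by
    intro 𝔓 hP hh p hp hpm
    obtain ⟨𝔓', h', hle⟩ := exists_cand r p hp 𝔓 hpm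
    haveI := h'.isPrime hr hp
    have : 𝔓' = 𝔓 := eq_of_height_one hh
      (fun hb => C_not_mem_bot r hr hr0 hp.ne_zero (by have := h'.mem; rwa [hb, Ideal.mem_bot] at this)) hle
    exact this ▸ h'
  have hpick : ∀ 𝔓 : Ideal (A r), 𝔓.IsPrime → Ideal.comap (algebraMap R (A r)) 𝔓 ≠ ⊥ →
      ∃ p, Prime p ∧ Ideal.Quotient.mk (I r) (MvPowerSeries.C p) ∈ 𝔓 := by
    intro 𝔓 hP hne
    obtain ⟨p, hpm, hp⟩ := (inferInstance : (Ideal.comap (algebraMap R (A r)) 𝔓).IsPrime).exists_mem_prime_of_ne_bot hne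
    exact ⟨p, hp, hpm⟩
  refine ⟨?_, ?_, ?_⟩
  · rintro 𝔓 ⟨hP, hh, hne⟩
    obtain ⟨p, hp, hpm⟩ := hpick 𝔓 hP hne
    exact ⟨inferInstance, hheight p hp 𝔓 (hAcand 𝔓 hP hh p hp hpm), by rwa [hfib]⟩
  · rintro 𝔓 ⟨hP, hh, hne⟩ 𝔓' ⟨hP', hh', hne'⟩ heq
    replace heq : Ideal.comap φ 𝔓 = Ideal.comap φ 𝔓' := heq
    obtain ⟨p, hp, hpm⟩ := hpick 𝔓 hP hne
    have hpm' : Ideal.Quotient.mk (I r) (MvPowerSeries.C p) ∈ 𝔓' := by
      rw [← hC', ← Ideal.mem_comap, ← heq, Ideal.mem_comap, hC']; exact hpm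
    rcases hAcand 𝔓 hP hh p hp hpm with ⟨hd, rfl⟩ | ⟨hd, i, rfl⟩
    · rcases hAcand 𝔓' hP' hh' p hp hpm' with ⟨-, rfl⟩ | ⟨hd', -⟩
      · rfl
      · exact absurd hd' hd
    · rcases hAcand 𝔓' hP' hh' p hp hpm' with ⟨hd', -⟩ | ⟨-, i', rfl⟩
      · exact absurd hd hd'
      · rcases eq_or_ne i i' with rfl | hne''
        · rfl
        · refine absurd ?_ (X_not_mem_cand r p hp hd hne''.symm)
          rw [← hX', ← Ideal.mem_comap, ← heq, Ideal.mem_comap, hX']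
          exact Ideal.mem_map_of_mem _ (Ideal.mem_sup_right (Ideal.subset_span rfl))
  · rintro q ⟨hP, hh, hne⟩
    obtain ⟨p, hpm, hp⟩ := (inferInstance : (Ideal.comap (algebraMap R T) q).IsPrime).exists_mem_prime_of_ne_bot hne
    obtain ⟨𝔓, h𝔓, hle⟩ := hexT p hp q hP hpm
    haveI := h𝔓.isPrime hr hp
    have hmem : algebraMap R T p ∈ Ideal.comap φ 𝔓 := by
      rw [Ideal.mem_comap, hC']; exact h𝔓.mem
    refine ⟨𝔓, ⟨inferInstance, h𝔓.height r hr hr0 hp, fun hb => ?_⟩, eq_of_height_one hh (fun hb => ?_) hle⟩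
    · have : p ∈ Ideal.comap (algebraMap R (A r)) 𝔓 := h𝔓.mem
      rw [hb, Ideal.mem_bot] at this
      exact hp.ne_zero this
    · rw [show Ideal.comap φ 𝔓 = ⊥ from hb, Ideal.mem_bot] at hmem
      exact C_not_mem_bot r hr hr0 hp.ne_zero (by rw [← hC', hmem, map_zero])

theorem main_loc (r : R) (hr0 : r ≠ 0) {B : Type u} [CommRing B] [Algebra R B] [IsNoetherianRing B]
    (q : F2 R →+* B) (hq : Function.Surjective q) (hqC : ∀ a, q (MvPolynomial.C a) = algebraMap R B a)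
    (hqrel : q (relP r) = 0) (P : Ideal B) [P.IsPrime] (hX : q (MvPolynomial.X 0) ∈ P)
    (ι : B →+* A r)
    (hι : ι.comp q = (Ideal.Quotient.mk (I r)).comp (MvPolynomial.coeToMvPowerSeries.ringHom : F2 R →+* P2 R))
    (φ : Localization.AtPrime P →+* A r)
    (hφ : φ.comp (algebraMap B (Localization.AtPrime P)) = ι) :
    Set.BijOn (fun 𝔓 => Ideal.comap φ 𝔓)
      {𝔓 : Ideal (A r) | 𝔓.IsPrime ∧ 𝔓.height = 1 ∧ Ideal.comap (algebraMap R (A r)) 𝔓 ≠ ⊥}
      {Q : Ideal (Localization.AtPrime P) | Q.IsPrime ∧ Q.height = 1 ∧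
        Ideal.comap (algebraMap R (Localization.AtPrime P)) Q ≠ ⊥} := by
  have hrP : algebraMap R B r ∈ P := by
    have h := hqrel
    rw [relP, map_sub, map_mul, sub_eq_zero, hqC] at h
    rw [← h]
    exact P.mul_mem_right _ hX
  have hr : r ∈ maximalIdeal R := by
    by_contra hu
    exact Ideal.IsPrime.ne_top ‹P.IsPrime›
      (P.eq_top_of_isUnit_mem hrP ((notMem_maximalIdeal.mp hu).map (algebraMap R B)))
  haveI : IsNoetherianRing (Localization.AtPrime P) :=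
    IsLocalization.isNoetherianRing P.primeCompl _ inferInstance
  refine main r hr hr0 ((algebraMap B (Localization.AtPrime P)).comp q) (fun a => ?_) ?_ φ (fun F => ?_)
    (fun b => ?_)
  · rw [RingHom.comp_apply, hqC, ← IsScalarTower.algebraMap_apply]
  · rw [RingHom.comp_apply, hqrel, map_zero]
  · rw [← RingHom.comp_apply, ← RingHom.comp_assoc, hφ, hι]
    rfl
  · obtain ⟨⟨y, t⟩, h⟩ := IsLocalization.surj P.primeCompl b
    obtain ⟨F, rfl⟩ := hq y
    obtain ⟨s, hs⟩ := hq (t : B)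
    refine ⟨F, s, ?_, ?_⟩
    · rw [RingHom.comp_apply, RingHom.comp_apply, hs]; exact h
    · rw [RingHom.comp_apply, hs]; exact IsLocalization.map_units _ t

end Groth.Agent.Misc3.NodeFibral
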