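import Groth.Agent.Misc3.NodeUnits
import Mathlib.RingTheory.Ideal.KrullsHeightTheorem
import Mathlib.RingTheory.UniqueFactorizationDomain.Basic
import Mathlib.RingTheory.Polynomial.Basic

/-!
Primes of `R[[x,y]]/(xy - r)` and of `R[x,y]/(xy - r)` lying over primes of `R`, and comparison of
their fibral height one primes.
-/

set_option autoImplicit false
universe u

open IsLocalRing

noncomputable section

namespace Groth.Agent.Misc3.NodePrimes

open Groth.Agent.Misc3.NodeUnits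

variable {R : Type u} [CommRing R]

abbrev P2 (R : Type u) [CommRing R] := MvPowerSeries (Fin 2) R
abbrev F2 (R : Type u) [CommRing R] := MvPolynomial (Fin 2) R

def rel (r : R) : P2 R := MvPowerSeries.X 0 * MvPowerSeries.X 1 - MvPowerSeries.C r
def relP (r : R) : F2 R := MvPolynomial.X 0 * MvPolynomial.X 1 - MvPolynomial.C r

theorem coe_relP (r : R) :
    (MvPolynomial.coeToMvPowerSeries.ringHom : F2 R →+* P2 R) (relP r) = rel r := by
  simp only [relP, rel, map_sub, map_mul]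
  simp

/-- `(𝔭, xy - r)`. -/
def K (r : R) (𝔭 : Ideal R) : Ideal (P2 R) :=
  Ideal.map MvPowerSeries.C 𝔭 ⊔ Ideal.span {rel r}
def KP (r : R) (𝔭 : Ideal R) : Ideal (F2 R) :=
  Ideal.map MvPolynomial.C 𝔭 ⊔ Ideal.span {relP r}
/-- `(𝔭, xᵢ)`. -/
def Kx (𝔭 : Ideal R) (i : Fin 2) : Ideal (P2 R) :=
  Ideal.map MvPowerSeries.C 𝔭 ⊔ Ideal.span {MvPowerSeries.X i}
def KxP (𝔭 : Ideal R) (i : Fin 2) : Ideal (F2 R) :=
  Ideal.map MvPolynomial.C 𝔭 ⊔ Ideal.span {MvPolynomial.X i}

theorem coeff_mem_of_mem_map {𝔭 : Ideal R} {f : P2 R} (hf : f ∈ Ideal.map MvPowerSeries.C 𝔭)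
    (d : Fin 2 →₀ ℕ) : MvPowerSeries.coeff d f ∈ 𝔭 := by
  induction hf using Submodule.span_induction generalizing d with
  | mem x hx =>
    obtain ⟨p, hp, rfl⟩ := hx
    classical
    rw [MvPowerSeries.coeff_C]
    split_ifs
    · exact hp
    · exact zero_mem _
  | zero => simp
  | add x y _ _ hx hy => rw [map_add]; exact add_mem (hx d) (hy d)
  | smul a x _ hx =>
    classical
    rw [smul_eq_mul, MvPowerSeries.coeff_mul]
    exact Ideal.sum_mem _ fun e _ => Ideal.mul_mem_left _ _ (hx _)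

theorem mem_map_of_coeff {𝔭 : Ideal R} (hfg : 𝔭.FG) {f : P2 R}
    (hf : ∀ d, MvPowerSeries.coeff d f ∈ 𝔭) : f ∈ Ideal.map MvPowerSeries.C 𝔭 := by
  classical
  obtain ⟨s, hs⟩ := hfg
  have : ∀ d, ∃ a : R → R, ∑ g ∈ s, a g * g = MvPowerSeries.coeff d f := fun d => by
    obtain ⟨a, -, ha⟩ := Submodule.mem_span_finset.mp (show MvPowerSeries.coeff d f ∈ Submodule.span R (s : Set R) by change _ ∈ Ideal.span (s : Set R); rw [hs]; exact hf d)
    exact ⟨a, by simpa [smul_eq_mul] using ha⟩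
  choose a ha using this
  have h : f = ∑ g ∈ s, (show P2 R from fun d => a d g) * MvPowerSeries.C g := by
    ext d
    rw [map_sum, ← ha d]
    refine Finset.sum_congr rfl fun g _ => ?_
    rw [MvPowerSeries.coeff_mul_C]
    rfl
  rw [h]
  exact Ideal.sum_mem _ fun g hg => Ideal.mul_mem_left _ _ (Ideal.mem_map_of_mem _
    (hs ▸ Ideal.subset_span hg))

theorem mem_Kx_iff {𝔭 : Ideal R} (hfg : 𝔭.FG) (i : Fin 2) (f : P2 R) :
    f ∈ Kx 𝔭 i ↔ ∀ d : Fin 2 →₀ ℕ, d i = 0 → MvPowerSeries.coeff d f ∈ 𝔭 := by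
  classical
  constructor
  · intro hf d hd
    obtain ⟨a, ha, b, hb, rfl⟩ := Submodule.mem_sup.mp hf
    obtain ⟨q, rfl⟩ := Ideal.mem_span_singleton'.mp hb
    rw [map_add, MvPowerSeries.X, MvPowerSeries.coeff_mul_monomial, if_neg, add_zero]
    · exact coeff_mem_of_mem_map ha d
    · intro hle
      have := hle i
      simp [hd] at this
  · intro hf
    let f0 : P2 R := fun d => if d i = 0 then MvPowerSeries.coeff d f else 0
    let h : P2 R := fun d => MvPowerSeries.coeff (d + Finsupp.single i 1) f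
    have e : f = f0 + h * MvPowerSeries.X i := by
      ext d
      rw [map_add, MvPowerSeries.X, MvPowerSeries.coeff_mul_monomial]
      change _ = (if d i = 0 then MvPowerSeries.coeff d f else 0) + _
      by_cases hd : d i = 0
      · rw [if_pos hd, if_neg, add_zero]
        intro hle
        have := hle i
        simp [hd] at this
      · have hle : Finsupp.single i 1 ≤ d := by
          rw [Finsupp.single_le_iff]; omega
        rw [if_neg hd, if_pos hle, zero_add, mul_one]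
        change _ = MvPowerSeries.coeff (d - Finsupp.single i 1 + Finsupp.single i 1) f
        rw [tsub_add_cancel_of_le hle]
    rw [e]
    refine add_mem (Ideal.mem_sup_left (mem_map_of_coeff hfg fun d => ?_))
      (Ideal.mem_sup_right (Ideal.mem_span_singleton'.mpr ⟨h, rfl⟩))
    change (if d i = 0 then MvPowerSeries.coeff d f else 0) ∈ 𝔭
    split_ifs with hd
    · exact hf d hd
    · exact zero_mem _

theorem mem_KxP {𝔭 : Ideal R} (hfg : 𝔭.FG) (i : Fin 2) (F : F2 R)
    (hF : (MvPolynomial.coeToMvPowerSeries.ringHom : F2 R →+* P2 R) F ∈ Kx 𝔭 i) : F ∈ KxP 𝔭 i := by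
  rw [mem_Kx_iff hfg] at hF
  rw [F.as_sum]
  refine Ideal.sum_mem _ fun d _ => ?_
  by_cases hd : d i = 0
  · refine Ideal.mem_sup_left ?_
    rw [← mul_one (MvPolynomial.coeff d F), ← MvPolynomial.C_mul_monomial]
    exact Ideal.mul_mem_right _ _ (Ideal.mem_map_of_mem _ (by simpa using hF d hd))
  · refine Ideal.mem_sup_right (Ideal.mem_span_singleton.mpr ?_)
    have hle : Finsupp.single i 1 ≤ d := by
      rw [Finsupp.single_le_iff]; omega
    refine ⟨MvPolynomial.monomial (d - Finsupp.single i 1) (MvPolynomial.coeff d F), ?_⟩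
    rw [MvPolynomial.X, MvPolynomial.monomial_mul, one_mul, add_tsub_cancel_of_le hle]

theorem isPrime_Kx0 {𝔭 : Ideal R} (hfg : 𝔭.FG) [𝔭.IsPrime] : (Kx 𝔭 0).IsPrime := by
  let χ : P2 R →+* PowerSeries (R ⧸ 𝔭) :=
    (PowerSeries.map ((Ideal.Quotient.mk 𝔭).comp (MvPowerSeries.constantCoeff (σ := Unit)))).comp
      ((MvPowerSeries.renameEquiv R e2).trans (MvPowerSeries.optionEquivLeft Unit R)).toAlgHom.toRingHom
  have hχ : ∀ f j, PowerSeries.coeff j (χ f) = Ideal.Quotient.mk 𝔭 (MvPowerSeries.coeff (ex 0 j) f) := by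
    intro f j
    simp only [χ, RingHom.coe_comp, Function.comp_apply, PowerSeries.coeff_map]
    congr 1
    rw [← MvPowerSeries.coeff_zero_eq_constantCoeff_apply]
    show MvPowerSeries.coeff _ (PowerSeries.coeff j (MvPowerSeries.optionEquivLeft Unit R
        (MvPowerSeries.rename (⇑(e2.toEmbedding)) f))) = _
    rw [MvPowerSeries.coeff_coeff_optionEquivLeft]
    rw [show ((0 : Unit →₀ ℕ).optionElim j) = Finsupp.embDomain e2.toEmbedding (ex 0 j) from ?_,
      MvPowerSeries.coeff_embDomain_rename]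
    rw [Finsupp.embDomain_eq_mapDomain, ex, Finsupp.mapDomain_add, Finsupp.mapDomain_single,
      Finsupp.mapDomain_single]
    ext o
    rcases o with _ | _ <;> simp [e2]
  have : Kx 𝔭 0 = RingHom.ker χ := by
    ext f
    rw [mem_Kx_iff hfg, RingHom.mem_ker]
    constructor
    · intro h
      ext j
      rw [hχ, map_zero, Ideal.Quotient.eq_zero_iff_mem]
      exact h _ (ex_zero 0 j)
    · intro h d hd
      have := congrArg (PowerSeries.coeff (d 1)) h
      rw [hχ, map_zero, Ideal.Quotient.eq_zero_iff_mem] at this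
      rw [eq_ex d, hd]
      exact this
  rw [this]
  exact RingHom.ker_isPrime χ

theorem coeff_swap' (f : P2 R) (i j : ℕ) :
    MvPowerSeries.coeff (ex i j) (MvPowerSeries.rename (⇑(Equiv.swap (0 : Fin 2) 1).toEmbedding) f) =
      MvPowerSeries.coeff (ex j i) f := by
  have h : ex i j = Finsupp.embDomain (Equiv.swap (0 : Fin 2) 1).toEmbedding (ex j i) := by
    rw [Finsupp.embDomain_eq_mapDomain, ex, ex, Finsupp.mapDomain_add, Finsupp.mapDomain_single,
      Finsupp.mapDomain_single, Equiv.coe_toEmbedding, Equiv.swap_apply_left,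
      Equiv.swap_apply_right, add_comm]
  rw [h]
  exact MvPowerSeries.coeff_embDomain_rename _ _ _

theorem isPrime_Kx {𝔭 : Ideal R} (hfg : 𝔭.FG) [𝔭.IsPrime] (i : Fin 2) : (Kx 𝔭 i).IsPrime := by
  fin_cases i
  · exact isPrime_Kx0 hfg
  · haveI := isPrime_Kx0 hfg
    have : Kx 𝔭 1 = Ideal.comap
        (MvPowerSeries.renameEquiv R (Equiv.swap (0 : Fin 2) 1)).toAlgHom.toRingHom (Kx 𝔭 0) := by
      ext f
      rw [Ideal.mem_comap, mem_Kx_iff hfg, mem_Kx_iff hfg]
      constructor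
      · intro h d hd
        rw [eq_ex d]
        show MvPowerSeries.coeff _ (MvPowerSeries.rename (⇑(Equiv.swap (0 : Fin 2) 1).toEmbedding) f) ∈ 𝔭
        rw [coeff_swap']
        exact h _ ((ex_one _ _).trans hd)
      · intro h d hd
        have := h (ex (d 1) (d 0)) ((ex_zero _ _).trans hd)
        have h' : MvPowerSeries.coeff (ex (d 1) (d 0))
            (MvPowerSeries.rename (⇑(Equiv.swap (0 : Fin 2) 1).toEmbedding) f) ∈ 𝔭 := this
        rw [coeff_swap', ← eq_ex] at h'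
        exact h'
    show (Kx 𝔭 1).IsPrime
    rw [this]
    infer_instance

variable [IsLocalRing R] [IsAdicComplete (maximalIdeal R) R] [IsNoetherianRing R]

theorem coeff_rem (r : R) (hr : r ∈ maximalIdeal R) (f G : P2 R)
    (hG : ∀ i j, MvPowerSeries.coeff (ex i j) G = dsum r hr f (i + 1) (j + 1)) (i j : ℕ) :
    MvPowerSeries.coeff (ex i j) (f - rel r * G) = if i = 0 ∨ j = 0 then dsum r hr f i j else 0 := by
  classical
  rw [rel, sub_mul, map_sub, map_sub, MvPowerSeries.coeff_C_mul, MvPowerSeries.X, MvPowerSeries.X,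
    MvPowerSeries.monomial_mul_monomial, one_mul, MvPowerSeries.coeff_monomial_mul, one_mul, hG]
  have hle : (Finsupp.single (0 : Fin 2) 1 + Finsupp.single 1 1 ≤ ex i j) ↔ ¬ (i = 0 ∨ j = 0) := by
    rw [Finsupp.le_def, Fin.forall_fin_two]
    simp [ex, Nat.one_le_iff_ne_zero, not_or]
  by_cases hij : i = 0 ∨ j = 0
  · rw [if_pos hij, if_neg (by rwa [hle, not_not]), dsum_rec r hr f i j]
    ring
  · rw [if_neg hij, if_pos (hle.mpr hij)]
    obtain ⟨i', rfl⟩ : ∃ i', i = i' + 1 := ⟨i - 1, by omega⟩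
    obtain ⟨j', rfl⟩ : ∃ j', j = j' + 1 := ⟨j - 1, by omega⟩
    have he : ex (i' + 1) (j' + 1) - (Finsupp.single (0 : Fin 2) 1 + Finsupp.single 1 1) = ex i' j' := by
      rw [eq_ex (ex (i' + 1) (j' + 1) - _)]
      simp [ex]
    rw [he, hG, dsum_rec r hr f (i' + 1) (j' + 1)]
    ring

theorem exists_dvr (r : R) (hr : r ∈ maximalIdeal R) (𝔭 : Ideal R) [𝔭.IsPrime] (hrp : r ∉ 𝔭) :
    ∃ (V : Type u) (_ : CommRing V) (_ : IsDomain V) (_ : IsDiscreteValuationRing V) (φ : R →+* V),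
      (∀ a ∈ maximalIdeal R, φ a ∈ maximalIdeal V) ∧ ∀ a, φ a = 0 ↔ a ∈ 𝔭 := by
  have : IsLocalRing (R ⧸ 𝔭) := IsLocalRing.of_surjective' _ Ideal.Quotient.mk_surjective
  have hm : ∀ a ∈ maximalIdeal R, Ideal.Quotient.mk 𝔭 a ∈ maximalIdeal (R ⧸ 𝔭) := by
    intro a ha
    rw [mem_maximalIdeal, mem_nonunits_iff]
    intro hu
    obtain ⟨b, hb⟩ := hu.exists_right_inv
    obtain ⟨b, rfl⟩ := Ideal.Quotient.mk_surjective b
    rw [← map_mul, ← map_one (Ideal.Quotient.mk 𝔭), Ideal.Quotient.mk_eq_mk_iff_sub_mem] at hb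
    have h2 : a * b - 1 ∈ maximalIdeal R := IsLocalRing.le_maximalIdeal (Ideal.IsPrime.ne_top ‹_›) hb
    exact (maximalIdeal R).ne_top_iff_one.mp (maximalIdeal.isMaximal R).ne_top
      (by simpa using sub_mem ((maximalIdeal R).mul_mem_right b ha) h2)
  have hA : ¬ IsField (R ⧸ 𝔭) := fun hF => hrp (by
    have := isField_iff_maximalIdeal_eq.mp hF
    have h := hm r hr
    rw [this] at h
    exact Ideal.Quotient.eq_zero_iff_mem.mp h)
  let L := FractionRing (R ⧸ 𝔭)
  obtain ⟨W, hW, hmem, hlt⟩ := Groth.Agent.DvrDom.exists_dvr_dominating (A := R ⧸ 𝔭) hA L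
  refine ⟨W, inferInstance, inferInstance, hW,
    ((algebraMap (R ⧸ 𝔭) L).codRestrict W.toSubring hmem).comp (Ideal.Quotient.mk 𝔭),
    fun a ha => (W.valuation_lt_one_iff _).mpr (hlt _ (hm a ha)), fun a => ?_⟩
  rw [← Ideal.Quotient.eq_zero_iff_mem]
  constructor
  · intro h
    refine IsFractionRing.injective (R ⧸ 𝔭) L ?_
    rw [map_zero]
    exact congrArg Subtype.val h
  · intro h
    rw [RingHom.comp_apply, h, map_zero]

section val

variable (r : R) (hr : r ∈ maximalIdeal R) {V : Type u} [CommRing V] [IsDomain V]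
  [IsDiscreteValuationRing V] (φ : R →+* V) (hφ : ∀ a ∈ maximalIdeal R, φ a ∈ maximalIdeal V)

include hφ in
theorem pow_ker (n : ℕ) : ∀ a ∈ maximalIdeal R ^ n,
    ((Ideal.Quotient.mk (maximalIdeal V ^ n)).comp φ) a = 0 := fun a ha =>
  Ideal.Quotient.eq_zero_iff_mem.mpr
    (Ideal.pow_right_mono ((Ideal.map_le_iff_le_comap (f := φ) (K := maximalIdeal V)).mpr
      (fun x hx => hφ x hx)) n (Ideal.map_pow φ (maximalIdeal R) n ▸ Ideal.mem_map_of_mem φ ha))

theorem psi_eq_zero {𝔭 : Ideal R} (h𝔭 : ∀ a ∈ 𝔭, φ a = 0) (n : ℕ) {f : P2 R} (hf : f ∈ K r 𝔭) :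
    psi r hr ((Ideal.Quotient.mk (maximalIdeal V ^ n)).comp φ) n (pow_ker φ hφ n) f = 0 := by
  have hle : K r 𝔭 ≤ RingHom.ker
      (psi r hr ((Ideal.Quotient.mk (maximalIdeal V ^ n)).comp φ) n (pow_ker φ hφ n)) := by
    refine sup_le (Ideal.map_le_iff_le_comap.mpr fun a ha => ?_) ?_
    · rw [Ideal.mem_comap, RingHom.mem_ker]
      ext k
      rw [coeff_psi, al_C, HahnSeries.coeff_zero]
      split_ifs
      · rw [RingHom.comp_apply, h𝔭 a ha, map_zero]
      · rw [map_zero]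
    · rw [Ideal.span_le, Set.singleton_subset_iff]
      exact psi_rel r hr _ n _
  exact hle hf

include hφ in
theorem phi_al_eq_zero {𝔭 : Ideal R} (h𝔭 : ∀ a ∈ 𝔭, φ a = 0) {f : P2 R} (hf : f ∈ K r 𝔭) (k : ℤ) :
    φ (al r hr f k) = 0 := by
  refine IsHausdorff.haus' (I := maximalIdeal V) _ fun n => ?_
  rw [SModEq.sub_mem, smul_eq_mul, Ideal.mul_top, sub_zero]
  have h := congrArg (fun s => HahnSeries.coeff s k) (psi_eq_zero r hr φ hφ h𝔭 n hf)
  simp only [coeff_psi, HahnSeries.coeff_zero, RingHom.comp_apply] at h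
  exact Ideal.Quotient.eq_zero_iff_mem.mp h

include hφ in
theorem all_zero_or {𝔭 : Ideal R} (h𝔭 : ∀ a ∈ 𝔭, φ a = 0) {f g : P2 R} (hfg : f * g ∈ K r 𝔭) :
    (∀ k, φ (al r hr f k) = 0) ∨ ∀ k, φ (al r hr g k) = 0 := by
  classical
  obtain ⟨ϖ, hϖ⟩ := IsDiscreteValuationRing.exists_irreducible V
  let w : R → ℕ∞ := fun a => IsDiscreteValuationRing.addVal V (φ a)
  have hker : ∀ (a : R) (n : ℕ), Ideal.Quotient.mk (maximalIdeal V ^ n) (φ a) = 0 ↔ (n : ℕ∞) ≤ w a := by
    intro a n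
    rw [Ideal.Quotient.eq_zero_iff_mem, hϖ.maximalIdeal_eq, Ideal.span_singleton_pow,
      Ideal.mem_span_singleton, ← IsDiscreteValuationRing.addVal_le_iff_dvd]
    simp [w, IsDiscreteValuationRing.addVal_uniformizer hϖ]
  have hmin : ∀ p : P2 R, (∃ k, φ (al r hr p k) ≠ 0) → ∃ (e : ℕ) (N : ℤ),
      w (al r hr p N) = e ∧ (∀ i, (e : ℕ∞) ≤ w (al r hr p i)) ∧ ∀ i < N, (e : ℕ∞) < w (al r hr p i) := by
    rintro p ⟨k, hk⟩
    obtain ⟨m, hm⟩ := ENat.ne_top_iff_exists.mp
      (show w (al r hr p k) ≠ ⊤ by simpa [w, IsDiscreteValuationRing.addVal_eq_top_iff] using hk)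
    have hex : ∃ e : ℕ, ∃ i, w (al r hr p i) = e := ⟨m, k, hm.symm⟩
    have hle : ∀ i, (Nat.find hex : ℕ∞) ≤ w (al r hr p i) := by
      intro i
      by_cases ht : w (al r hr p i) = ⊤
      · rw [ht]; exact le_top
      · obtain ⟨m', hm'⟩ := ENat.ne_top_iff_exists.mp ht
        rw [← hm']
        exact ENat.natCast_le_natCast.mpr (Nat.find_le ⟨i, hm'.symm⟩)
    obtain ⟨N, hN, hNmin⟩ := Int.exists_least_of_bdd (P := fun i => w (al r hr p i) = (Nat.find hex : ℕ))
      ⟨-(Nat.find hex : ℤ), fun z hz => by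
        by_contra hlt
        obtain ⟨l, rfl⟩ : ∃ l : ℕ, z = -(l : ℤ) := ⟨(-z).toNat, by omega⟩
        have h1 : (l : ℕ∞) ≤ w (al r hr p (-(l : ℤ))) := by
          rw [← hker, al_neg, map_mul, map_mul, map_pow, map_pow]
          have : Ideal.Quotient.mk (maximalIdeal V ^ l) (φ r) ^ l = 0 := by
            rw [← map_pow, Ideal.Quotient.eq_zero_iff_mem]
            exact Ideal.pow_mem_pow (hφ r hr) l
          rw [this, zero_mul]
        rw [hz] at h1
        have := ENat.natCast_le_natCast.mp h1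
        omega⟩ (Nat.find_spec hex)
    refine ⟨_, N, hN, hle, fun i hi => lt_of_le_of_ne (hle i) fun he => ?_⟩
    have := hNmin i he.symm
    omega
  by_contra hne
  simp only [not_or, not_forall] at hne
  obtain ⟨e, N, hN, hNle, hNlt⟩ := hmin f hne.1
  obtain ⟨e', M, hM, hMle, hMlt⟩ := hmin g hne.2
  let n := e + e' + 1
  let ρ := (Ideal.Quotient.mk (maximalIdeal V ^ n)).comp φ
  have hco : ρ (al r hr f N * al r hr g M) = 0 := by
    have h0 := psi_eq_zero r hr φ hφ h𝔭 n hfg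
    rw [map_mul] at h0
    have h1 := congrArg (fun s => HahnSeries.coeff s (N + M)) h0
    simp only [HahnSeries.coeff_zero] at h1
    rw [← h1, HahnSeries.coeff_mul, Finset.sum_eq_single (N, M)]
    · simp [coeff_psi, ρ]
    · rintro ⟨i, j⟩ hij hne'
      rw [Finset.mem_antidiagonal] at hij
      rw [coeff_psi, coeff_psi, ← map_mul]
      refine (hker _ _).mpr ?_
      simp only [w, map_mul, IsDiscreteValuationRing.addVal_mul]
      rcases lt_trichotomy i N with hi | hi | hi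
      · have := (ENat.add_one_le_iff (ENat.natCast_ne_top e)).mpr (hNlt i hi)
        simp only [n, Nat.cast_add, Nat.cast_one]
        calc ((e : ℕ∞) + e' + 1) = ((e : ℕ∞) + 1) + e' := by ring
          _ ≤ _ := add_le_add this (hMle j)
      · exfalso; apply hne'
        have : j = M := by have := hij.2.2; simp at this; omega
        rw [hi, this]
      · have hj : j < M := by have := hij.2.2; simp at this; omega
        have := (ENat.add_one_le_iff (ENat.natCast_ne_top e')).mpr (hMlt j hj)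
        simp only [n, Nat.cast_add, Nat.cast_one]
        calc ((e : ℕ∞) + e' + 1) = (e : ℕ∞) + (e' + 1) := by ring
          _ ≤ _ := add_le_add (hNle i) this
    · intro hnot
      rw [Finset.mem_antidiagonal] at hnot
      simp only [not_and_or, HahnSeries.mem_support, not_not] at hnot
      rcases hnot with h' | h' | h'
      · rw [h', zero_mul]
      · rw [h', mul_zero]
      · simp at h'
  have h := (hker _ _).mp hco
  simp only [w, map_mul, IsDiscreteValuationRing.addVal_mul] at h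
  simp only [w] at hN hM
  rw [hN, hM, ← Nat.cast_add] at h
  exact absurd (ENat.natCast_le_natCast.mp h) (by simp [n])

end val

theorem al_mem (r : R) (hr : r ∈ maximalIdeal R) {𝔭 : Ideal R} [𝔭.IsPrime] (hrp : r ∉ 𝔭)
    {f : P2 R} (hf : f ∈ K r 𝔭) (k : ℤ) : al r hr f k ∈ 𝔭 := by
  obtain ⟨V, _, _, _, φ, hφ, hker⟩ := exists_dvr r hr 𝔭 hrp
  exact (hker _).mp (phi_al_eq_zero r hr φ hφ (fun a ha => (hker a).mpr ha) hf k)

theorem dsum_mem (r : R) (hr : r ∈ maximalIdeal R) {𝔭 : Ideal R} [h𝔭 : 𝔭.IsPrime] (hrp : r ∉ 𝔭)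
    {f : P2 R} (hf : ∀ k, al r hr f k ∈ 𝔭) {i j : ℕ} (hij : i = 0 ∨ j = 0) : dsum r hr f i j ∈ 𝔭 := by
  rcases hij with rfl | rfl
  · have h := hf (-(j : ℤ))
    rw [al_neg] at h
    exact (h𝔭.mem_or_mem h).resolve_left fun h' => hrp (h𝔭.mem_of_pow_mem _ h')
  · exact hf (i : ℤ)

theorem mem_K_of_al (r : R) (hr : r ∈ maximalIdeal R) {𝔭 : Ideal R} [𝔭.IsPrime] (hrp : r ∉ 𝔭)
    {f : P2 R} (hf : ∀ k, al r hr f k ∈ 𝔭) : f ∈ K r 𝔭 := by
  let G : P2 R := fun d => dsum r hr f (d 0 + 1) (d 1 + 1)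
  have hG : ∀ i j, MvPowerSeries.coeff (ex i j) G = dsum r hr f (i + 1) (j + 1) := fun i j => by
    show dsum r hr f _ _ = _
    rw [ex_zero, ex_one]
  rw [show f = (f - rel r * G) + rel r * G by ring]
  refine add_mem (Ideal.mem_sup_left (mem_map_of_coeff (IsNoetherian.noetherian 𝔭) fun d => ?_))
    (Ideal.mem_sup_right (Ideal.mem_span_singleton.mpr (dvd_mul_right _ _)))
  rw [eq_ex d, coeff_rem r hr f G hG]
  split_ifs with h
  · exact dsum_mem r hr hrp hf h
  · exact zero_mem _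

theorem isPrime_K (r : R) (hr : r ∈ maximalIdeal R) {𝔭 : Ideal R} [𝔭.IsPrime] (hrp : r ∉ 𝔭) :
    (K r 𝔭).IsPrime where
  ne_top' := fun h => Ideal.IsPrime.ne_top ‹𝔭.IsPrime› <| (Ideal.eq_top_iff_one _).mpr <| by
    have := al_mem r hr hrp (f := (1 : P2 R)) (h ▸ Submodule.mem_top) 0
    rwa [← map_one (MvPowerSeries.C (σ := Fin 2) (R := R)), al_C, if_pos rfl] at this
  mem_or_mem' {f g} hfg := by
    obtain ⟨V, _, _, _, φ, hφ, hker⟩ := exists_dvr r hr 𝔭 hrp
    rcases all_zero_or r hr φ hφ (fun a ha => (hker a).mpr ha) hfg with h | h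
    · exact Or.inl (mem_K_of_al r hr hrp fun k => (hker _).mp (h k))
    · exact Or.inr (mem_K_of_al r hr hrp fun k => (hker _).mp (h k))

theorem mem_KP (r : R) (hr : r ∈ maximalIdeal R) {𝔭 : Ideal R} [𝔭.IsPrime] (hrp : r ∉ 𝔭) (F : F2 R)
    (hF : (MvPolynomial.coeToMvPowerSeries.ringHom : F2 R →+* P2 R) F ∈ K r 𝔭) : F ∈ KP r 𝔭 := by
  classical
  set f : P2 R := (MvPolynomial.coeToMvPowerSeries.ringHom : F2 R →+* P2 R) F with hf
  let D := F.totalDegree + 1
  have hvan : ∀ i j, D ≤ i + j → dsum r hr f i j = 0 := by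
    intro i j hD
    refine eq_of_forall_sub_mem fun n => ?_
    have hd : diag r f n i j = 0 := Finset.sum_eq_zero fun t _ => by
      rw [hf, MvPolynomial.coeToMvPowerSeries.ringHom_apply, MvPolynomial.coeff_coe,
        MvPolynomial.coeff_eq_zero_of_totalDegree_lt, mul_zero]
      rw [show (∑ k ∈ (ex (i + t) (j + t)).support, ex (i + t) (j + t) k) =
        ∑ k : Fin 2, ex (i + t) (j + t) k from Finset.sum_subset (Finset.subset_univ _)
          (fun k _ hk => by simpa using hk), Fin.sum_univ_two, ex_zero, ex_one]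
      omega
    have h := dsum_spec r hr f i j n
    rwa [hd] at h
  let G : F2 R := ∑ q ∈ Finset.range D ×ˢ Finset.range D,
    MvPolynomial.monomial (ex q.1 q.2) (dsum r hr f (q.1 + 1) (q.2 + 1))
  have hG : ∀ i j, MvPowerSeries.coeff (ex i j)
      ((MvPolynomial.coeToMvPowerSeries.ringHom : F2 R →+* P2 R) G) = dsum r hr f (i + 1) (j + 1) := by
    intro i j
    rw [MvPolynomial.coeToMvPowerSeries.ringHom_apply, MvPolynomial.coeff_coe, MvPolynomial.coeff_sum]
    by_cases h : i < D ∧ j < D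
    · rw [Finset.sum_eq_single (i, j) (fun q _ hq => ?_) (fun hn => absurd (by simp [h]) hn),
        MvPolynomial.coeff_monomial, if_pos rfl]
      rw [MvPolynomial.coeff_monomial, if_neg]
      intro he
      refine hq (Prod.ext ?_ ?_)
      · simpa [ex] using DFunLike.congr_fun he 0
      · simpa [ex] using DFunLike.congr_fun he 1
    · rw [Finset.sum_eq_zero, hvan _ _ (by omega)]
      intro q hq
      simp only [Finset.mem_product, Finset.mem_range] at hq
      rw [MvPolynomial.coeff_monomial, if_neg]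
      intro he
      have h0 := DFunLike.congr_fun he 0
      have h1 := DFunLike.congr_fun he 1
      simp [ex] at h0 h1
      omega
  rw [show F = (F - relP r * G) + relP r * G by ring]
  refine add_mem (Ideal.mem_sup_left (MvPolynomial.mem_map_C_iff.mpr fun d => ?_))
    (Ideal.mem_sup_right (Ideal.mem_span_singleton.mpr (dvd_mul_right _ _)))
  have hc : MvPolynomial.coeff d (F - relP r * G) = MvPowerSeries.coeff d
      ((MvPolynomial.coeToMvPowerSeries.ringHom : F2 R →+* P2 R) (F - relP r * G)) := by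
    rw [MvPolynomial.coeToMvPowerSeries.ringHom_apply, MvPolynomial.coeff_coe]
  rw [hc, map_sub, map_mul, coe_relP, eq_ex d, coeff_rem r hr f _ hG]
  split_ifs with h
  · exact dsum_mem r hr hrp (al_mem r hr hrp hF) h
  · exact zero_mem _

end Groth.Agent.Misc3.NodePrimes
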