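import Mathlib.RingTheory.Ideal.KrullsHeightTheorem
import Mathlib.RingTheory.Ideal.UFD
import Mathlib.RingTheory.Localization.AtPrime.Basic
import Mathlib.RingTheory.UniqueFactorizationDomain.Basic

/-!
A Noetherian domain is factorial if a localisation at a prime is, and the height one primes outside
that prime are principal.
-/

set_option autoImplicit false
universe u

namespace Groth.Agent.Misc3.NodeUFDCrit

theorem ufd_of_atPrime {A : Type u} [CommRing A] [IsDomain A] [IsNoetherianRing A] (𝔞 : Ideal A)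
    [𝔞.IsPrime] (hgood : ∀ P : Ideal A, P.IsPrime → P.height = 1 → ¬ P ≤ 𝔞 → P.IsPrincipal)
    [UniqueFactorizationMonoid (Localization.AtPrime 𝔞)] : UniqueFactorizationMonoid A := by
  classical
  let L := Localization.AtPrime 𝔞
  haveI : IsDomain L := IsLocalization.isDomain_localization 𝔞.primeCompl_le_nonZeroDivisors
  have hinj : Function.Injective (algebraMap A L) :=
    IsLocalization.injective L 𝔞.primeCompl_le_nonZeroDivisors
  -- elements outside `𝔞` are products of primes outside `𝔞`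
  have hfac : ∀ s : A, s ∉ 𝔞 → ¬ IsUnit s → ∃ q, Prime q ∧ q ∉ 𝔞 ∧ q ∣ s := by
    intro s hs hsu
    obtain ⟨Q, hQ⟩ := (Ideal.span {s}).nonempty_minimalPrimes (by simpa [Ideal.span_singleton_eq_top] using hsu)
    haveI := hQ.1.1
    have hsQ : s ∈ Q := hQ.1.2 (Ideal.subset_span rfl)
    have hne : Q ≠ ⊥ := fun h => hs (by
      have h0 : s = 0 := by simpa [h] using hsQ
      rw [h0]; exact zero_mem _)
    have hQ1 : Q.height = 1 := le_antisymm (Ideal.height_le_one_of_isPrincipal_of_mem_minimalPrimes _ _ hQ)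
      (by rw [Order.one_le_iff_pos, pos_iff_ne_zero, ne_eq, Ideal.height_eq_zero_iff_eq_bot]; exact hne)
    have hna : ¬ Q ≤ 𝔞 := fun h => hs (h hsQ)
    obtain ⟨q, hq⟩ := (hgood Q inferInstance hQ1 hna).principal
    rw [Ideal.submodule_span_eq] at hq
    have hq0 : q ≠ 0 := fun h => hne (by rw [hq, h]; simp)
    refine ⟨q, (Ideal.span_singleton_prime hq0).mp (hq ▸ inferInstance), fun h => hna ?_, ?_⟩
    · rw [hq]; exact (Ideal.span_singleton_le_iff_mem _).mpr h
    · rw [hq, Ideal.mem_span_singleton] at hsQ; exact hsQ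
  -- remove good primes
  have hstrip : ∀ a : A, a ≠ 0 → ∃ g s, a = g * s ∧ s ∉ 𝔞 ∧ ∀ q, Prime q → q ∉ 𝔞 → ¬ q ∣ g := by
    intro a
    induction a using (wellFounded_dvdNotUnit (α := A)).induction with
    | _ a ih =>
      intro ha
      by_cases h : ∃ q, Prime q ∧ q ∉ 𝔞 ∧ q ∣ a
      · obtain ⟨q, hq, hqa, b, rfl⟩ := h
        have hb : b ≠ 0 := right_ne_zero_of_mul ha
        obtain ⟨g, s, hbs, hs, hg⟩ := ih b ⟨hb, q, hq.not_isUnit, mul_comm q b⟩ hb
        exact ⟨g, q * s, by rw [hbs]; ring, fun hqs => (Ideal.IsPrime.mem_or_mem ‹_› hqs).elim hqa hs, hg⟩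
      · exact ⟨a, 1, (mul_one a).symm, fun h1 => Ideal.IsPrime.ne_top ‹_› ((Ideal.eq_top_iff_one _).mpr h1),
          fun q h1 h2 h3 => h ⟨q, h1, h2, h3⟩⟩
  refine UniqueFactorizationMonoid.of_forall_isPrincipal_of_height_eq_one fun P hP hh => ?_
  by_cases hPa : P ≤ 𝔞
  swap
  · exact hgood P hP hh hPa
  have hdisj : Disjoint (𝔞.primeCompl : Set A) (P : Set A) :=
    Set.disjoint_left.mpr fun x hx hxP => hx (hPa hxP)
  let PL := P.map (algebraMap A L)
  haveI : PL.IsPrime := IsLocalization.isPrime_of_isPrime_disjoint 𝔞.primeCompl L P hP hdisj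
  have hh' : PL.height = 1 := (IsLocalization.height_map_of_disjoint (S := L) 𝔞.primeCompl P hdisj).trans hh
  obtain ⟨π, hπ, hπp⟩ := (inferInstance : PL.IsPrime).exists_mem_prime_of_ne_bot (Ideal.ne_bot_of_height_eq_one hh')
  have hPL : PL = Ideal.span {π} := PL.eq_span_singleton_of_height_eq_one hh' hπ hπp
  obtain ⟨⟨g0, s0⟩, hgs⟩ := IsLocalization.surj 𝔞.primeCompl π
  have hg0 : g0 ∈ P := by
    have h : algebraMap A L g0 ∈ PL := by rw [← hgs]; exact PL.mul_mem_right _ hπ
    exact (SetLike.ext_iff.mp (IsLocalization.under_map_of_isPrime_disjoint 𝔞.primeCompl L hP hdisj) g0).mp h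
  have hg0' : g0 ≠ 0 := by
    intro h
    rw [h, map_zero] at hgs
    exact mul_ne_zero hπp.ne_zero (IsLocalization.map_units L s0).ne_zero hgs
  obtain ⟨g, s, hgeq, hs, hg⟩ := hstrip g0 hg0'
  have hgP : g ∈ P := ((hP.mem_or_mem (hgeq ▸ hg0)).resolve_right fun h => hs (hPa h))
  have hcancel : ∀ t : A, t ∉ 𝔞 → ∀ x, g ∣ t * x → g ∣ x := by
    intro t
    induction t using (wellFounded_dvdNotUnit (α := A)).induction with
    | _ t ih =>
      intro ht x hx
      by_cases hu : IsUnit t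
      · exact (IsUnit.dvd_mul_left hu).mp hx
      obtain ⟨q, hq, hqa, b, rfl⟩ := hfac t ht hu
      have hb : b ∉ 𝔞 := fun h => ht (Ideal.mul_mem_left _ _ h)
      have hb0 : b ≠ 0 := fun h => hb (h ▸ zero_mem _)
      refine ih b ⟨hb0, q, hq.not_isUnit, mul_comm q b⟩ hb x ?_
      obtain ⟨a, ha⟩ := hx
      obtain ⟨a', rfl⟩ : q ∣ a := (hq.dvd_or_dvd (show q ∣ g * a from ha ▸ by
        rw [mul_assoc]; exact dvd_mul_right _ _)).resolve_left (hg q hq hqa)
      exact ⟨a', mul_left_cancel₀ hq.ne_zero (by rw [← mul_assoc, ha]; ring)⟩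
  refine ⟨⟨g, le_antisymm (fun x hx => ?_) ?_⟩⟩
  · rw [Ideal.submodule_span_eq, Ideal.mem_span_singleton]
    have h : algebraMap A L x ∈ Ideal.span {π} := hPL ▸ Ideal.mem_map_of_mem _ hx
    obtain ⟨c, hc⟩ := Ideal.mem_span_singleton.mp h
    -- `x` is a multiple of `g` in `L`
    obtain ⟨v, hv⟩ := (IsLocalization.map_units L s0).exists_right_inv
    have hπg : π = algebraMap A L g0 * v := by rw [← hgs, mul_assoc, hv, mul_one]
    obtain ⟨⟨a, t⟩, hat⟩ := IsLocalization.surj 𝔞.primeCompl (algebraMap A L s * v * c)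
    refine hcancel t t.2 x ⟨a, hinj ?_⟩
    rw [map_mul, map_mul, ← hat, hc, hπg, hgeq, map_mul]
    ring
  · rw [Ideal.submodule_span_eq, Ideal.span_singleton_le_iff_mem]
    exact hgP

end Groth.Agent.Misc3.NodeUFDCrit
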