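import Groth.Agent.Misc3.NodeFibral
import Groth.Agent.Misc3.NodeUFDCrit
import Groth.Agent.ArtKit.PSRing
import Groth.Agent.Cohen.Structure
import Groth.Agent.UFDLib.Regular
import Groth.Agent.FiltRees.Ufd
import Groth.Agent.RegLoc.Normal
import Mathlib.RingTheory.PowerSeries.WeierstrassPreparation

/-!
`R[[x,y]]/(xy - Δ)` is factorial iff `Δ` is prime (`R` complete regular local).
-/

set_option autoImplicit false
universe u

open IsLocalRing

noncomputable section

namespace Groth.Agent.Misc3.NodeUFD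

open Groth.Agent.Misc3.NodeUnits Groth.Agent.Misc3.NodePrimes Groth.Agent.Misc3.NodeFibral

variable {R : Type u} [CommRing R] [IsRegularLocalRing R] [IsAdicComplete (maximalIdeal R) R] [IsDomain R]

abbrev ch (Δ : R) (p : Ideal R) [Decidable (Δ ∈ p)] : Ideal (A Δ) :=
  Ideal.map (Ideal.Quotient.mk (I Δ)) (if Δ ∈ p then Kx p 0 else K Δ p)

theorem mem_of_mem_map {Δ : R} {J : Ideal (P2 R)} (hJ : I Δ ≤ J) {f : P2 R}
    (h : Ideal.Quotient.mk (I Δ) f ∈ Ideal.map (Ideal.Quotient.mk (I Δ)) J) : f ∈ J := by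
  rwa [Ideal.mem_quotient_iff_mem_sup, sup_eq_left.mpr hJ] at h

/-- `A` localised at `(m, x)` is regular. -/
theorem regular_atPrime {Δ : R} (hΔ : Δ ∈ maximalIdeal R) (hΔ0 : Δ ≠ 0) (𝔞 : Ideal (A Δ)) [𝔞.IsPrime]
    (h𝔞 : 𝔞 = Ideal.map (Ideal.Quotient.mk (I Δ)) (Kx (maximalIdeal R) 0)) :
    IsRegularLocalRing (Localization.AtPrime 𝔞) := by
  classical
  subst h𝔞
  let 𝔞 : Ideal (A Δ) := Ideal.map (Ideal.Quotient.mk (I Δ)) (Kx (maximalIdeal R) 0)
  haveI : 𝔞.IsPrime := ‹_›
  haveI := isDomain_A Δ hΔ hΔ0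
  let L := Localization.AtPrime 𝔞
  haveI : IsNoetherianRing L := IsLocalization.isNoetherianRing 𝔞.primeCompl _ inferInstance
  refine IsRegularLocalRing.of_spanFinrank_maximalIdeal_le L ?_
  let j : R →+* L := (algebraMap (A Δ) L).comp ((Ideal.Quotient.mk (I Δ)).comp MvPowerSeries.C)
  have hmax : maximalIdeal L = Ideal.map j (maximalIdeal R) := by
    refine le_antisymm ?_ ?_
    · rw [← Localization.AtPrime.map_eq_maximalIdeal, Ideal.map_map, Kx, Ideal.map_sup,
        Ideal.map_map, RingHom.comp_assoc]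
      refine sup_le le_rfl ?_
      rw [Ideal.map_span, Set.image_singleton, Ideal.span_singleton_le_iff_mem]
      have hy : IsUnit (algebraMap (A Δ) L (Ideal.Quotient.mk (I Δ) (MvPowerSeries.X 1))) := by
        refine IsLocalization.map_units L (⟨_, fun h => ?_⟩ : 𝔞.primeCompl)
        exact X_not_mem_Kx (by decide) (mem_of_mem_map (I_le_Kx _ _ hΔ 0) h)
      refine (Ideal.mul_unit_mem_iff_mem _ hy).mp ?_
      rw [RingHom.comp_apply, ← map_mul, ← map_mul,
        show Ideal.Quotient.mk (I Δ) (MvPowerSeries.X 0 * MvPowerSeries.X 1) =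
          Ideal.Quotient.mk (I Δ) (MvPowerSeries.C Δ) from
          (Ideal.Quotient.mk_eq_mk_iff_sub_mem _ _).mpr (Ideal.subset_span rfl)]
      exact Ideal.mem_map_of_mem j hΔ
    · rw [Ideal.map_le_iff_le_comap]
      intro a ha
      rw [Ideal.mem_comap, ← Localization.AtPrime.map_eq_maximalIdeal]
      exact Ideal.mem_map_of_mem _ (Ideal.mem_map_of_mem _ (Ideal.mem_sup_left (Ideal.mem_map_of_mem _ ha)))
  -- dimension
  have hle : ∀ p : Ideal R, p.IsPrime → I Δ ≤ (if Δ ∈ p then Kx p 0 else K Δ p) := fun p _ => by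
    split_ifs with h
    · exact I_le_Kx _ _ h 0
    · exact I_le_K _ _
  have hC : ∀ p : Ideal R, Ideal.map MvPowerSeries.C p ≤ (if Δ ∈ p then Kx p 0 else K Δ p) := fun p => by
    split_ifs <;> exact le_sup_left
  have hprime : ∀ p : Ideal R, p.IsPrime → (ch Δ p).IsPrime := by
    intro p hp
    haveI : (if Δ ∈ p then Kx p 0 else K Δ p).IsPrime := by
      split_ifs with h
      · exact isPrime_Kx (IsNoetherian.noetherian p) 0
      · exact isPrime_K Δ hΔ h
    exact Ideal.map_isPrime_of_surjective Ideal.Quotient.mk_surjective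
      (by rw [Ideal.mk_ker]; exact hle p hp)
  have hcomap : ∀ p : Ideal R, p.IsPrime → ∀ a : R,
      Ideal.Quotient.mk (I Δ) (MvPowerSeries.C a) ∈ ch Δ p ↔ a ∈ p := by
    intro p hp a
    refine ⟨fun h => ?_, fun h => Ideal.mem_map_of_mem _ (hC p (Ideal.mem_map_of_mem _ h))⟩
    have h' := mem_of_mem_map (hle p hp) h
    split_ifs at h' with hd
    · rw [mem_Kx_iff (IsNoetherian.noetherian p)] at h'
      simpa using h' 0 rfl
    · have := al_mem Δ hΔ hd h' 0
      rwa [al_C, if_pos rfl] at this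
  have hmono : ∀ p q : Ideal R, p.IsPrime → q.IsPrime → p ≤ q → ch Δ p ≤ ch Δ q := by
    intro p q hp hq hpq
    refine Ideal.map_mono ?_
    by_cases hd : Δ ∈ p
    · rw [if_pos hd, if_pos (hpq hd)]
      exact sup_le_sup_right (Ideal.map_mono hpq) _
    · rw [if_neg hd]
      exact sup_le ((Ideal.map_mono hpq).trans (hC q)) (hle q hq)
  have hmap : ∀ p : PrimeSpectrum R, Disjoint (𝔞.primeCompl : Set (A Δ)) (ch Δ p.asIdeal : Set (A Δ)) := by
    intro p
    refine Set.disjoint_left.mpr fun a ha hap => ha ?_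
    have := hmono p.asIdeal (maximalIdeal R) p.2 (maximalIdeal.isMaximal R).isPrime
      (IsLocalRing.le_maximalIdeal p.2.ne_top) hap
    simpa [ch, hΔ] using this
  let G : PrimeSpectrum R → PrimeSpectrum L := fun p =>
    ⟨(ch Δ p.asIdeal).map (algebraMap (A Δ) L),
      IsLocalization.isPrime_of_isPrime_disjoint 𝔞.primeCompl L _ (hprime _ p.2) (hmap p)⟩
  have hG : StrictMono G := by
    intro p q hpq
    refine lt_of_le_of_ne (Ideal.map_mono (hmono _ _ p.2 q.2 hpq.le) : (G p).asIdeal ≤ (G q).asIdeal) fun he => ?_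
    have he' := congrArg (fun x : PrimeSpectrum L => x.asIdeal.under (A Δ)) he
    simp only [G, IsLocalization.under_map_of_isPrime_disjoint 𝔞.primeCompl L (hprime _ p.2) (hmap p),
      IsLocalization.under_map_of_isPrime_disjoint 𝔞.primeCompl L (hprime _ q.2) (hmap q)] at he'
    refine hpq.ne (PrimeSpectrum.ext (Ideal.ext fun a => ?_))
    rw [← hcomap _ p.2, ← hcomap _ q.2, he']
  calc ((maximalIdeal L).spanFinrank : WithBot ℕ∞) ≤ ((maximalIdeal R).spanFinrank : WithBot ℕ∞) := by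
        rw [hmax]
        exact_mod_cast Ideal.spanFinrank_map_le_of_fg j (IsNoetherian.noetherian (maximalIdeal R))
    _ = ringKrullDim R := (IsRegularLocalRing.spanFinrank_maximalIdeal (R := R))
    _ ≤ _ := Order.krullDim_le_of_strictMono G hG

abbrev Cx (R : Type u) [CommRing R] := PowerSeries R

/-- `f ↦` the series in `y` with coefficients series in `x`. -/
def E : P2 R ≃+* PowerSeries (Cx R) :=
  ((MvPowerSeries.renameEquiv R e2).trans (MvPowerSeries.optionEquivLeft Unit R)).toRingEquiv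

omit [IsRegularLocalRing R] [IsAdicComplete (maximalIdeal R) R] [IsDomain R] in
theorem E_apply (f : P2 R) :
    E f = MvPowerSeries.optionEquivLeft Unit R (MvPowerSeries.rename (⇑(e2.toEmbedding)) f) := rfl

omit [IsRegularLocalRing R] [IsAdicComplete (maximalIdeal R) R] [IsDomain R] in
theorem E_X0 : E (MvPowerSeries.X 0 : P2 R) = PowerSeries.C (PowerSeries.X : Cx R) := by
  rw [E_apply, MvPowerSeries.rename_X]
  exact MvPowerSeries.optionEquivLeft_X_some (R := R) ()

omit [IsRegularLocalRing R] [IsAdicComplete (maximalIdeal R) R] [IsDomain R] in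
theorem E_X1 : E (MvPowerSeries.X 1 : P2 R) = PowerSeries.X := by
  rw [E_apply, MvPowerSeries.rename_X]
  exact MvPowerSeries.optionEquivLeft_X_none (R := R) (σ := Unit)

omit [IsRegularLocalRing R] [IsAdicComplete (maximalIdeal R) R] [IsDomain R] in
theorem E_C (a : R) : E (MvPowerSeries.C a : P2 R) = PowerSeries.C (PowerSeries.C a : Cx R) := by
  rw [E_apply, MvPowerSeries.rename_C]
  exact MvPowerSeries.optionEquivLeft_C (σ := Unit) a

/-- The relation as a polynomial in `y` over `R[[x]]`. -/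
def relY (Δ : R) : Polynomial (Cx R) :=
  Polynomial.C PowerSeries.X * Polynomial.X - Polynomial.C (PowerSeries.C Δ)

def J (Δ : R) : Ideal (Polynomial (Cx R)) := Ideal.span {relY Δ}

/-- `R[[x]][y] → A`. -/
def θ (Δ : R) : Polynomial (Cx R) →+* A Δ :=
  (Ideal.Quotient.mk (I Δ)).comp (E.symm.toRingHom.comp Polynomial.coeToPowerSeries.ringHom)

omit [IsRegularLocalRing R] [IsAdicComplete (maximalIdeal R) R] [IsDomain R] in
theorem E_rel (Δ : R) : E (rel Δ) = ((relY Δ : Polynomial (Cx R)) : PowerSeries (Cx R)) := by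
  rw [rel, map_sub, map_mul, E_X0, E_X1, E_C, relY]
  simp

omit [IsRegularLocalRing R] [IsAdicComplete (maximalIdeal R) R] [IsDomain R] in
theorem θ_rel (Δ : R) : θ Δ (relY Δ) = 0 := by
  rw [θ, RingHom.comp_apply, Ideal.Quotient.eq_zero_iff_mem]
  have : E.symm ((relY Δ : Polynomial (Cx R)) : PowerSeries (Cx R)) = rel Δ := by
    rw [← E_rel, RingEquiv.symm_apply_apply]
  exact Ideal.subset_span this

theorem ker_ev (Δ : R) (hΔ0 : Δ ≠ 0) {L : Type u} [CommRing L] [IsDomain L] [Algebra (Cx R) L]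
    (hinj : Function.Injective (algebraMap (Cx R) L)) (z : L)
    (hz : algebraMap (Cx R) L PowerSeries.X * z = algebraMap (Cx R) L (PowerSeries.C Δ))
    (F : Polynomial (Cx R)) (hF : F.eval₂ (algebraMap (Cx R) L) z = 0) : F ∈ J Δ := by
  classical
  induction hn : F.natDegree using Nat.strong_induction_on generalizing F with
  | _ n ih =>
    rcases Nat.eq_zero_or_pos n with rfl | hpos
    · obtain ⟨a, rfl⟩ := Polynomial.natDegree_eq_zero.mp hn
      rw [Polynomial.eval₂_C] at hF
      rw [hinj (hF.trans (map_zero _).symm), map_zero]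
      exact zero_mem _
    have hsum : algebraMap (Cx R) L (∑ i ∈ Finset.range (n + 1),
        F.coeff i * (PowerSeries.C Δ) ^ i * PowerSeries.X ^ (n - i)) = 0 := by
      have h0 : (algebraMap (Cx R) L PowerSeries.X) ^ n * F.eval₂ (algebraMap (Cx R) L) z = 0 := by
        rw [hF, mul_zero]
      rw [Polynomial.eval₂_eq_sum_range, hn, Finset.mul_sum] at h0
      rw [map_sum, ← h0]
      refine Finset.sum_congr rfl fun i hi => ?_
      rw [map_mul, map_mul, map_pow, map_pow, ← hz, mul_pow]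
      rw [show (algebraMap (Cx R) L PowerSeries.X) ^ n =
        (algebraMap (Cx R) L PowerSeries.X) ^ i * (algebraMap (Cx R) L PowerSeries.X) ^ (n - i) by
          rw [← pow_add, Nat.add_sub_cancel' (Nat.le_of_lt_succ (Finset.mem_range.mp hi))]]
      ring
    have h := hinj (hsum.trans (map_zero _).symm)
    rw [Finset.sum_range_succ, Nat.sub_self, pow_zero, mul_one] at h
    have hXlast : (PowerSeries.X : Cx R) ∣ F.coeff n * (PowerSeries.C Δ) ^ n := by
      rw [eq_neg_of_add_eq_zero_right h]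
      refine dvd_neg.mpr (Finset.dvd_sum fun i hi => ?_)
      exact Dvd.dvd.mul_left (dvd_pow_self _ (by simp only [Finset.mem_range] at hi; omega)) _
    obtain ⟨b, hb⟩ : (PowerSeries.X : Cx R) ∣ F.coeff n := by
      refine (PowerSeries.X_prime.dvd_or_dvd hXlast).resolve_right fun h => ?_
      have h' := PowerSeries.X_prime.dvd_of_dvd_pow h
      rw [PowerSeries.X_dvd_iff, PowerSeries.constantCoeff_C] at h'
      exact hΔ0 h'
    let G := Polynomial.C b * Polynomial.X ^ (n - 1) * relY Δ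
    have hG : G = Polynomial.C (F.coeff n) * Polynomial.X ^ n -
        Polynomial.C (b * PowerSeries.C Δ) * Polynomial.X ^ (n - 1) := by
      simp only [G, relY, hb, map_mul]
      rw [show (Polynomial.X : Polynomial (Cx R)) ^ n = Polynomial.X ^ (n - 1) * Polynomial.X by
        rw [← pow_succ, Nat.sub_add_cancel hpos]]
      ring
    have hGmem : G ∈ J Δ := Ideal.mem_span_singleton'.mpr ⟨_, rfl⟩
    have hev : (F - G).eval₂ (algebraMap (Cx R) L) z = 0 := by
      rw [Polynomial.eval₂_sub, hF, zero_sub, neg_eq_zero]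
      simp only [G, relY, Polynomial.eval₂_mul, Polynomial.eval₂_sub, Polynomial.eval₂_C, Polynomial.eval₂_X,
        hz, sub_self, mul_zero]
    have hdeg : (F - G).natDegree < n := by
      refine Nat.lt_of_le_sub_one hpos (Polynomial.natDegree_le_iff_coeff_eq_zero.mpr fun N hN => ?_)
      rw [hG]
      simp only [Polynomial.coeff_sub, Polynomial.coeff_C_mul, Polynomial.coeff_X_pow]
      by_cases hNn : N = n
      · subst hNn
        rw [if_pos rfl, if_neg (by omega)]; ring
      · rw [if_neg hNn, if_neg (by omega), Polynomial.coeff_eq_zero_of_natDegree_lt (by omega)]; ring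
    have := add_mem (ih _ hdeg (F - G) hev rfl) hGmem
    rwa [sub_add_cancel] at this

/-- `R[[x]][y]/(xy - Δ)`. -/
abbrev B (Δ : R) := Polynomial (Cx R) ⧸ J Δ

theorem ufd_B {Δ : R} (hp : Prime Δ) :
    IsDomain (B Δ) ∧ UniqueFactorizationMonoid (B Δ) := by
  haveI : IsRegularLocalRing (Cx R) := Groth.Agent.Cohen.isRegularLocalRing_powerSeries R
  haveI : IsDomain (Cx R) := Groth.Agent.RegLoc.isDomain _
  haveI : UniqueFactorizationMonoid (Cx R) := Groth.Agent.UFDLib.ufd_of_isRegularLocalRing _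
  have hX : (PowerSeries.X : Cx R) ≠ 0 := PowerSeries.X_ne_zero
  have hle := powers_le_nonZeroDivisors_of_noZeroDivisors hX
  let L := Localization.Away (PowerSeries.X : Cx R)
  haveI : IsDomain L := IsLocalization.isDomain_localization hle
  haveI : UniqueFactorizationMonoid L :=
    UniqueFactorizationMonoid.of_isLocalization (Submonoid.powers (PowerSeries.X : Cx R)) L
  have hinj : Function.Injective (algebraMap (Cx R) L) := IsLocalization.injective L hle
  have hu : IsUnit (algebraMap (Cx R) L PowerSeries.X) := IsLocalization.Away.algebraMap_isUnit _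
  let z : L := algebraMap (Cx R) L (PowerSeries.C Δ) * (hu.unit⁻¹ : Lˣ)
  have hz : algebraMap (Cx R) L PowerSeries.X * z = algebraMap (Cx R) L (PowerSeries.C Δ) := by
    simp only [z]
    rw [mul_left_comm, hu.mul_val_inv, mul_one]
  let ev : Polynomial (Cx R) →+* L := Polynomial.eval₂RingHom (algebraMap (Cx R) L) z
  have hJ : ∀ F ∈ J Δ, ev F = 0 := by
    intro F hF
    obtain ⟨G, rfl⟩ := Ideal.mem_span_singleton'.mp hF
    rw [map_mul]
    simp [ev, relY, hz]
  let ev' : B Δ →+* L := Ideal.Quotient.lift (J Δ) ev hJ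
  have hinj' : Function.Injective ev' := (injective_iff_map_eq_zero ev').mpr fun b hb => by
    obtain ⟨F, rfl⟩ := Ideal.Quotient.mk_surjective b
    exact Ideal.Quotient.eq_zero_iff_mem.mpr (ker_ev Δ hp.ne_zero hinj z hz F hb)
  haveI : IsDomain (B Δ) := hinj'.isDomain ev'
  refine ⟨inferInstance, ?_⟩
  let x : B Δ := Ideal.Quotient.mk _ (Polynomial.C PowerSeries.X)
  have hevx : ev' x = algebraMap (Cx R) L PowerSeries.X := by simp [x, ev', ev]
  letI : Algebra (B Δ) L := ev'.toAlgebra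
  haveI : IsLocalization.Away x L := by
    refine (isLocalization_iff _ _).mpr ⟨?_, fun w => ?_, fun {a b} h => ⟨1, by rw [hinj' h]⟩⟩
    · rintro ⟨_, n, rfl⟩
      show IsUnit (ev' (x ^ n))
      rw [map_pow, hevx]
      exact hu.pow n
    · obtain ⟨⟨a, ⟨_, n, rfl⟩⟩, h⟩ := IsLocalization.surj (Submonoid.powers (PowerSeries.X : Cx R)) w
      refine ⟨⟨Ideal.Quotient.mk _ (Polynomial.C a), ⟨x ^ n, n, rfl⟩⟩, ?_⟩
      show w * ev' (x ^ n) = ev' _
      rw [map_pow, hevx, ← map_pow]
      simpa [ev', ev] using h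
  haveI : (Ideal.span {Δ}).IsPrime := (Ideal.span_singleton_prime hp.ne_zero).mpr hp
  let ρ : Polynomial (Cx R) →+* Polynomial (R ⧸ Ideal.span {Δ}) :=
    Polynomial.mapRingHom ((Ideal.Quotient.mk _).comp PowerSeries.constantCoeff)
  have hρrel : ρ (relY Δ) = 0 := by
    simp [ρ, relY, Ideal.Quotient.eq_zero_iff_mem.mpr (Ideal.subset_span (Set.mem_singleton Δ))]
  have hρJ : ∀ F ∈ J Δ, ρ F = 0 := by
    intro F hF
    obtain ⟨G, rfl⟩ := Ideal.mem_span_singleton'.mp hF
    rw [map_mul, hρrel, mul_zero]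
  let ρ' := Ideal.Quotient.lift (J Δ) ρ hρJ
  have hρx : ρ' x = 0 := by simp [ρ', ρ, x]
  have hdvd : ∀ b : B Δ, ρ' b = 0 → x ∣ b := by
    intro b hb
    obtain ⟨F, rfl⟩ := Ideal.Quotient.mk_surjective b
    rw [Ideal.Quotient.lift_mk] at hb
    rw [F.as_sum_range_C_mul_X_pow, map_sum]
    refine (Ideal.mem_span_singleton (α := B Δ)).mp (Ideal.sum_mem _ fun i _ => ?_)
    refine Ideal.mem_span_singleton.mpr ?_
    rw [map_mul]
    refine Dvd.dvd.mul_right ?_ _
    have hci := congrArg (fun P => Polynomial.coeff P i) hb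
    simp only [ρ, Polynomial.coe_mapRingHom, Polynomial.coeff_map, RingHom.comp_apply,
      Polynomial.coeff_zero, Ideal.Quotient.eq_zero_iff_mem, Ideal.mem_span_singleton] at hci
    obtain ⟨d, hd⟩ := hci
    obtain ⟨c, hc⟩ : (PowerSeries.X : Cx R) ∣ F.coeff i - PowerSeries.C Δ * PowerSeries.C d := by
      rw [PowerSeries.X_dvd_iff, map_sub, map_mul, PowerSeries.constantCoeff_C, PowerSeries.constantCoeff_C,
        hd, sub_self]
    refine ⟨Ideal.Quotient.mk _ (Polynomial.C c + Polynomial.X * Polynomial.C (PowerSeries.C d)), ?_⟩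
    rw [← map_mul, Ideal.Quotient.mk_eq_mk_iff_sub_mem]
    refine Ideal.mem_span_singleton'.mpr ⟨-Polynomial.C (PowerSeries.C d), ?_⟩
    rw [show F.coeff i = PowerSeries.X * c + PowerSeries.C Δ * PowerSeries.C d by rw [← hc]; ring]
    simp only [relY, map_add, map_mul]
    ring
  have hxp : Prime x := by
    refine ⟨fun h => hX (hinj (by rw [map_zero, ← hevx, h, map_zero])), fun h => ?_, fun a b hab => ?_⟩
    · have := h.map ρ'
      rw [hρx] at this
      exact not_isUnit_zero this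
    · obtain ⟨c, hc⟩ := hab
      have h := congrArg ρ' hc
      rw [map_mul, map_mul, hρx, zero_mul] at h
      exact (mul_eq_zero.mp h).imp (hdvd a) (hdvd b)
  exact Groth.Agent.FiltRees.ufd_of_away (R := B Δ) hxp L

/-- Division by a distinguished polynomial. -/
theorem mem_of_coe_mem {Δ : R} {g : Polynomial (Cx R)} (hg : g.IsDistinguishedAt (maximalIdeal (Cx R)))
    {F : Polynomial (Cx R)} (hF : θ Δ F ∈ Ideal.span {θ Δ g}) : F ∈ Ideal.span {g} ⊔ J Δ := by
  haveI : IsAdicComplete (maximalIdeal (Cx R)) (Cx R) :=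
    Groth.Agent.ArtKit.isAdicComplete_mvPowerSeries (σ := Unit) (R := R)
  have hgm : (g : PowerSeries (Cx R)).map (residue (Cx R)) ≠ 0 := by
    intro h
    have := congrArg (PowerSeries.coeff g.natDegree) h
    rw [PowerSeries.coeff_map, Polynomial.coeff_coe, hg.monic.coeff_natDegree, map_one, map_zero] at this
    exact one_ne_zero this
  obtain ⟨w, hw⟩ := Ideal.mem_span_singleton.mp hF
  obtain ⟨a, rfl⟩ := Ideal.Quotient.mk_surjective w
  simp only [θ, RingHom.comp_apply, ← map_mul] at hw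
  obtain ⟨k, hk⟩ := Ideal.mem_span_singleton.mp ((Ideal.Quotient.mk_eq_mk_iff_sub_mem _ _).mp hw)
  have hk' := congrArg E hk
  simp only [RingEquiv.toRingHom_eq_coe, RingHom.coe_coe, map_sub, map_mul, RingEquiv.apply_symm_apply,
    Polynomial.coeToPowerSeries.ringHom_apply] at hk'
  rw [show E (MvPowerSeries.X 0) * E (MvPowerSeries.X 1) - E (MvPowerSeries.C Δ) = E (rel Δ) by
    rw [rel, map_sub, map_mul], E_rel] at hk'
  obtain ⟨q, k0, hq⟩ := (E k).exists_isWeierstrassDivision hgm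
  let G := F - relY Δ * k0
  have hG : (G : PowerSeries (Cx R)) = (g : PowerSeries (Cx R)) *
      (E a + ((relY Δ : Polynomial (Cx R)) : PowerSeries (Cx R)) * q) := by
    simp only [G, Polynomial.coe_sub, Polynomial.coe_mul]
    linear_combination hk' + ((relY Δ : Polynomial (Cx R)) : PowerSeries (Cx R)) * hq.2
  have hdiv : G %ₘ g = 0 := by
    have hr : ((G %ₘ g : Polynomial (Cx R)) : PowerSeries (Cx R)) = (G : PowerSeries (Cx R)) -
        (g : PowerSeries (Cx R)) * ((G /ₘ g : Polynomial (Cx R)) : PowerSeries (Cx R)) := by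
      conv_rhs => arg 1; rw [← Polynomial.modByMonic_add_div G g, Polynomial.coe_add, Polynomial.coe_mul]
      ring
    rw [hG, ← mul_sub] at hr
    have h1 : ((G %ₘ g : Polynomial (Cx R)) : PowerSeries (Cx R)).IsWeierstrassDivision (g : PowerSeries (Cx R))
        (E a + ((relY Δ : Polynomial (Cx R)) : PowerSeries (Cx R)) * q -
          ((G /ₘ g : Polynomial (Cx R)) : PowerSeries (Cx R))) 0 :=
      ⟨by rw [Polynomial.degree_zero]; exact WithBot.bot_lt_coe _, by rw [Polynomial.coe_zero, add_zero]; exact hr⟩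
    have h2 : ((G %ₘ g : Polynomial (Cx R)) : PowerSeries (Cx R)).IsWeierstrassDivision (g : PowerSeries (Cx R))
        0 (G %ₘ g) := by
      refine ⟨?_, by rw [mul_zero, zero_add]⟩
      have hd := hg.degree_eq_coe_lift_order_map (g : PowerSeries (Cx R)) 1 (by
        rw [map_one, ← Ideal.ne_top_iff_one]; exact (maximalIdeal.isMaximal _).ne_top) (by rw [mul_one])
      have hlt := Polynomial.degree_modByMonic_lt G hg.monic
      rw [hd] at hlt
      refine lt_of_lt_of_le hlt (le_of_eq ?_)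
      have aux : ∀ (x : ℕ∞) (h : x < ⊤), x.lift h = x.toNat := fun x h => by
        obtain ⟨m, rfl⟩ := ENat.ne_top_iff_exists.mp h.ne
        simp
      exact congrArg _ (aux _ _)
    exact ((h1.elim hgm h2).2).symm
  rw [show F = G + relY Δ * k0 by simp only [G]; ring]
  refine add_mem (Ideal.mem_sup_left (Ideal.mem_span_singleton.mpr ?_))
    (Ideal.mem_sup_right (Ideal.mul_mem_right _ _ (Ideal.subset_span rfl)))
  exact (Polynomial.modByMonic_eq_zero_iff_dvd hg.monic).mp hdiv

theorem ufd_A {Δ : R} (hp : Prime Δ) :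
    IsDomain (A Δ) ∧ UniqueFactorizationMonoid (A Δ) := by
  classical
  have hΔ : Δ ∈ maximalIdeal R := (mem_maximalIdeal _).mpr hp.not_isUnit
  have hΔ0 := hp.ne_zero
  haveI := isDomain_A Δ hΔ hΔ0
  refine ⟨inferInstance, ?_⟩
  haveI : IsRegularLocalRing (Cx R) := Groth.Agent.Cohen.isRegularLocalRing_powerSeries R
  haveI : IsDomain (Cx R) := Groth.Agent.RegLoc.isDomain _
  haveI : IsAdicComplete (maximalIdeal (Cx R)) (Cx R) :=
    Groth.Agent.ArtKit.isAdicComplete_mvPowerSeries (σ := Unit) (R := R)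
  haveI := isPrime_Kx (IsNoetherian.noetherian (maximalIdeal R)) 0
  let 𝔞 := Ideal.map (Ideal.Quotient.mk (I Δ)) (Kx (maximalIdeal R) 0)
  haveI h𝔞 : 𝔞.IsPrime := Ideal.map_isPrime_of_surjective Ideal.Quotient.mk_surjective
    (by rw [Ideal.mk_ker]; exact I_le_Kx _ _ hΔ 0)
  haveI := regular_atPrime hΔ hΔ0 𝔞 rfl
  haveI : IsDomain (Localization.AtPrime 𝔞) := Groth.Agent.RegLoc.isDomain (Localization.AtPrime 𝔞)
  haveI : UniqueFactorizationMonoid (Localization.AtPrime 𝔞) := Groth.Agent.UFDLib.ufd_of_isRegularLocalRing (Localization.AtPrime 𝔞)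
  refine NodeUFDCrit.ufd_of_atPrime 𝔞 fun P hP hh hna => ?_
  haveI : (Ideal.span {Δ}).IsPrime := (Ideal.span_singleton_prime hΔ0).mpr hp
  by_cases hxP : Ideal.Quotient.mk (I Δ) (MvPowerSeries.X 0) ∈ P
  · -- `P = (x)`
    have hle : Ideal.map (Ideal.Quotient.mk (I Δ)) (Kx (Ideal.span {Δ}) 0) =
        Ideal.span {Ideal.Quotient.mk (I Δ) (MvPowerSeries.X 0)} := by
      refine le_antisymm ?_ ?_
      · rw [Kx, Ideal.map_sup, Ideal.map_map, Ideal.map_span, Ideal.map_span, Set.image_singleton, Set.image_singleton]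
        refine sup_le ?_ le_rfl
        rw [Ideal.span_singleton_le_iff_mem, RingHom.comp_apply,
          ← (Ideal.Quotient.mk_eq_mk_iff_sub_mem _ _).mpr (Ideal.subset_span rfl :
            (MvPowerSeries.X 0 * MvPowerSeries.X 1 : P2 R) - MvPowerSeries.C Δ ∈ I Δ), map_mul]
        exact Ideal.mul_mem_right _ _ (Ideal.subset_span rfl)
      · rw [Ideal.span_singleton_le_iff_mem]
        exact Ideal.mem_map_of_mem _ (Ideal.mem_sup_right (Ideal.subset_span rfl))
    haveI := isPrime_Kx (IsNoetherian.noetherian (Ideal.span {Δ})) 0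
    haveI : (Ideal.span {Ideal.Quotient.mk (I Δ) (MvPowerSeries.X 0)}).IsPrime := by
      rw [← hle]
      exact Ideal.map_isPrime_of_surjective Ideal.Quotient.mk_surjective
        (by rw [Ideal.mk_ker]; exact I_le_Kx _ _ (Ideal.mem_span_singleton_self Δ) 0)
    refine ⟨⟨Ideal.Quotient.mk (I Δ) (MvPowerSeries.X 0), ?_⟩⟩
    rw [Ideal.submodule_span_eq]
    refine (eq_of_height_one hh (fun h => C_not_mem_bot Δ hΔ hΔ0 hΔ0 ?_)
      ((Ideal.span_singleton_le_iff_mem _).mpr hxP)).symm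
    have h0 : Ideal.Quotient.mk (I Δ) (MvPowerSeries.X 0) = 0 := Ideal.span_singleton_eq_bot.mp h
    rw [← (Ideal.Quotient.mk_eq_mk_iff_sub_mem _ _).mpr (Ideal.subset_span rfl :
        (MvPowerSeries.X 0 * MvPowerSeries.X 1 : P2 R) - MvPowerSeries.C Δ ∈ I Δ), map_mul, h0, zero_mul]
  · obtain ⟨w, hwP, hwa⟩ := SetLike.not_le_iff_exists.mp hna
    obtain ⟨f, rfl⟩ := Ideal.Quotient.mk_surjective w
    have hfres : (E f).map (residue (Cx R)) ≠ 0 := by
      intro h
      refine hwa (Ideal.mem_map_of_mem _ ((mem_Kx_iff (IsNoetherian.noetherian _) 0 f).mpr fun d hd => ?_))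
      have h1 := congrArg (PowerSeries.coeff (d 1)) h
      rw [PowerSeries.coeff_map, map_zero, residue_eq_zero_iff, mem_maximalIdeal, mem_nonunits_iff,
        PowerSeries.isUnit_iff_constantCoeff] at h1
      rw [eq_ex d, hd]
      refine (mem_maximalIdeal _).mpr (mem_nonunits_iff.mpr fun hu => h1 ?_)
      convert hu using 1
      rw [← PowerSeries.coeff_zero_eq_constantCoeff_apply,
        PowerSeries.coeff_def (s := Finsupp.single () 0) (by simp), E_apply]
      erw [MvPowerSeries.coeff_coeff_optionEquivLeft]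
      rw [show ((Finsupp.single () 0).optionElim (d 1)) = Finsupp.embDomain e2.toEmbedding (ex 0 (d 1)) from ?_]
      · exact MvPowerSeries.coeff_embDomain_rename _ _ _
      · rw [Finsupp.embDomain_eq_mapDomain, ex, Finsupp.mapDomain_add, Finsupp.mapDomain_single,
          Finsupp.mapDomain_single]
        ext o
        rcases o with _ | _ <;> simp [e2]
    obtain ⟨g, h, hgh⟩ := (E f).exists_isWeierstrassFactorization hfres
    have hθg : Ideal.Quotient.mk (I Δ) f = θ Δ g * Ideal.Quotient.mk (I Δ) (E.symm h) := by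
      simp only [θ, RingHom.comp_apply, RingEquiv.toRingHom_eq_coe, RingHom.coe_coe,
        Polynomial.coeToPowerSeries.ringHom_apply]
      rw [← map_mul, ← map_mul, ← hgh.eq_mul, RingEquiv.symm_apply_apply]
    have hgP : θ Δ g ∈ P := by
      refine (hP.mem_or_mem (hθg ▸ hwP)).resolve_right fun hh' => hP.ne_top ?_
      exact P.eq_top_of_isUnit_mem hh' ((hgh.isUnit.map E.symm).map _)
    have hga : θ Δ g ∉ 𝔞 := fun h' => hwa (hθg ▸ Ideal.mul_mem_right _ _ h')
    obtain ⟨hBd, hBu⟩ := ufd_B (R := R) hp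
    haveI := hBd
    haveI := hBu
    let θ' : B Δ →+* A Δ := Ideal.Quotient.lift (J Δ) (θ Δ) (fun F hF => by
      obtain ⟨G, rfl⟩ := Ideal.mem_span_singleton'.mp hF
      rw [map_mul, θ_rel, mul_zero])
    let g' : B Δ := Ideal.Quotient.mk _ g
    have hg'0 : g' ≠ 0 := fun h' => hga (by
      have : θ' g' = 0 := by rw [h', map_zero]
      rw [show θ' g' = θ Δ g from rfl] at this
      rw [this]; exact zero_mem _)
    obtain ⟨fs, hfs, hfs'⟩ := UniqueFactorizationMonoid.exists_prime_factors g' hg'0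
    obtain ⟨q, hq, hqP⟩ : ∃ q ∈ fs, θ' q ∈ P := by
      have : θ' fs.prod ∈ P := by
        obtain ⟨v, hv⟩ := hfs'
        have hmem : θ' fs.prod * θ' v ∈ P := by rw [← map_mul, hv]; exact hgP
        exact (hP.mem_or_mem hmem).resolve_right fun h' => hP.ne_top (P.eq_top_of_isUnit_mem h' (v.isUnit.map θ'))
      rw [map_multiset_prod] at this
      obtain ⟨p, hp1, hp2⟩ := (hP.multiset_prod_mem_iff_exists_mem _).mp this
      obtain ⟨q, hq, rfl⟩ := Multiset.mem_map.mp hp1
      exact ⟨q, hq, hp2⟩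
    have hqg : q ∣ g' := (Multiset.dvd_prod hq).trans hfs'.dvd
    have hsurj : ∀ a : A Δ, ∃ (b : B Δ) (c : A Δ), a = θ' b + θ Δ g * c := by
      intro a
      obtain ⟨a, rfl⟩ := Ideal.Quotient.mk_surjective a
      have hgm : (g : PowerSeries (Cx R)).map (residue (Cx R)) ≠ 0 := by
        intro h'
        exact hfres (by rw [hgh.eq_mul, map_mul, h', zero_mul])
      obtain ⟨q', r', hq'⟩ := (E a).exists_isWeierstrassDivision hgm
      refine ⟨Ideal.Quotient.mk _ r', Ideal.Quotient.mk (I Δ) (E.symm q'), ?_⟩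
      show _ = θ Δ r' + _
      simp only [θ, RingHom.comp_apply, RingEquiv.toRingHom_eq_coe, RingHom.coe_coe,
        Polynomial.coeToPowerSeries.ringHom_apply]
      rw [← map_mul, ← map_mul, ← map_add, ← map_add]
      congr 1
      apply E.injective
      rw [RingEquiv.apply_symm_apply, hq'.2, add_comm]
    obtain ⟨q₂, hq₂⟩ := hqg
    have hθgq : θ Δ g = θ' q * θ' q₂ := by
      rw [← map_mul, ← hq₂]; rfl
    have hpull : ∀ b : B Δ, θ' q ∣ θ' b → q ∣ b := by
      intro b ⟨a, ha⟩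
      obtain ⟨b2, c, hbc⟩ := hsurj a
      have h1 : θ' (b - q * b2) = θ Δ g * (θ' q * c) := by
        rw [map_sub, map_mul, ha, hbc]; ring
      obtain ⟨F, hF⟩ := Ideal.Quotient.mk_surjective (b - q * b2)
      have h2 : θ Δ F ∈ Ideal.span {θ Δ g} := by
        refine Ideal.mem_span_singleton.mpr ⟨θ' q * c, ?_⟩
        rw [← h1, ← hF]; rfl
      obtain ⟨u, hu, v, hv, huv⟩ := Submodule.mem_sup.mp (mem_of_coe_mem hgh.isDistinguishedAt h2)
      obtain ⟨u', rfl⟩ := Ideal.mem_span_singleton.mp hu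
      have h3 : b - q * b2 = g' * Ideal.Quotient.mk _ u' := by
        rw [← hF, ← huv, map_add, Ideal.Quotient.eq_zero_iff_mem.mpr hv, add_zero, map_mul]
      refine ⟨b2 + q₂ * Ideal.Quotient.mk _ u', ?_⟩
      rw [hq₂] at h3
      linear_combination h3
    have hprime : Prime (θ' q) := by
      refine ⟨fun h' => hga ?_, fun h' => hP.ne_top (P.eq_top_of_isUnit_mem hqP h'), fun a b hab => ?_⟩
      · rw [hθgq, h', zero_mul]; exact zero_mem _
      · obtain ⟨a', c, ha'⟩ := hsurj a
        obtain ⟨b', c', hb'⟩ := hsurj b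
        have hdg : θ' q ∣ θ Δ g := ⟨_, hθgq⟩
        have h' : θ' q ∣ θ' (a' * b') := by
          rw [map_mul]
          have : θ' a' * θ' b' = a * b - θ Δ g * (c * θ' b' + a * c') := by rw [ha', hb']; ring
          rw [this]
          exact dvd_sub hab (Dvd.dvd.mul_right hdg _)
        rcases (hfs q hq).dvd_or_dvd (hpull _ h') with hd | hd
        · exact Or.inl (ha' ▸ dvd_add (map_dvd θ' hd) (Dvd.dvd.mul_right hdg _))
        · exact Or.inr (hb' ▸ dvd_add (map_dvd θ' hd) (Dvd.dvd.mul_right hdg _))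
    exact ⟨⟨θ' q, P.eq_span_singleton_of_height_eq_one hh hqP hprime⟩⟩

theorem prime_of_ufd {Δ : R} (hΔ : Δ ∈ maximalIdeal R) (hd : IsDomain (A Δ))
    (hu : UniqueFactorizationMonoid (A Δ)) : Prime Δ := by
  haveI := hd
  haveI := hu
  haveI : IsIntegrallyClosed R := Groth.Agent.RegLoc.isIntegrallyClosed
  have hle : I Δ ≤ Kx (maximalIdeal R) 1 := I_le_Kx _ _ hΔ 1
  have hxy : Ideal.Quotient.mk (I Δ) (MvPowerSeries.X 0) * Ideal.Quotient.mk (I Δ) (MvPowerSeries.X 1) =
      Ideal.Quotient.mk (I Δ) (MvPowerSeries.C Δ) := by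
    rw [← map_mul]
    exact (Ideal.Quotient.mk_eq_mk_iff_sub_mem _ _).mpr (Ideal.subset_span rfl)
  have hx1 : Ideal.Quotient.mk (I Δ) (MvPowerSeries.X 0) ∉
      Ideal.map (Ideal.Quotient.mk (I Δ)) (Kx (maximalIdeal R) 1) := fun h =>
    X_not_mem_Kx (by decide) (mem_of_mem_map hle h)
  have hy0 : Ideal.Quotient.mk (I Δ) (MvPowerSeries.X 1) ∉
      Ideal.map (Ideal.Quotient.mk (I Δ)) (Kx (maximalIdeal R) 0) := fun h =>
    X_not_mem_Kx (by decide) (mem_of_mem_map (I_le_Kx _ _ hΔ 0) h)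
  have hx0 : Ideal.Quotient.mk (I Δ) (MvPowerSeries.X 0) ≠ 0 := fun h => hx1 (h ▸ zero_mem _)
  have hΔ0 : Δ ≠ 0 := by
    intro h
    have h0 : Ideal.Quotient.mk (I Δ) (MvPowerSeries.X 0) * Ideal.Quotient.mk (I Δ) (MvPowerSeries.X 1) = 0 := by
      rw [hxy, h, map_zero, map_zero]
    exact (mul_eq_zero.mp h0).elim hx0 (fun h' => hy0 (h' ▸ zero_mem _))
  have hxnu : ¬ IsUnit (Ideal.Quotient.mk (I Δ) (MvPowerSeries.X 0)) := fun h' => by
    haveI := isPrime_Kx (IsNoetherian.noetherian (maximalIdeal R)) 0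
    have : (Ideal.map (Ideal.Quotient.mk (I Δ)) (Kx (maximalIdeal R) 0)).IsPrime :=
      Ideal.map_isPrime_of_surjective Ideal.Quotient.mk_surjective
        (by rw [Ideal.mk_ker]; exact I_le_Kx _ _ hΔ 0)
    exact this.ne_top (Ideal.eq_top_of_isUnit_mem _
      (Ideal.mem_map_of_mem _ (Ideal.mem_sup_right (Ideal.subset_span rfl))) h')
  obtain ⟨π, hπi, hπd⟩ := WfDvdMonoid.exists_irreducible_factor hxnu hx0
  have hπ : Prime π := UniqueFactorizationMonoid.irreducible_iff_prime.mp hπi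
  obtain ⟨c, hc⟩ := hπd
  obtain ⟨f, rfl⟩ := Ideal.Quotient.mk_surjective π
  obtain ⟨g, rfl⟩ := Ideal.Quotient.mk_surjective c
  have hfg : f * (g * MvPowerSeries.X 1) - MvPowerSeries.C Δ ∈ I Δ := by
    rw [← Ideal.Quotient.mk_eq_mk_iff_sub_mem, map_mul, map_mul, ← mul_assoc, ← hc, hxy]
  obtain ⟨s, m, n, U, hmn, hU⟩ := NodeUnits.main Δ hΔ hΔ0 hΔ0 hfg
  have hπe := (Ideal.Quotient.mk_eq_mk_iff_sub_mem _ _).mpr hU
  rw [map_mul, map_mul, map_mul, map_pow, map_pow] at hπe
  have hu' : IsUnit (Ideal.Quotient.mk (I Δ) (U : P2 R)) := U.isUnit.map _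
  have hassoc : Associated (Ideal.Quotient.mk (I Δ) f) (Ideal.Quotient.mk (I Δ) (MvPowerSeries.X 0)) := by
    by_cases hn : n = 0
    · exfalso
      refine hx1 ?_
      rw [hc]
      refine Ideal.mul_mem_right _ _ ?_
      rw [hπe]
      refine Ideal.mul_mem_right _ _ ?_
      by_cases hm : m = 0
      · subst hn hm
        simp only [pow_zero, mul_one]
        refine Ideal.mem_map_of_mem _ (Ideal.mem_sup_left (Ideal.mem_map_of_mem _ ?_))
        refine (mem_maximalIdeal _).mpr fun hsu => hπ.not_isUnit ?_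
        rw [hπe, pow_zero, pow_zero, mul_one, mul_one]
        exact ((hsu.map MvPowerSeries.C).map _).mul hu'
      · obtain ⟨m', rfl⟩ := Nat.exists_eq_succ_of_ne_zero hm
        rw [pow_succ, ← mul_assoc]
        exact Ideal.mul_mem_left _ _ (Ideal.mem_map_of_mem _ (Ideal.mem_sup_right (Ideal.subset_span rfl)))
    · obtain ⟨n', rfl⟩ := Nat.exists_eq_succ_of_ne_zero hn
      have hdvd : Ideal.Quotient.mk (I Δ) (MvPowerSeries.X 0) ∣ Ideal.Quotient.mk (I Δ) f := by
        rw [hπe, pow_succ]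
        exact dvd_mul_of_dvd_left (dvd_mul_of_dvd_left (dvd_mul_of_dvd_right (dvd_mul_left _ _) _) _) _
      exact associated_of_dvd_dvd ⟨_, hc⟩ hdvd
  have hxp : Prime (Ideal.Quotient.mk (I Δ) (MvPowerSeries.X 0)) := hassoc.prime hπ
  have key : ∀ a : R, Ideal.Quotient.mk (I Δ) (MvPowerSeries.X 0) ∣ Ideal.Quotient.mk (I Δ) (MvPowerSeries.C a) →
      Δ ∣ a := by
    intro a ⟨h, hh⟩
    obtain ⟨h, rfl⟩ := Ideal.Quotient.mk_surjective h
    rw [← map_mul, Ideal.Quotient.mk_eq_mk_iff_sub_mem] at hh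
    obtain ⟨k, hk⟩ := Ideal.mem_span_singleton.mp hh
    have := congrArg MvPowerSeries.constantCoeff hk
    simp at this
    exact ⟨-(MvPowerSeries.constantCoeff k), by rw [this]; ring⟩
  refine ⟨hΔ0, (mem_maximalIdeal _).mp hΔ, fun a b hab => ?_⟩
  have h1 : Ideal.Quotient.mk (I Δ) (MvPowerSeries.X 0) ∣
      Ideal.Quotient.mk (I Δ) (MvPowerSeries.C a) * Ideal.Quotient.mk (I Δ) (MvPowerSeries.C b) := by
    obtain ⟨d, hd'⟩ := hab
    rw [← map_mul, ← map_mul MvPowerSeries.C, hd', map_mul, map_mul, ← hxy, mul_assoc]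
    exact dvd_mul_right _ _
  exact (hxp.dvd_or_dvd h1).imp (key a) (key b)

end Groth.Agent.Misc3.NodeUFD
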