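import Groth.Agent.RegLoc.Normal
import Groth.Agent.SectionExt.Normal
import Mathlib.RingTheory.MvPowerSeries.Equiv
import Mathlib.RingTheory.MvPowerSeries.Rename
import Mathlib.RingTheory.LaurentSeries
import Mathlib.RingTheory.PowerSeries.Trunc
import Mathlib.RingTheory.AdicCompletion.Basic
import Mathlib.RingTheory.DiscreteValuationRing.Basic
import Mathlib.RingTheory.Localization.BaseChange

/-!
Units of the generic fibre of `R[[x,y]]/(xy - r)` over a normal complete local domain `R`:
they are `s xⁿ yᵐ u`.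
-/

set_option autoImplicit false
universe u v

open IsLocalRing

noncomputable section

namespace Groth.Agent.Misc3.NodeUnits

open MvPowerSeries in
/-- Exponent `x^i y^j`. -/
def ex (i j : ℕ) : Fin 2 →₀ ℕ := Finsupp.single 0 i + Finsupp.single 1 j

theorem ex_zero (i j : ℕ) : ex i j 0 = i := by simp [ex]
theorem ex_one (i j : ℕ) : ex i j 1 = j := by simp [ex]

theorem eq_ex (d : Fin 2 →₀ ℕ) : d = ex (d 0) (d 1) := by
  ext k
  fin_cases k <;> simp [ex]

theorem ext_ex {R : Type*} [Semiring R] {f g : MvPowerSeries (Fin 2) R}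
    (h : ∀ i j, MvPowerSeries.coeff (ex i j) f = MvPowerSeries.coeff (ex i j) g) : f = g := by
  ext d
  rw [eq_ex d]
  exact h _ _

/-- Evaluation of power series at a nilpotent element. -/
def evalNil {B : Type*} [CommRing B] {L : Type*} [CommRing L] (g : B →+* L) (z : L) (N : ℕ)
    (hz : z ^ N = 0) : PowerSeries B →+* L :=
  have key : ∀ p : Polynomial B, p.eval₂ g z = (PowerSeries.trunc N (p : PowerSeries B)).eval₂ g z := by
    intro p
    obtain ⟨q, hq⟩ : Polynomial.X ^ N ∣ p - PowerSeries.trunc N (p : PowerSeries B) := by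
      rw [Polynomial.X_pow_dvd_iff]
      intro d hd
      rw [Polynomial.coeff_sub, PowerSeries.coeff_trunc, if_pos hd, Polynomial.coeff_coe, sub_self]
    have := congrArg (Polynomial.eval₂ g z) hq
    rw [Polynomial.eval₂_sub, Polynomial.eval₂_mul, Polynomial.eval₂_pow, Polynomial.eval₂_X, hz,
      zero_mul, sub_eq_zero] at this
    exact this
  { toFun := fun F => (PowerSeries.trunc N F).eval₂ g z
    map_one' := by
      cases N with
      | zero =>
        rw [pow_zero] at hz
        exact eq_of_zero_eq_one hz.symm _ _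
      | succ m => rw [PowerSeries.trunc_one, Polynomial.eval₂_one]
    map_mul' := fun F G => by
      rw [← PowerSeries.trunc_trunc_mul_trunc, ← Polynomial.eval₂_mul, key (_ * _)]
      congr 1
      push_cast
      rfl
    map_zero' := by rw [map_zero, Polynomial.eval₂_zero]
    map_add' := fun F G => by rw [map_add, Polynomial.eval₂_add] }

theorem evalNil_apply {B : Type*} [CommRing B] {L : Type*} [CommRing L] (g : B →+* L) (z : L) (N : ℕ)
    (hz : z ^ N = 0) (F : PowerSeries B) :
    evalNil g z N hz F = ∑ j ∈ Finset.range N, g (PowerSeries.coeff j F) * z ^ j :=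
  PowerSeries.eval₂_trunc_eq_sum_range z g N F

variable {R : Type u} [CommRing R] [IsLocalRing R] [IsAdicComplete (maximalIdeal R) R]

/-- Partial sum along a diagonal. -/
def diag (r : R) (f : MvPowerSeries (Fin 2) R) (n i j : ℕ) : R :=
  ∑ t ∈ Finset.range n, r ^ t * MvPowerSeries.coeff (ex (i + t) (j + t)) f

theorem exists_diag (r : R) (hr : r ∈ maximalIdeal R) (f : MvPowerSeries (Fin 2) R) (i j : ℕ) :
    ∃ L : R, ∀ n, L - diag r f n i j ∈ maximalIdeal R ^ n := by
  obtain ⟨L, hL⟩ := IsPrecomplete.prec' (I := maximalIdeal R) (fun n => diag r f n i j) (by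
    intro m n hmn
    rw [SModEq.sub_mem, smul_eq_mul, Ideal.mul_top]
    simp only [diag]
    rw [← Finset.sum_sdiff (Finset.range_mono hmn), sub_add_cancel_right]
    refine neg_mem (Ideal.sum_mem _ fun t ht => Ideal.mul_mem_right _ _ ?_)
    simp only [Finset.mem_sdiff, Finset.mem_range, not_lt] at ht
    exact Ideal.pow_le_pow_right ht.2 (Ideal.pow_mem_pow hr t))
  refine ⟨L, fun n => ?_⟩
  have h := hL n
  rw [SModEq.sub_mem, smul_eq_mul, Ideal.mul_top] at h
  rw [← neg_sub]
  exact neg_mem h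

/-- The sum along a diagonal. -/
def dsum (r : R) (hr : r ∈ maximalIdeal R) (f : MvPowerSeries (Fin 2) R) (i j : ℕ) : R :=
  (exists_diag r hr f i j).choose

theorem dsum_spec (r : R) (hr : r ∈ maximalIdeal R) (f : MvPowerSeries (Fin 2) R) (i j n : ℕ) :
    dsum r hr f i j - diag r f n i j ∈ maximalIdeal R ^ n :=
  (exists_diag r hr f i j).choose_spec n

theorem eq_of_forall_sub_mem {a b : R} (h : ∀ n, a - b ∈ maximalIdeal R ^ n) : a = b := by
  rw [← sub_eq_zero]
  refine IsHausdorff.haus (inferInstance : IsHausdorff (maximalIdeal R) R) _ fun n => ?_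
  rw [SModEq.sub_mem, smul_eq_mul, Ideal.mul_top, sub_zero]
  exact h n

theorem dsum_rec (r : R) (hr : r ∈ maximalIdeal R) (f : MvPowerSeries (Fin 2) R) (i j : ℕ) :
    dsum r hr f i j = MvPowerSeries.coeff (ex i j) f + r * dsum r hr f (i + 1) (j + 1) := by
  refine eq_of_forall_sub_mem fun n => ?_
  have h1 := Ideal.pow_le_pow_right (Nat.le_succ n) (dsum_spec r hr f i j (n + 1))
  have h2 := Ideal.mul_mem_left _ r (dsum_spec r hr f (i + 1) (j + 1) n)
  have h3 : diag r f (n + 1) i j =
      MvPowerSeries.coeff (ex i j) f + r * diag r f n (i + 1) (j + 1) := by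
    simp only [diag, Finset.sum_range_succ', Finset.mul_sum, pow_zero, one_mul, add_zero]
    rw [add_comm]
    congr 1
    refine Finset.sum_congr rfl fun t _ => ?_
    rw [pow_succ', mul_assoc, show i + (t + 1) = i + 1 + t by omega,
      show j + (t + 1) = j + 1 + t by omega]
  convert sub_mem h1 h2 using 1
  rw [h3]
  ring

/-- The swapped series. -/
def swap (f : MvPowerSeries (Fin 2) R) : MvPowerSeries (Fin 2) R :=
  MvPowerSeries.renameEquiv R (Equiv.swap 0 1) f

theorem coeff_swap (f : MvPowerSeries (Fin 2) R) (i j : ℕ) :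
    MvPowerSeries.coeff (ex i j) (swap f) = MvPowerSeries.coeff (ex j i) f := by
  have h : ex i j = Finsupp.embDomain (Equiv.swap (0 : Fin 2) 1).toEmbedding (ex j i) := by
    rw [Finsupp.embDomain_eq_mapDomain, ex, ex, Finsupp.mapDomain_add, Finsupp.mapDomain_single,
      Finsupp.mapDomain_single, Equiv.coe_toEmbedding, Equiv.swap_apply_left,
      Equiv.swap_apply_right, add_comm]
  rw [h]
  exact MvPowerSeries.coeff_embDomain_rename _ _ _

theorem dsum_swap (r : R) (hr : r ∈ maximalIdeal R) (f : MvPowerSeries (Fin 2) R) (i j : ℕ) :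
    dsum r hr (swap f) i j = dsum r hr f j i := by
  refine eq_of_forall_sub_mem fun n => ?_
  have h : diag r (swap f) n i j = diag r f n j i := by
    simp only [diag, coeff_swap]
  convert sub_mem (dsum_spec r hr (swap f) i j n) (dsum_spec r hr f j i n) using 1
  rw [h]
  ring

/-- The Laurent coefficients with respect to `x`, with `y = r/x`. -/
def al (r : R) (hr : r ∈ maximalIdeal R) (f : MvPowerSeries (Fin 2) R) : ℤ → R
  | Int.ofNat k => dsum r hr f k 0
  | Int.negSucc l => r ^ (l + 1) * dsum r hr f 0 (l + 1)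

theorem al_nat (r : R) (hr : r ∈ maximalIdeal R) (f : MvPowerSeries (Fin 2) R) (k : ℕ) :
    al r hr f k = dsum r hr f k 0 := rfl

theorem al_neg (r : R) (hr : r ∈ maximalIdeal R) (f : MvPowerSeries (Fin 2) R) (l : ℕ) :
    al r hr f (-(l : ℤ)) = r ^ l * dsum r hr f 0 l := by
  cases l with
  | zero => simp [show al r hr f 0 = dsum r hr f 0 0 from rfl]
  | succ m => rfl

/-- Change of variable `x ↔ y`. -/
theorem al_swap (r : R) (hr : r ∈ maximalIdeal R) (f : MvPowerSeries (Fin 2) R) (l : ℤ) (A : ℕ)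
    (hA : 0 ≤ (A : ℤ) + l) :
    r ^ A * al r hr (swap f) (-l) = r ^ ((A : ℤ) + l).toNat * al r hr f l := by
  obtain ⟨n, rfl | rfl⟩ := Int.eq_nat_or_neg l
  · rw [al_neg, dsum_swap, al_nat, show ((A : ℤ) + n).toNat = A + n by omega, ← mul_assoc, ← pow_add]
  · rw [neg_neg, al_nat, dsum_swap, al_neg, ← mul_assoc, ← pow_add,
      show ((A : ℤ) + -(n : ℤ)).toNat + n = A by omega]

section Laurent

/-- `x ↦ some ()`, `y ↦ none`. -/
def e2 : Fin 2 ≃ Option Unit where
  toFun k := if k = 0 then some () else none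
  invFun o := o.elim 1 fun _ => 0
  left_inv := by decide
  right_inv := by rintro (_ | _) <;> rfl

variable {Q : Type u} [CommRing Q]

/-- `x ↦ X`, `y ↦ r/X`, into Laurent series over a ring killing a power of `m`. -/
def psi (r : R) (hr : r ∈ maximalIdeal R) (ρ : R →+* Q) (N : ℕ)
    (hN : ∀ a ∈ maximalIdeal R ^ N, ρ a = 0) : MvPowerSeries (Fin 2) R →+* LaurentSeries Q :=
  ((evalNil (B := MvPowerSeries Unit R) ((HahnSeries.ofPowerSeries ℤ Q).comp (PowerSeries.map ρ))
      (HahnSeries.single (-1 : ℤ) (ρ r)) N (by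
        rw [HahnSeries.single_pow, ← map_pow, hN _ (Ideal.pow_mem_pow hr N), map_zero]))).comp
    ((MvPowerSeries.renameEquiv R e2).trans (MvPowerSeries.optionEquivLeft Unit R)).toAlgHom.toRingHom

theorem coeff_psi (r : R) (hr : r ∈ maximalIdeal R) (ρ : R →+* Q) (N : ℕ)
    (hN : ∀ a ∈ maximalIdeal R ^ N, ρ a = 0) (f : MvPowerSeries (Fin 2) R) (k : ℤ) :
    (psi r hr ρ N hN f).coeff k = ρ (al r hr f k) := by
  have hc : (psi r hr ρ N hN f).coeff k = ∑ j ∈ Finset.range N,
      if 0 ≤ k + j then ρ (r ^ j * MvPowerSeries.coeff (ex (k + j).toNat j) f) else 0 := by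
    simp only [psi, RingHom.coe_comp, Function.comp_apply]
    rw [evalNil_apply, HahnSeries.coeff_sum]
    refine Finset.sum_congr rfl fun j _ => ?_
    rw [HahnSeries.single_pow]
    conv_lhs => rw [show k = (k + j) + (j • (-1 : ℤ)) by simp]
    rw [HahnSeries.coeff_mul_single_add]
    simp only [RingHom.coe_comp, Function.comp_apply]
    rw [PowerSeries.coeff_coe]
    split_ifs with h1 h2 <;> try omega
    · rw [zero_mul]
    · rw [PowerSeries.coeff_map, map_mul, map_pow, mul_comm]
      congr 2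
      rw [PowerSeries.coeff_def (s := Finsupp.single () (k + j).natAbs) (by simp)]
      show MvPowerSeries.coeff _ (PowerSeries.coeff j (MvPowerSeries.optionEquivLeft Unit R
        (MvPowerSeries.rename (⇑(e2.toEmbedding)) f))) = _
      rw [MvPowerSeries.coeff_coeff_optionEquivLeft]
      rw [show ((Finsupp.single () (k + j).natAbs).optionElim j) =
        Finsupp.embDomain e2.toEmbedding (ex (k + j).toNat j) from ?_, MvPowerSeries.coeff_embDomain_rename]
      rw [Finsupp.embDomain_eq_mapDomain, ex, Finsupp.mapDomain_add, Finsupp.mapDomain_single,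
        Finsupp.mapDomain_single]
      ext o
      rcases o with _ | _ <;> simp [e2] <;> omega
  rw [hc]
  obtain ⟨n, rfl | rfl⟩ := Int.eq_nat_or_neg k
  · rw [al_nat]
    have h := hN _ (dsum_spec r hr f n 0 N)
    rw [map_sub, sub_eq_zero] at h
    rw [h, diag, map_sum]
    refine Finset.sum_congr rfl fun j _ => ?_
    rw [if_pos (by omega), show ((n : ℤ) + j).toNat = n + j by omega, zero_add]
  · rw [al_neg]
    by_cases hn : n ≤ N
    · have h := hN _ (Ideal.mul_mem_mul (Ideal.pow_mem_pow hr n) (dsum_spec r hr f 0 n (N - n)) |>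
        (fun h => by rwa [← pow_add, Nat.add_sub_cancel' hn] at h))
      rw [mul_sub, map_sub, sub_eq_zero] at h
      rw [h, diag, Finset.mul_sum, map_sum, ← Finset.sum_range_add_sum_Ico _ hn,
        Finset.sum_Ico_eq_sum_range, Finset.sum_eq_zero (fun j hj => if_neg (by
          simp only [Finset.mem_range] at hj; omega)), zero_add]
      refine Finset.sum_congr rfl fun t _ => ?_
      rw [if_pos (by omega), show (-(n : ℤ) + ((n + t : ℕ) : ℤ)).toNat = t by omega, zero_add,
        ← mul_assoc, ← pow_add]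
    · rw [map_mul, hN _ (Ideal.pow_le_pow_right (le_of_not_ge hn) (Ideal.pow_mem_pow hr n)), zero_mul]
      refine Finset.sum_eq_zero (fun j hj => if_neg (by simp only [Finset.mem_range] at hj; omega))

theorem psi_rel (r : R) (hr : r ∈ maximalIdeal R) (ρ : R →+* Q) (N : ℕ)
    (hN : ∀ a ∈ maximalIdeal R ^ N, ρ a = 0) :
    psi r hr ρ N hN (MvPowerSeries.X 0 * MvPowerSeries.X 1 - MvPowerSeries.C r) = 0 := by
  cases N with
  | zero =>
    have : (1 : Q) = 0 := by rw [← map_one ρ]; exact hN 1 (by simp)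
    haveI : Subsingleton Q := subsingleton_of_zero_eq_one this.symm
    ext k
    exact Subsingleton.elim _ _
  | succ m =>
    ext k
    rw [coeff_psi, HahnSeries.coeff_zero]
    have hz : ∀ i j, i ≠ j → dsum r hr (MvPowerSeries.X 0 * MvPowerSeries.X 1 - MvPowerSeries.C r) i j = 0 := by
      intro i j hij
      refine eq_of_forall_sub_mem fun n => ?_
      have h := dsum_spec r hr (MvPowerSeries.X 0 * MvPowerSeries.X 1 - MvPowerSeries.C r) i j n
      have hd : diag r (MvPowerSeries.X 0 * MvPowerSeries.X 1 - MvPowerSeries.C r) n i j = 0 := by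
        refine Finset.sum_eq_zero fun t _ => ?_
        rw [MvPowerSeries.X, MvPowerSeries.X, MvPowerSeries.monomial_mul_monomial, map_sub,
          MvPowerSeries.coeff_monomial, MvPowerSeries.coeff_C, if_neg, if_neg, sub_zero, mul_zero]
        · intro he
          have h0 := DFunLike.congr_fun he 0
          have h1 := DFunLike.congr_fun he 1
          simp [ex] at h0 h1
          omega
        · intro he
          have h0 := DFunLike.congr_fun he 0
          have h1 := DFunLike.congr_fun he 1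
          simp [ex] at h0 h1
          omega
      rw [hd] at h
      exact h
    have h0 : dsum r hr (MvPowerSeries.X 0 * MvPowerSeries.X 1 - MvPowerSeries.C r) 0 0 = 0 := by
      have hz' : ∀ i, dsum r hr (MvPowerSeries.X 0 * MvPowerSeries.X 1 - MvPowerSeries.C r)
          (i + 2) (i + 2) = 0 := by
        intro i
        refine eq_of_forall_sub_mem fun n => ?_
        have h := dsum_spec r hr (MvPowerSeries.X 0 * MvPowerSeries.X 1 - MvPowerSeries.C r) (i + 2) (i + 2) n
        have hd : diag r (MvPowerSeries.X 0 * MvPowerSeries.X 1 - MvPowerSeries.C r) n (i + 2) (i + 2) = 0 := by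
          refine Finset.sum_eq_zero fun t _ => ?_
          rw [MvPowerSeries.X, MvPowerSeries.X, MvPowerSeries.monomial_mul_monomial, map_sub,
            MvPowerSeries.coeff_monomial, MvPowerSeries.coeff_C, if_neg, if_neg, sub_zero, mul_zero]
          all_goals
            intro he
            have h0 := DFunLike.congr_fun he 0
            simp [ex] at h0
            try omega
        rw [hd] at h
        exact h
      rw [dsum_rec, dsum_rec r hr _ 1 1, hz', mul_zero, add_zero, MvPowerSeries.X, MvPowerSeries.X,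
        MvPowerSeries.monomial_mul_monomial, map_sub, map_sub,
        MvPowerSeries.coeff_monomial, MvPowerSeries.coeff_monomial, MvPowerSeries.coeff_C,
        MvPowerSeries.coeff_C]
      simp [ex, Finsupp.ext_iff, Fin.forall_fin_two]
    obtain ⟨n, rfl | rfl⟩ := Int.eq_nat_or_neg k
    · rw [al_nat]
      rcases Nat.eq_zero_or_pos n with rfl | hn
      · rw [h0, map_zero]
      · rw [hz n 0 (by omega), map_zero]
    · rw [al_neg]
      rcases Nat.eq_zero_or_pos n with rfl | hn
      · rw [h0, mul_zero, map_zero]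
      · rw [hz 0 n (by omega), mul_zero, map_zero]

theorem al_C (r : R) (hr : r ∈ maximalIdeal R) (c : R) (k : ℤ) :
    al r hr (MvPowerSeries.C c) k = if k = 0 then c else 0 := by
  have hd : ∀ i j, dsum r hr (MvPowerSeries.C c) i j = if i = 0 ∧ j = 0 then c else 0 := by
    intro i j
    refine eq_of_forall_sub_mem fun n => ?_
    cases n with
    | zero => simp
    | succ n =>
      have h := dsum_spec r hr (MvPowerSeries.C c : MvPowerSeries (Fin 2) R) i j (n + 1)
      have hd : diag r (MvPowerSeries.C c : MvPowerSeries (Fin 2) R) (n + 1) i j =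
          if i = 0 ∧ j = 0 then c else 0 := by
        rw [diag, Finset.sum_eq_single 0 (fun t _ ht => ?_) (by simp)]
        · simp [MvPowerSeries.coeff_C, ex, Finsupp.ext_iff, Fin.forall_fin_two]
        · rw [MvPowerSeries.coeff_C, if_neg, mul_zero]
          intro he
          have h0 := DFunLike.congr_fun he 0
          simp [ex] at h0
          omega
      rwa [hd] at h
  obtain ⟨n, rfl | rfl⟩ := Int.eq_nat_or_neg k
  · rw [al_nat, hd]; simp
  · rw [al_neg, hd]
    rcases Nat.eq_zero_or_pos n with rfl | hn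
    · simp
    · rw [if_neg (by omega), if_neg (by omega), mul_zero]

end Laurent

variable [IsNoetherianRing R]

theorem val_lemma {V : Type u} [CommRing V] [IsDomain V] [IsDiscreteValuationRing V] (φ : R →+* V)
    (hφ : ∀ a ∈ maximalIdeal R, φ a ∈ maximalIdeal V) (hinj : Function.Injective φ)
    (r : R) (hr : r ∈ maximalIdeal R) {f g : MvPowerSeries (Fin 2) R} {c : R} (hc : c ≠ 0)
    (h : f * g - MvPowerSeries.C c ∈
      Ideal.span {(MvPowerSeries.X 0 * MvPowerSeries.X 1 - MvPowerSeries.C r : MvPowerSeries (Fin 2) R)}) :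
    ∃ N : ℤ, φ c ∣ φ (al r hr f N * al r hr g (-N)) ∧ φ (al r hr f N * al r hr g (-N)) ∣ φ c ∧
      (∀ i j, φ c ∣ φ (al r hr f i) * φ (al r hr g j)) ∧
      ∀ i < N, ¬ φ (al r hr f i) ∣ φ (al r hr f N) := by
  let w : R → ℕ∞ := fun a => IsDiscreteValuationRing.addVal V (φ a)
  obtain ⟨ϖ, hϖ⟩ := IsDiscreteValuationRing.exists_irreducible V
  have hker : ∀ (a : R) (n : ℕ), Ideal.Quotient.mk (maximalIdeal V ^ n) (φ a) = 0 ↔ (n : ℕ∞) ≤ w a := by
    intro a n
    rw [Ideal.Quotient.eq_zero_iff_mem, hϖ.maximalIdeal_eq, Ideal.span_singleton_pow,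
      Ideal.mem_span_singleton, ← IsDiscreteValuationRing.addVal_le_iff_dvd]
    simp [w, IsDiscreteValuationRing.addVal_pow, IsDiscreteValuationRing.addVal_uniformizer hϖ]
  let ρ : (n : ℕ) → R →+* V ⧸ maximalIdeal V ^ n := fun n => (Ideal.Quotient.mk _).comp φ
  have hρ : ∀ n, ∀ a ∈ maximalIdeal R ^ n, ρ n a = 0 := by
    intro n a ha
    exact Ideal.Quotient.eq_zero_iff_mem.mpr
      (Ideal.pow_right_mono ((Ideal.map_le_iff_le_comap (f := φ) (K := maximalIdeal V)).mpr (fun x hx => hφ x hx)) n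
        (Ideal.map_pow φ (maximalIdeal R) n ▸ Ideal.mem_map_of_mem φ ha))
  have hprod : ∀ n, psi r hr (ρ n) n (hρ n) f * psi r hr (ρ n) n (hρ n) g =
      psi r hr (ρ n) n (hρ n) (MvPowerSeries.C c) := by
    intro n
    obtain ⟨q, hq⟩ := Ideal.mem_span_singleton.mp h
    rw [← map_mul, ← sub_eq_zero, ← map_sub, hq, map_mul, psi_rel, zero_mul]
  have hwc : w c ≠ ⊤ := by
    simp only [w, ne_eq, IsDiscreteValuationRing.addVal_eq_top_iff]
    exact fun h0 => hc (hinj (h0.trans (map_zero φ).symm))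
  obtain ⟨wc, hwc'⟩ := ENat.ne_top_iff_exists.mp hwc
  have hmul : ∀ a b : R, w (a * b) = w a + w b := fun a b => by
    simp [w, IsDiscreteValuationRing.addVal_mul]
  have hne : ∀ p : MvPowerSeries (Fin 2) R, (∀ k, al r hr p k = 0) → ∀ q, p = f → q = g → False := by
    intro p hp q hpf _
    have h0 := congrArg (fun s => s.coeff 0) (hprod (wc + 1))
    simp only [coeff_psi, al_C, if_true] at h0
    have hz : psi r hr (ρ (wc + 1)) (wc + 1) (hρ _) f = 0 := by
      ext k
      rw [coeff_psi, ← hpf, hp k, map_zero, HahnSeries.coeff_zero]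
    rw [hz, zero_mul, HahnSeries.coeff_zero] at h0
    have := (hker c (wc + 1)).mp h0.symm
    rw [← hwc'] at this
    exact absurd (ENat.natCast_le_natCast.mp this) (by omega)
  have hmin : ∀ p : MvPowerSeries (Fin 2) R, (∃ k, al r hr p k ≠ 0) → ∃ (e : ℕ) (N : ℤ),
      w (al r hr p N) = e ∧ (∀ i, (e : ℕ∞) ≤ w (al r hr p i)) ∧ ∀ i < N, (e : ℕ∞) < w (al r hr p i) := by
    classical
    rintro p ⟨k, hk⟩
    have hkf : w (al r hr p k) ≠ ⊤ := by
      simp only [w, ne_eq, IsDiscreteValuationRing.addVal_eq_top_iff]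
      exact fun h0 => hk (hinj (h0.trans (map_zero φ).symm))
    obtain ⟨m, hm⟩ := ENat.ne_top_iff_exists.mp hkf
    have hex : ∃ e : ℕ, ∃ i, w (al r hr p i) = e := ⟨m, k, hm.symm⟩
    let e := Nat.find hex
    have hle : ∀ i, (e : ℕ∞) ≤ w (al r hr p i) := by
      intro i
      by_cases ht : w (al r hr p i) = ⊤
      · rw [ht]; exact le_top
      · obtain ⟨m', hm'⟩ := ENat.ne_top_iff_exists.mp ht
        rw [← hm']
        exact ENat.natCast_le_natCast.mpr (Nat.find_le ⟨i, hm'.symm⟩)
    obtain ⟨N, hN, hNmin⟩ := Int.exists_least_of_bdd (P := fun i => w (al r hr p i) = e)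
      ⟨-(e : ℤ), fun z hz => by
        by_contra hlt
        obtain ⟨l, rfl⟩ : ∃ l : ℕ, z = -(l : ℤ) := ⟨(-z).toNat, by omega⟩
        have h1 : (l : ℕ∞) ≤ w (al r hr p (-(l : ℤ))) := by
          rw [← hker, al_neg, map_mul, map_mul, map_pow, map_pow]
          have : Ideal.Quotient.mk (maximalIdeal V ^ l) (φ r) ^ l = 0 := by
            rw [← map_pow, Ideal.Quotient.eq_zero_iff_mem]
            exact Ideal.pow_mem_pow (hφ r hr) l
          rw [this, zero_mul]
        rw [hz] at h1
        have := ENat.natCast_le_natCast.mp h1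
        omega⟩ (Nat.find_spec hex)
    refine ⟨e, N, hN, hle, fun i hi => lt_of_le_of_ne (hle i) fun he => ?_⟩
    have := hNmin i he.symm
    omega
  have hf0 : ∃ k, al r hr f k ≠ 0 := by
    by_contra! h0; exact hne f h0 g rfl rfl
  have hg0 : ∃ k, al r hr g k ≠ 0 := by
    by_contra! h0
    have h1 := congrArg (fun s => s.coeff 0) (hprod (wc + 1))
    simp only [coeff_psi, al_C, if_true] at h1
    have hz : psi r hr (ρ (wc + 1)) (wc + 1) (hρ _) g = 0 := by
      ext k
      rw [coeff_psi, h0 k, map_zero, HahnSeries.coeff_zero]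
    rw [hz, mul_zero, HahnSeries.coeff_zero] at h1
    have := (hker c (wc + 1)).mp h1.symm
    rw [← hwc'] at this
    exact absurd (ENat.natCast_le_natCast.mp this) (by omega)
  obtain ⟨e, N, hN, hNle, hNlt⟩ := hmin f hf0
  obtain ⟨e', M, hM, hMle, hMlt⟩ := hmin g hg0
  -- the coefficient of the lowest term modulo π^(E+1)
  let n := e + e' + 1
  have hco : ρ n (al r hr f N * al r hr g M) = ρ n (if N + M = 0 then c else 0) := by
    have h1 := congrArg (fun s => s.coeff (N + M)) (hprod n)
    simp only [coeff_psi, al_C] at h1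
    rw [← h1, HahnSeries.coeff_mul, Finset.sum_eq_single (N, M)]
    · simp [coeff_psi]
    · rintro ⟨i, j⟩ hij hne'
      rw [Finset.mem_antidiagonal] at hij
      rw [coeff_psi, coeff_psi, ← map_mul]
      refine (hker _ _).mpr ?_
      rw [hmul]
      rcases lt_trichotomy i N with hi | hi | hi
      · have := (ENat.add_one_le_iff (ENat.natCast_ne_top e)).mpr (hNlt i hi)
        simp only [n, Nat.cast_add, Nat.cast_one]
        calc ((e : ℕ∞) + e' + 1) = ((e : ℕ∞) + 1) + e' := by ring
          _ ≤ _ := add_le_add this (hMle j)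
      · exfalso; apply hne'
        have : j = M := by have := hij.2.2; simp at this; omega
        rw [hi, this]
      · have hj : j < M := by have := hij.2.2; simp at this; omega
        have := (ENat.add_one_le_iff (ENat.natCast_ne_top e')).mpr (hMlt j hj)
        simp only [n, Nat.cast_add, Nat.cast_one]
        calc ((e : ℕ∞) + e' + 1) = (e : ℕ∞) + (e' + 1) := by ring
          _ ≤ _ := add_le_add (hNle i) this
    · intro hnot
      rw [Finset.mem_antidiagonal] at hnot
      simp only [not_and_or, HahnSeries.mem_support, not_not] at hnot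
      rcases hnot with h' | h' | h'
      · rw [h', zero_mul]
      · rw [h', mul_zero]
      · simp at h'
  have hE : w (al r hr f N * al r hr g M) = ((e + e' : ℕ) : ℕ∞) := by
    rw [hmul, hN, hM]; simp
  have hlt : ¬ ((n : ℕ∞) ≤ w (al r hr f N * al r hr g M)) := by
    rw [hE]; simp only [n]; exact fun h => absurd (ENat.natCast_le_natCast.mp h) (by omega)
  have hNM : N + M = 0 := by
    by_contra hNM
    rw [if_neg hNM, map_zero] at hco
    exact hlt ((hker _ _).mp hco)
  rw [if_pos hNM] at hco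
  have hM' : M = -N := by omega
  have hwcE : w c = ((e + e' : ℕ) : ℕ∞) := by
    rw [← hE]
    have hd : (n : ℕ∞) ≤ IsDiscreteValuationRing.addVal V (φ (al r hr f N * al r hr g M) - φ c) := by
      have := (hker (al r hr f N * al r hr g M - c) n).mp (by rw [map_sub]; simpa [ρ, sub_eq_zero] using hco)
      simpa [w] using this
    have hE' : IsDiscreteValuationRing.addVal V (φ (al r hr f N * al r hr g M)) <
        IsDiscreteValuationRing.addVal V (φ (al r hr f N * al r hr g M) - φ c) :=
      lt_of_lt_of_le (lt_of_not_ge hlt) hd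
    have := AddValuation.map_sub_eq_of_lt_left (IsDiscreteValuationRing.addVal V) hE'
    simpa [w] using this
  subst hM'
  refine ⟨N, ?_, ?_, ?_, ?_⟩
  · rw [← IsDiscreteValuationRing.addVal_le_iff_dvd]
    exact le_of_eq (hwcE.trans hE.symm)
  · rw [← IsDiscreteValuationRing.addVal_le_iff_dvd]
    exact le_of_eq (hE.trans hwcE.symm)
  · intro i j
    rw [← IsDiscreteValuationRing.addVal_le_iff_dvd, IsDiscreteValuationRing.addVal_mul]
    calc w c = (e : ℕ∞) + e' := by rw [hwcE]; simp
      _ ≤ _ := add_le_add (hNle i) (hMle j)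
  · intro i hi hd
    rw [← IsDiscreteValuationRing.addVal_le_iff_dvd] at hd
    exact absurd (hN ▸ hd) (not_le.mpr (hNlt i hi))

variable [IsDomain R] [IsIntegrallyClosed R]

theorem dvd_of_forall_valuation {c t : R} (hc : c ≠ 0)
    (H : ∀ (V : Type u) [CommRing V] [IsDomain V] [IsDiscreteValuationRing V] (φ : R →+* V),
      (∀ a ∈ maximalIdeal R, φ a ∈ maximalIdeal V) → Function.Injective φ → φ c ∣ φ t) : c ∣ t := by
  let K := FractionRing R
  have hc' : algebraMap R K c ≠ 0 := by
    simpa using (map_ne_zero_iff _ (IsFractionRing.injective R K)).mpr hc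
  obtain ⟨q, hq⟩ := Groth.Agent.SectionExt.mem_range_of_forall_dvr R K (algebraMap R K t / algebraMap R K c)
    (fun W hW hmem hlt => by
      let φ : R →+* W := (algebraMap R K).codRestrict W.toSubring hmem
      obtain ⟨d, hd⟩ := H W φ (fun a ha => (W.valuation_lt_one_iff _).mpr (hlt a ha))
        (fun a b hab => IsFractionRing.injective R K (congrArg Subtype.val hab))
      have hd' : algebraMap R K t = algebraMap R K c * (d : K) := congrArg Subtype.val hd
      rw [hd', mul_div_cancel_left₀ _ hc']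
      exact d.2)
  exact ⟨q, IsFractionRing.injective R K (by rw [map_mul, hq, mul_div_cancel₀ _ hc'])⟩

theorem split (hfield : ¬ IsField R) (r : R) (hr : r ∈ maximalIdeal R)
    {f g : MvPowerSeries (Fin 2) R} {c : R} (hc : c ≠ 0)
    (h : f * g - MvPowerSeries.C c ∈
      Ideal.span {(MvPowerSeries.X 0 * MvPowerSeries.X 1 - MvPowerSeries.C r : MvPowerSeries (Fin 2) R)}) :
    ∃ (N : ℤ) (q : Rˣ), al r hr f N * al r hr g (-N) = c * q ∧ al r hr f N ≠ 0 ∧
      (∀ i, al r hr f N ∣ al r hr f i) ∧ (∀ j, al r hr g (-N) ∣ al r hr g j) ∧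
      ∀ i, al r hr f i ∣ al r hr f N → N ≤ i := by
  have hdvd : ∀ i j, c ∣ al r hr f i * al r hr g j := by
    intro i j
    refine dvd_of_forall_valuation hc fun V _ _ _ φ hφ hinj => ?_
    obtain ⟨N, -, -, h3, -⟩ := val_lemma φ hφ hinj r hr hc h
    rw [map_mul]
    exact h3 i j
  let K := FractionRing R
  obtain ⟨W, hW, hmem, hlt⟩ := Groth.Agent.DvrDom.exists_dvr_dominating (A := R) hfield K
  let φ : R →+* W := (algebraMap R K).codRestrict W.toSubring hmem
  have hφ : ∀ a ∈ maximalIdeal R, φ a ∈ maximalIdeal W :=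
    fun a ha => (W.valuation_lt_one_iff _).mpr (hlt a ha)
  have hinj : Function.Injective φ :=
    fun a b hab => IsFractionRing.injective R K (congrArg Subtype.val hab)
  obtain ⟨N, h1, h2, -, h4⟩ := val_lemma φ hφ hinj r hr hc h
  obtain ⟨q, hq⟩ := hdvd N (-N)
  have hqu : IsUnit q := by
    by_contra hq'
    have h5 : φ c * φ q ∣ φ c * 1 := by rw [← map_mul, ← hq, mul_one]; exact h2
    have h6 := isUnit_of_dvd_one ((mul_dvd_mul_iff_left
      (fun h0 => hc (hinj (h0.trans (map_zero φ).symm)))).mp h5)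
    exact (mem_maximalIdeal _).mp (hφ q ((mem_maximalIdeal q).mpr hq')) h6
  have hfN : al r hr f N ≠ 0 := by
    intro h0; rw [h0, zero_mul] at hq
    exact mul_ne_zero hc hqu.ne_zero hq.symm
  refine ⟨N, hqu.unit, hq, hfN, fun i => ?_, fun j => ?_, fun i hd => ?_⟩
  · obtain ⟨t, ht⟩ := hdvd i (-N)
    refine ⟨t * ↑hqu.unit⁻¹, mul_left_cancel₀ hc ?_⟩
    calc c * al r hr f i = (c * q) * al r hr f i * ↑hqu.unit⁻¹ := by
            rw [mul_assoc, mul_comm (al r hr f i), ← mul_assoc (c * q), mul_assoc c q, hqu.mul_val_inv, mul_one]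
      _ = al r hr f N * (al r hr f i * al r hr g (-N)) * ↑hqu.unit⁻¹ := by rw [← hq]; ring
      _ = _ := by rw [ht]; ring
  · obtain ⟨t, ht⟩ := hdvd N j
    refine ⟨t * ↑hqu.unit⁻¹, mul_left_cancel₀ hc ?_⟩
    calc c * al r hr g j = (c * q) * al r hr g j * ↑hqu.unit⁻¹ := by
            rw [mul_assoc, mul_comm (al r hr g j), ← mul_assoc (c * q), mul_assoc c q, hqu.mul_val_inv, mul_one]
      _ = al r hr g (-N) * (al r hr f N * al r hr g j) * ↑hqu.unit⁻¹ := by rw [← hq]; ring
      _ = _ := by rw [ht]; ring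
  · by_contra! hi
    exact h4 i hi (map_dvd φ hd)

theorem swap_mul (f g : MvPowerSeries (Fin 2) R) : swap (f * g) = swap f * swap g := map_mul _ _ _

theorem swap_C (c : R) : swap (MvPowerSeries.C c : MvPowerSeries (Fin 2) R) = MvPowerSeries.C c := by
  simp [swap, MvPowerSeries.renameEquiv]

theorem swap_X0 : swap (MvPowerSeries.X 0 : MvPowerSeries (Fin 2) R) = MvPowerSeries.X 1 := by
  simp [swap, MvPowerSeries.renameEquiv]

theorem swap_X1 : swap (MvPowerSeries.X 1 : MvPowerSeries (Fin 2) R) = MvPowerSeries.X 0 := by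
  simp [swap, MvPowerSeries.renameEquiv]

theorem swap_swap (f : MvPowerSeries (Fin 2) R) : swap (swap f) = f :=
  ext_ex fun i j => by rw [coeff_swap, coeff_swap]

theorem swap_mem {r : R} {p : MvPowerSeries (Fin 2) R} (h : p ∈
      Ideal.span {(MvPowerSeries.X 0 * MvPowerSeries.X 1 - MvPowerSeries.C r : MvPowerSeries (Fin 2) R)}) :
    swap p ∈
      Ideal.span {(MvPowerSeries.X 0 * MvPowerSeries.X 1 - MvPowerSeries.C r : MvPowerSeries (Fin 2) R)} := by
  obtain ⟨q, rfl⟩ := Ideal.mem_span_singleton.mp h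
  refine Ideal.mem_span_singleton.mpr ⟨swap q, ?_⟩
  rw [swap_mul, show swap (MvPowerSeries.X 0 * MvPowerSeries.X 1 - MvPowerSeries.C r) =
    swap (MvPowerSeries.X 0) * swap (MvPowerSeries.X 1) - swap (MvPowerSeries.C r) from
      (map_sub _ _ _).trans (by rw [map_mul]; rfl), swap_X0, swap_X1, swap_C, mul_comm (MvPowerSeries.X 1)]

/-- The canonical representative is congruent to `f`. -/
theorem sub_canonical_mem (r : R) (hr : r ∈ maximalIdeal R) (f P : MvPowerSeries (Fin 2) R)
    (hP : ∀ i j, MvPowerSeries.coeff (ex i j) P = if i = 0 ∨ j = 0 then dsum r hr f i j else 0) :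
    f - P ∈
      Ideal.span {(MvPowerSeries.X 0 * MvPowerSeries.X 1 - MvPowerSeries.C r : MvPowerSeries (Fin 2) R)} := by
  let G : MvPowerSeries (Fin 2) R := fun d => dsum r hr f (d 0 + 1) (d 1 + 1)
  have hG : ∀ i j, MvPowerSeries.coeff (ex i j) G = dsum r hr f (i + 1) (j + 1) := fun i j => by
    show dsum r hr f _ _ = _
    rw [ex_zero, ex_one]
  refine Ideal.mem_span_singleton.mpr ⟨G, ext_ex fun i j => ?_⟩
  rw [sub_mul, map_sub, map_sub, MvPowerSeries.coeff_C_mul, MvPowerSeries.X, MvPowerSeries.X,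
    MvPowerSeries.monomial_mul_monomial, one_mul, MvPowerSeries.coeff_monomial_mul, one_mul, hP, hG]
  have hle : (Finsupp.single (0 : Fin 2) 1 + Finsupp.single 1 1 ≤ ex i j) ↔ ¬ (i = 0 ∨ j = 0) := by
    rw [Finsupp.le_def, Fin.forall_fin_two]
    simp [ex, Nat.one_le_iff_ne_zero, not_or]
  by_cases hij : i = 0 ∨ j = 0
  · rw [if_pos hij, if_neg (by rwa [hle, not_not]), dsum_rec]
    ring
  · rw [if_neg hij, if_pos (hle.mpr hij)]
    obtain ⟨i', rfl⟩ : ∃ i', i = i' + 1 := ⟨i - 1, by omega⟩
    obtain ⟨j', rfl⟩ : ∃ j', j = j' + 1 := ⟨j - 1, by omega⟩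
    have he : ex (i' + 1) (j' + 1) - (Finsupp.single (0 : Fin 2) 1 + Finsupp.single 1 1) = ex i' j' := by
      rw [eq_ex (ex (i' + 1) (j' + 1) - _)]
      simp [ex]
    rw [he, hG, dsum_rec r hr f (i' + 1) (j' + 1)]
    ring

theorem main_nonneg (r : R) (hr : r ∈ maximalIdeal R) (hr0 : r ≠ 0)
    {f f' : MvPowerSeries (Fin 2) R} {c : R} (hc : c ≠ 0)
    (h : f * f' - MvPowerSeries.C c ∈
      Ideal.span {(MvPowerSeries.X 0 * MvPowerSeries.X 1 - MvPowerSeries.C r : MvPowerSeries (Fin 2) R)})
    (n : ℕ) (s : R) (hs : dsum r hr f n 0 = s) (hs0 : s ≠ 0)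
    (hdf : ∀ i, s ∣ al r hr f i)
    (hds : ∀ i, r ^ n * s ∣ al r hr (swap f) i) :
    ∃ U : (MvPowerSeries (Fin 2) R)ˣ, f - MvPowerSeries.C s * MvPowerSeries.X 0 ^ n * (U : MvPowerSeries (Fin 2) R) ∈
      Ideal.span {(MvPowerSeries.X 0 * MvPowerSeries.X 1 - MvPowerSeries.C r : MvPowerSeries (Fin 2) R)} := by
  classical
  have hge : ∀ i, ∃ t, dsum r hr f (n + i) 0 = s * t := fun i => by
    obtain ⟨t, ht⟩ := hdf ((n + i : ℕ) : ℤ)
    exact ⟨t, by rwa [al_nat] at ht⟩
  have hlow : ∀ i, ∃ t, i ≤ n → dsum r hr f i 0 = s * r ^ (n - i) * t := fun i => by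
    obtain ⟨t, ht⟩ := hds (-(i : ℤ))
    rw [al_neg, dsum_swap] at ht
    refine ⟨t, fun hi => mul_left_cancel₀ (pow_ne_zero i hr0) ?_⟩
    rw [ht, show r ^ n = r ^ i * r ^ (n - i) by rw [← pow_add, Nat.add_sub_cancel' hi]]
    ring
  have hy : ∀ j, ∃ t, dsum r hr f 0 j = s * r ^ n * t := fun j => by
    obtain ⟨t, ht⟩ := hds (j : ℤ)
    rw [al_nat, dsum_swap] at ht
    exact ⟨t, by rw [ht]; ring⟩
  choose tg htg using hge
  choose tl htl using hlow
  choose ty hty using hy
  -- the unit
  let T : MvPowerSeries (Fin 2) R := fun d =>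
    if d 1 = 0 then (if d 0 = 0 then 1 else tg (d 0))
    else if d 0 = 0 then (if d 1 ≤ n then tl (n - d 1) else ty (d 1 - n)) else 0
  have hT : ∀ i j, MvPowerSeries.coeff (ex i j) T =
      if j = 0 then (if i = 0 then 1 else tg i)
      else if i = 0 then (if j ≤ n then tl (n - j) else ty (j - n)) else 0 := fun i j => by
    show (if _ then _ else _) = _
    rw [ex_zero, ex_one]
  have hU : IsUnit T := by
    rw [MvPowerSeries.isUnit_iff_constantCoeff]
    rw [← MvPowerSeries.coeff_zero_eq_constantCoeff_apply, show (0 : Fin 2 →₀ ℕ) = ex 0 0 by simp [ex], hT]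
    simp
  refine ⟨hU.unit, ?_⟩
  rw [IsUnit.unit_spec]
  let P : MvPowerSeries (Fin 2) R := fun d => if d 0 = 0 ∨ d 1 = 0 then dsum r hr f (d 0) (d 1) else 0
  have hP : ∀ i j, MvPowerSeries.coeff (ex i j) P = if i = 0 ∨ j = 0 then dsum r hr f i j else 0 :=
    fun i j => by
      show (if _ then _ else _) = _
      rw [ex_zero, ex_one]
  let E := MvPowerSeries.C s * MvPowerSeries.X 0 ^ n * T
  have hE : ∀ i j, MvPowerSeries.coeff (ex i j) E =
      if n ≤ i then s * MvPowerSeries.coeff (ex (i - n) j) T else 0 := fun i j => by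
    rw [show E = MvPowerSeries.monomial (Finsupp.single (0 : Fin 2) n) s * T by
      simp only [E]; rw [MvPowerSeries.X_pow_eq, ← MvPowerSeries.monomial_zero_eq_C_apply,
        MvPowerSeries.monomial_mul_monomial, zero_add, mul_one]]
    rw [MvPowerSeries.coeff_monomial_mul]
    have : (Finsupp.single (0 : Fin 2) n ≤ ex i j) ↔ n ≤ i := by
      rw [Finsupp.le_def, Fin.forall_fin_two]; simp [ex]
    by_cases hi : n ≤ i
    · rw [if_pos (this.mpr hi), if_pos hi]
      congr 2
      rw [eq_ex (ex i j - _)]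
      simp [ex]
    · rw [if_neg (this.not.mpr hi), if_neg hi]
  -- it has the same diagonal sums
  have hd : ∀ i j, i = 0 ∨ j = 0 → dsum r hr E i j = dsum r hr f i j := by
    intro i j hij
    refine eq_of_forall_sub_mem fun m => ?_
    have h1 := Ideal.pow_le_pow_right (Nat.le_add_right m (n + 1)) (dsum_spec r hr E i j (m + (n + 1)))
    have key : diag r E (m + (n + 1)) i j = dsum r hr f i j := by
      rw [diag]
      simp only [hE, hT]
      rcases hij with rfl | rfl
      · -- column: x^n y^(j+n)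
        rw [Finset.sum_eq_single n]
        · rw [if_pos (by omega), show 0 + n - n = 0 by omega]
          by_cases hjn : j + n = 0
          · obtain ⟨rfl, rfl⟩ : j = 0 ∧ n = 0 := by omega
            simp [hs]
          · rw [if_neg hjn, if_pos rfl]
            by_cases hjn' : j + n ≤ n
            · obtain rfl : j = 0 := by omega
              rw [if_pos hjn', show n - (0 + n) = 0 by omega, htl 0 (Nat.zero_le n), Nat.sub_zero]
              ring
            · rw [if_neg hjn', Nat.add_sub_cancel, hty]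
              ring
        · intro t _ ht
          by_cases htn : n ≤ 0 + t
          · rw [if_pos htn, if_neg (by omega), if_neg (by omega), mul_zero, mul_zero]
          · rw [if_neg htn, mul_zero]
        · intro hn'
          simp only [Finset.mem_range] at hn'
          omega
      · -- row
        by_cases hin : n ≤ i
        · rw [Finset.sum_eq_single 0]
          · rw [if_pos (by omega), if_pos rfl]
            by_cases hi : i + 0 - n = 0
            · obtain rfl : i = n := by omega
              simp [hs]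
            · rw [if_neg hi, show i + 0 - n = i - n by omega]
              conv_rhs => rw [show i = n + (i - n) by omega, htg]
              simp
          · intro t _ ht
            rw [if_pos (by omega), if_neg (by omega), if_neg (by omega), mul_zero, mul_zero]
          · intro hn'
            simp at hn'
        · rw [Finset.sum_eq_single (n - i)]
          · rw [if_pos (by omega), show i + (n - i) - n = 0 by omega, if_neg (by omega), if_pos rfl,
              if_pos (by omega), show n - (0 + (n - i)) = i by omega, htl i (by omega)]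
            ring
          · intro t _ ht
            by_cases htn : n ≤ i + t
            · rw [if_pos htn, if_neg (by omega), if_neg (by omega), mul_zero, mul_zero]
            · rw [if_neg htn, mul_zero]
          · intro hn'
            simp only [Finset.mem_range] at hn'
            omega
    rwa [key] at h1
  have h1 := sub_canonical_mem r hr f P hP
  have h2 := sub_canonical_mem r hr E P fun i j => by
    rw [hP]
    split_ifs with hij
    · exact (hd i j hij).symm
    · rfl
  convert sub_mem h1 h2 using 1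
  simp only [E]
  ring

theorem main (r : R) (hr : r ∈ maximalIdeal R) (hr0 : r ≠ 0)
    {f g : MvPowerSeries (Fin 2) R} {c : R} (hc : c ≠ 0)
    (h : f * g - MvPowerSeries.C c ∈
      Ideal.span {(MvPowerSeries.X 0 * MvPowerSeries.X 1 - MvPowerSeries.C r : MvPowerSeries (Fin 2) R)}) :
    ∃ (s : R) (m n : ℕ) (U : (MvPowerSeries (Fin 2) R)ˣ), m * n = 0 ∧
      f - MvPowerSeries.C s * MvPowerSeries.X 0 ^ n * MvPowerSeries.X 1 ^ m * (U : MvPowerSeries (Fin 2) R) ∈
      Ideal.span {(MvPowerSeries.X 0 * MvPowerSeries.X 1 - MvPowerSeries.C r : MvPowerSeries (Fin 2) R)} := by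
  have hfield : ¬ IsField R := fun hF => hr0 (by
    have := isField_iff_maximalIdeal_eq.mp hF
    rw [this] at hr
    exact hr)
  obtain ⟨N, q, hq, hN0, hNf, hNg, hNmin⟩ := split hfield r hr hc h
  have h' : swap f * swap g - MvPowerSeries.C c ∈
      Ideal.span {(MvPowerSeries.X 0 * MvPowerSeries.X 1 - MvPowerSeries.C r : MvPowerSeries (Fin 2) R)} := by
    rw [← swap_mul, ← swap_C c]
    convert swap_mem h using 1
    exact (map_sub _ _ _).symm
  obtain ⟨N', q', hq', hN'0, hN'f, -, hN'min⟩ := split hfield r hr hc h'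
  -- `N' = -N`
  have hNN : N' = -N := by
    obtain ⟨k, rfl⟩ : ∃ k, N' = -k := ⟨-N', by omega⟩
    rw [neg_neg] at hq'
    obtain ⟨A, hA1, hA2, hA3⟩ : ∃ A : ℕ, 0 ≤ (A : ℤ) + k ∧ 0 ≤ (A : ℤ) + N ∧ 0 ≤ (A : ℤ) + -k :=
      ⟨k.natAbs + N.natAbs, by omega, by omega, by omega⟩
    -- the product of the `k` coefficients
    have e1 := al_swap r hr f k A hA1
    have e2 := al_swap r hr g (-k) A hA3
    rw [neg_neg] at e2
    have hk : al r hr f k * al r hr g (-k) = c * q' := by
      refine mul_left_cancel₀ (pow_ne_zero (A + A) hr0) ?_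
      calc r ^ (A + A) * (al r hr f k * al r hr g (-k))
          = (r ^ ((A : ℤ) + k).toNat * al r hr f k) * (r ^ ((A : ℤ) + -k).toNat * al r hr g (-k)) := by
            rw [show A + A = ((A : ℤ) + k).toNat + ((A : ℤ) + -k).toNat by omega, pow_add]; ring
        _ = (r ^ A * al r hr (swap f) (-k)) * (r ^ A * al r hr (swap g) k) := by rw [e1, e2]
        _ = r ^ (A + A) * (al r hr (swap f) (-k) * al r hr (swap g) k) := by rw [pow_add]; ring
        _ = _ := by rw [hq']
    obtain ⟨p, hp⟩ := hNf k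
    obtain ⟨p', hp'⟩ := hNg (-k)
    have hpu : IsUnit p := by
      refine isUnit_of_mul_isUnit_left (y := p') ?_
      have : c * (p * p') * q = c * q' := by
        rw [← hk, hp, hp']
        calc c * (p * p') * q = (c * q) * (p * p') := by ring
          _ = _ := by rw [← hq]; ring
      have h3 := mul_left_cancel₀ hc ((mul_assoc c _ _).symm.trans this)
      exact isUnit_of_mul_isUnit_left (y := (q : R)) (h3 ▸ q'.isUnit)
    have hle : N ≤ k := hNmin k (by rw [hp]; exact (hpu.mul_right_dvd).mpr dvd_rfl)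
    -- and `k ≤ N`
    obtain ⟨d, hd⟩ := hN'f (-N)
    have e3 := al_swap r hr f N A hA2
    have hdv : r ^ ((A : ℤ) + k).toNat ∣ r ^ ((A : ℤ) + N).toNat := by
      refine (mul_dvd_mul_iff_right hN0).mp ⟨p * d, ?_⟩
      rw [← e3, hd, ← mul_assoc, e1, hp]
      ring
    have hle' := (pow_dvd_pow_iff hr0 ((mem_maximalIdeal r).mp hr)).mp hdv
    omega
  subst hNN
  by_cases hN : 0 ≤ N
  · obtain ⟨n, rfl⟩ := Int.eq_ofNat_of_zero_le hN
    have e := al_swap r hr f n 0 (by omega)
    rw [pow_zero, one_mul, show ((0 : ℕ) + (n : ℤ)).toNat = n by omega] at e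
    rw [e] at hN'f
    obtain ⟨U, hU⟩ := main_nonneg r hr hr0 hc h n (al r hr f n) (al_nat r hr f n).symm hN0 hNf hN'f
    exact ⟨al r hr f n, 0, n, U, zero_mul n, by rwa [pow_zero, mul_one]⟩
  · obtain ⟨n, rfl⟩ : ∃ n : ℕ, N = -(n : ℤ) := ⟨(-N).toNat, by omega⟩
    rw [neg_neg] at hN'f hN'0
    have e := al_swap r hr f (-(n : ℤ)) n (by omega)
    rw [neg_neg, show ((n : ℤ) + -(n : ℤ)).toNat = 0 by omega, pow_zero, one_mul] at e
    rw [← e] at hNf
    obtain ⟨U, hU⟩ := main_nonneg r hr hr0 hc h' n (al r hr (swap f) n) (al_nat r hr _ n).symm hN'0 hN'f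
      (by rw [swap_swap]; exact hNf)
    refine ⟨al r hr (swap f) n, n, 0, Units.map (MvPowerSeries.renameEquiv R (Equiv.swap (0 : Fin 2) 1)).toAlgHom.toRingHom.toMonoidHom U, mul_zero n, ?_⟩
    convert swap_mem hU using 1
    rw [show swap (swap f - MvPowerSeries.C (al r hr (swap f) n) * MvPowerSeries.X 0 ^ n * (U : MvPowerSeries (Fin 2) R)) =
      swap (swap f) - swap (MvPowerSeries.C (al r hr (swap f) n)) * swap (MvPowerSeries.X 0) ^ n * swap (U : MvPowerSeries (Fin 2) R) from
        (map_sub _ _ _).trans (by rw [map_mul, map_mul, map_pow]; rfl), swap_swap, swap_C, swap_X0, pow_zero, mul_one]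
    rfl

open TensorProduct in
theorem exists_mul_eq {A : Type u} [CommRing A] [Algebra R A] (a : A)
    (ha : IsUnit (a ⊗ₜ[R] (1 : FractionRing R) : A ⊗[R] FractionRing R)) :
    ∃ (b : A) (c : R), c ≠ 0 ∧ a * b = algebraMap R A c := by
  obtain ⟨v, hv⟩ := ha.exists_right_inv
  have key : ∀ x : A ⊗[R] FractionRing R, ∃ (b : A) (c : R), c ≠ 0 ∧
      x * (1 ⊗ₜ algebraMap R (FractionRing R) c) = b ⊗ₜ 1 := by
    intro x
    induction x using TensorProduct.induction_on with
    | zero => exact ⟨0, 1, one_ne_zero, by simp⟩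
    | tmul b z =>
      obtain ⟨y, d, hd, rfl⟩ := IsFractionRing.div_surjective (A := R) z
      refine ⟨y • b, d, nonZeroDivisors.ne_zero hd, ?_⟩
      rw [Algebra.TensorProduct.tmul_mul_tmul, mul_one,
        div_mul_cancel₀ _ (IsFractionRing.to_map_ne_zero_of_mem_nonZeroDivisors hd),
        TensorProduct.smul_tmul, Algebra.smul_def, mul_one]
    | add x y hx hy =>
      obtain ⟨b, c, hc, h1⟩ := hx
      obtain ⟨b', c', hc', h2⟩ := hy
      refine ⟨c' • b + c • b', c * c', mul_ne_zero hc hc', ?_⟩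
      rw [add_mul, TensorProduct.add_tmul]
      have t1 : ∀ (u : R) (w : A), (u • w) ⊗ₜ[R] (1 : FractionRing R) =
          (w ⊗ₜ 1) * (1 ⊗ₜ algebraMap R (FractionRing R) u) := fun u w => by
        rw [Algebra.TensorProduct.tmul_mul_tmul, mul_one, one_mul, TensorProduct.smul_tmul,
          Algebra.smul_def, mul_one]
      have t2 : (1 : A) ⊗ₜ[R] algebraMap R (FractionRing R) (c * c') =
          (1 ⊗ₜ algebraMap R (FractionRing R) c) * (1 ⊗ₜ algebraMap R (FractionRing R) c') := by
        rw [Algebra.TensorProduct.tmul_mul_tmul, mul_one, map_mul]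
      rw [t1, t1, ← h1, ← h2, t2]
      ring
  obtain ⟨b, c, hc, hbc⟩ := key v
  have h1 : (a * b - algebraMap R A c) ⊗ₜ[R] (1 : FractionRing R) = 0 := by
    rw [TensorProduct.sub_tmul, sub_eq_zero]
    calc (a * b) ⊗ₜ[R] (1 : FractionRing R) = (a ⊗ₜ 1) * (b ⊗ₜ 1) := by
          rw [Algebra.TensorProduct.tmul_mul_tmul, mul_one]
      _ = 1 ⊗ₜ algebraMap R (FractionRing R) c := by rw [← hbc, ← mul_assoc, hv, one_mul]
      _ = _ := by
          rw [Algebra.algebraMap_eq_smul_one (A := A), TensorProduct.smul_tmul, Algebra.smul_def, mul_one]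
  have h2 : (TensorProduct.mk R (FractionRing R) A 1) (a * b - algebraMap R A c) = 0 := by
    have := congrArg (TensorProduct.comm R A (FractionRing R)) h1
    simpa using this
  obtain ⟨⟨d, hd⟩, hd'⟩ := (IsLocalizedModule.eq_zero_iff (nonZeroDivisors R)
    (TensorProduct.mk R (FractionRing R) A 1)).mp h2
  have hd'' : d • (a * b - algebraMap R A c) = 0 := hd'
  refine ⟨d • b, d * c, mul_ne_zero (nonZeroDivisors.ne_zero hd) hc, ?_⟩
  rw [map_mul, Algebra.smul_def]
  rw [Algebra.smul_def, mul_sub, sub_eq_zero] at hd''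
  rw [← hd'']
  ring

theorem result_aux (R : Type u) [CommRing R] [IsLocalRing R] [IsNoetherianRing R] [IsDomain R]
    [IsIntegrallyClosed R] [IsAdicComplete (maximalIdeal R) R] (r : R) (hr : r ≠ 0)
    (a : MvPowerSeries (Fin 2) R ⧸
      Ideal.span {(MvPowerSeries.X 0 * MvPowerSeries.X 1 - MvPowerSeries.C r : MvPowerSeries (Fin 2) R)})
    (ha : IsUnit (TensorProduct.tmul R a (1 : FractionRing R))) :
    ∃ (s : R) (m n : ℕ) (u : (MvPowerSeries (Fin 2) R ⧸
      Ideal.span {(MvPowerSeries.X 0 * MvPowerSeries.X 1 - MvPowerSeries.C r : MvPowerSeries (Fin 2) R)})ˣ),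
      m * n = 0 ∧ a = Ideal.Quotient.mk _
        (MvPowerSeries.C s * MvPowerSeries.X 0 ^ n * MvPowerSeries.X 1 ^ m) * (u : (MvPowerSeries (Fin 2) R ⧸
      Ideal.span {(MvPowerSeries.X 0 * MvPowerSeries.X 1 - MvPowerSeries.C r : MvPowerSeries (Fin 2) R)})) := by
  by_cases hrm : r ∈ maximalIdeal R
  · obtain ⟨b, c, hc, hab⟩ := exists_mul_eq a ha
    obtain ⟨f, rfl⟩ := Ideal.Quotient.mk_surjective a
    obtain ⟨g, rfl⟩ := Ideal.Quotient.mk_surjective b
    replace hab : Ideal.Quotient.mk _ (f * g) = Ideal.Quotient.mk _ (MvPowerSeries.C c) := (map_mul _ _ _).trans hab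
    rw [Ideal.Quotient.mk_eq_mk_iff_sub_mem] at hab
    obtain ⟨s, m, n, U, hmn, hU⟩ := main r hrm hr hc (f := f) (g := g) hab
    refine ⟨s, m, n, Units.map (Ideal.Quotient.mk _).toMonoidHom U, hmn, ?_⟩
    rw [Units.coe_map]
    exact ((Ideal.Quotient.mk_eq_mk_iff_sub_mem _ _).mpr hU).trans (map_mul _ _ _)
  · have hu : IsUnit (MvPowerSeries.X 0 * MvPowerSeries.X 1 - MvPowerSeries.C r : MvPowerSeries (Fin 2) R) := by
      rw [MvPowerSeries.isUnit_iff_constantCoeff]
      simpa using hrm
    haveI : Subsingleton (MvPowerSeries (Fin 2) R ⧸ Ideal.span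
        {(MvPowerSeries.X 0 * MvPowerSeries.X 1 - MvPowerSeries.C r : MvPowerSeries (Fin 2) R)}) :=
      Ideal.Quotient.subsingleton_iff.mpr (Ideal.span_singleton_eq_top.mpr hu)
    exact ⟨0, 0, 0, 1, rfl, Subsingleton.elim _ _⟩

end Groth.Agent.Misc3.NodeUnits
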