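import Groth.Prelude.Def_W4c6intromoduliQuartic
import Mathlib.LinearAlgebra.Matrix.NonsingularInverse
import Mathlib.Algebra.MvPolynomial.Eval
import Mathlib.Tactic

set_option autoImplicit false
universe u

namespace Groth.Agent.Misc3.Quartic

open MvPolynomial W4c6intromoduli

variable {k : Type u} [Field k]

lemma subst_X (M : Matrix (Fin 2) (Fin 2) k) (i : Fin 2) :
    subst M (X i) = C (M i 0) * X 0 + C (M i 1) * X 1 := by
  simp [W4c6intromoduli.subst, Fin.sum_univ_two]

lemma subst_subst_inv (M : Matrix (Fin 2) (Fin 2) k) (hM : IsUnit M.det)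
    (p : MvPolynomial (Fin 2) k) : subst M⁻¹ (subst M p) = p := by
  suffices h : (subst M⁻¹).comp (subst M) = AlgHom.id k _ from congrArg (fun f => f p) h
  apply MvPolynomial.algHom_ext
  intro i
  have h := Matrix.mul_nonsing_inv M hM
  have e : ∀ j, M i 0 * M⁻¹ 0 j + M i 1 * M⁻¹ 1 j = (1 : Matrix (Fin 2) (Fin 2) k) i j := by
    intro j; rw [← h]; simp [Matrix.mul_apply, Fin.sum_univ_two]
  simp only [AlgHom.comp_apply, subst_X, map_add, map_mul, algHom_C, MvPolynomial.algebraMap_eq,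
    AlgHom.id_apply]
  have e0 := e 0
  have e1 := e 1
  calc C (M i 0) * (C (M⁻¹ 0 0) * X 0 + C (M⁻¹ 0 1) * X 1)
        + C (M i 1) * (C (M⁻¹ 1 0) * X 0 + C (M⁻¹ 1 1) * X 1)
      = C (M i 0 * M⁻¹ 0 0 + M i 1 * M⁻¹ 1 0) * X 0
        + C (M i 0 * M⁻¹ 0 1 + M i 1 * M⁻¹ 1 1) * X 1 := by
        simp only [map_add, map_mul]; ring
    _ = X i := by
        rw [e0, e1]; obtain rfl | rfl : i = 0 ∨ i = 1 := by omega
        all_goals simp

lemma not_both (M M' : Matrix (Fin 2) (Fin 2) k) (c c' : k) (hM : IsUnit M.det) (hc : c ≠ 0)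
    (h : C c * subst M (X 0 ^ 2 * X 1 * (X 0 - X 1)) = C c' * subst M' (X 0 ^ 2 * X 1 ^ 2)) :
    False := by
  have h1 := congrArg (subst M⁻¹) h
  rw [map_mul (subst M⁻¹) (C c), map_mul (subst M⁻¹) (C c'), subst_subst_inv M hM] at h1
  have h2 : subst M⁻¹ (subst M' (X 0 ^ 2 * X 1 ^ 2)) = (subst M⁻¹ (subst M' (X 0 * X 1))) ^ 2 := by
    rw [← map_pow, ← map_pow, mul_pow]
  rw [h2] at h1
  let φ : MvPolynomial (Fin 2) k →ₐ[k] Polynomial k := MvPolynomial.aeval ![1, Polynomial.X]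
  have h3 := congrArg φ h1
  simp only [map_mul, map_pow, map_sub, algHom_C, Polynomial.algebraMap_eq, φ,
    MvPolynomial.algebraMap_eq, MvPolynomial.aeval_C, MvPolynomial.aeval_X,
    Matrix.cons_val_zero, Matrix.cons_val_one, one_pow, one_mul] at h3
  set q := (MvPolynomial.aeval (R := k) (![1, Polynomial.X] : Fin 2 → Polynomial k))
    ((subst M⁻¹) ((subst M') (X 0) * (subst M') (X 1))) with hq
  have h4 : Polynomial.C c * (Polynomial.X * (1 - Polynomial.X)) = Polynomial.C c' * q ^ 2 := by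
    rw [h3, hq]
    simp only [map_mul]
  have c0 := congrArg (fun p => Polynomial.coeff p 0) h4
  have c1 := congrArg (fun p => Polynomial.coeff p 1) h4
  simp [Polynomial.coeff_C_mul, Polynomial.coeff_one, pow_two, Polynomial.mul_coeff_zero] at c0
  simp [Polynomial.coeff_C_mul, Polynomial.coeff_one, pow_two, Polynomial.coeff_mul,
    Finset.Nat.sum_antidiagonal_succ] at c1
  rcases c0 with h0 | h0
  · simp [h0, hc] at c1
  · simp [h0, hc] at c1

lemma exists_scalar {a b a' b' : k} (hne : a ≠ 0 ∨ b ≠ 0) (hne' : a' ≠ 0 ∨ b' ≠ 0)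
    (h : a' * b - a * b' = 0) : ∃ t : k, t ≠ 0 ∧ a' = t * a ∧ b' = t * b := by
  by_cases ha : a = 0
  · subst ha
    have hb : b ≠ 0 := hne.resolve_left (by simp)
    have ha' : a' = 0 := by
      simp only [zero_mul, sub_zero, mul_eq_zero] at h
      exact h.resolve_right hb
    have hb' : b' ≠ 0 := hne'.resolve_left (by simp [ha'])
    exact ⟨b' / b, div_ne_zero hb' hb, by simp [ha'], by field_simp⟩
  · refine ⟨a' / a, div_ne_zero ?_ ha, by field_simp, by field_simp; linear_combination -h⟩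
    rintro rfl
    have hb' : b' ≠ 0 := hne'.resolve_left (by simp)
    simp [ha, hb'] at h

lemma dichotomy (la mu : Fin 4 → k) (hne : ∀ i, la i ≠ 0 ∨ mu i ≠ 0)
    (hd : W4c6intromoduli.disc la mu = 0)
    (h3z : ∀ i j l : Fin 4, i ≠ j → j ≠ l → i ≠ l →
      ¬ (la i * mu j = la j * mu i ∧ la j * mu l = la l * mu j)) :
    (∃ (M : Matrix (Fin 2) (Fin 2) k) (c : k), IsUnit M.det ∧ c ≠ 0 ∧
        binForm la mu = C c * subst M (X 0 ^ 2 * X 1 * (X 0 - X 1))) ∨
    (∃ (M : Matrix (Fin 2) (Fin 2) k) (c : k), IsUnit M.det ∧ c ≠ 0 ∧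
        binForm la mu = C c * subst M (X 0 ^ 2 * X 1 ^ 2)) := by
  obtain ⟨⟨i, j⟩, hp, hz⟩ := Finset.prod_eq_zero_iff.mp hd
  simp only [Finset.mem_filter, Finset.mem_univ, true_and] at hp
  replace hz := pow_eq_zero_iff (two_ne_zero) |>.mp hz
  have comb : ∀ i j : Fin 4, i < j → ∃ a b : Fin 4, i ≠ a ∧ i ≠ b ∧ j ≠ a ∧ j ≠ b ∧ a ≠ b ∧
      (Finset.univ : Finset (Fin 4)) = {i, j, a, b} := by decide
  obtain ⟨a, b, hia, hib, hja, hjb, hab, huniv⟩ := comb i j hp
  have hij : i ≠ j := ne_of_lt hp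
  have hform : binForm la mu =
      (C (mu i) * X 0 - C (la i) * X 1) * (C (mu j) * X 0 - C (la j) * X 1) *
      (C (mu a) * X 0 - C (la a) * X 1) * (C (mu b) * X 0 - C (la b) * X 1) := by
    rw [binForm, huniv, Finset.prod_insert (by simp [hij, hia, hib]),
      Finset.prod_insert (by simp [hja, hjb]), Finset.prod_insert (by simp [hab]),
      Finset.prod_singleton]
    ring
  obtain ⟨t, ht, hlj, hmj⟩ := exists_scalar (hne i) (hne j) hz
  have hDia : la i * mu a - la a * mu i ≠ 0 := by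
    intro h
    refine h3z j i a hij.symm hia hja ⟨?_, sub_eq_zero.mp h⟩
    rw [hlj, hmj]; ring
  have hDib : la i * mu b - la b * mu i ≠ 0 := by
    intro h
    refine h3z j i b hij.symm hib hjb ⟨?_, sub_eq_zero.mp h⟩
    rw [hlj, hmj]; ring
  by_cases hab0 : la b * mu a - la a * mu b = 0
  · obtain ⟨s, hs, hlb, hmb⟩ := exists_scalar (hne a) (hne b) hab0
    refine Or.inr ⟨!![mu i, -la i; mu a, -la a], t * s, ?_, mul_ne_zero ht hs, ?_⟩
    · rw [Matrix.det_fin_two_of, isUnit_iff_ne_zero]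
      intro h; apply hDia; linear_combination h
    · rw [hform, hlj, hmj, hlb, hmb]
      simp [subst_X, map_mul, map_pow]
      ring
  · set D := la i * mu a - la a * mu i with hD
    set p := (la b * mu a - la a * mu b) / D with hp'
    set q := (la i * mu b - la b * mu i) / D with hq'
    have hpne : p ≠ 0 := div_ne_zero hab0 hDia
    have hqne : q ≠ 0 := div_ne_zero hDib hDia
    have emu : mu b = p * mu i + q * mu a := by
      rw [hp', hq']; field_simp; rw [hD]; ring
    have ela : la b = p * la i + q * la a := by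
      rw [hp', hq']; field_simp; rw [hD]; ring
    refine Or.inl ⟨!![p * mu i, -(p * la i); -(q * mu a), q * la a], -(t / (p ^ 2 * q)), ?_, ?_, ?_⟩
    · rw [Matrix.det_fin_two_of, isUnit_iff_ne_zero]
      intro h; apply hDia
      have : p * q * D = 0 := by rw [hD]; linear_combination -h
      simpa [hpne, hqne] using this
    · exact neg_ne_zero.mpr (div_ne_zero ht (mul_ne_zero (pow_ne_zero 2 hpne) hqne))
    · have hC : (C (-(t / (p ^ 2 * q))) : MvPolynomial (Fin 2) k) * (C p ^ 2 * C q) = - C t := by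
        rw [← map_pow, ← map_mul, ← map_mul, ← map_neg]
        congr 1
        field_simp
      rw [hform, hlj, hmj, emu, ela]
      simp only [map_mul, map_pow, map_sub, subst_X, Matrix.cons_val', Matrix.cons_val_zero,
        Matrix.cons_val_one, Matrix.cons_val_fin_one, Matrix.of_apply, map_add, map_neg] at hC ⊢
      linear_combination ((C (mu i) * X 0 - C (la i) * X 1) ^ 2 *
        (C (mu a) * X 0 - C (la a) * X 1) *
        ((C p * C (mu i) + C q * C (mu a)) * X 0 - (C p * C (la i) + C q * C (la a)) * X 1)) * hC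

theorem xor_classes (la mu : Fin 4 → k) (hne : ∀ i, la i ≠ 0 ∨ mu i ≠ 0)
    (hd : W4c6intromoduli.disc la mu = 0)
    (h3z : ∀ i j l : Fin 4, i ≠ j → j ≠ l → i ≠ l →
      ¬ (la i * mu j = la j * mu i ∧ la j * mu l = la l * mu j)) :
    Xor
      (∃ (M : Matrix (Fin 2) (Fin 2) k) (c : k), IsUnit M.det ∧ c ≠ 0 ∧
        binForm la mu = C c * subst M (X 0 ^ 2 * X 1 * (X 0 - X 1)))
      (∃ (M : Matrix (Fin 2) (Fin 2) k) (c : k), IsUnit M.det ∧ c ≠ 0 ∧
        binForm la mu = C c * subst M (X 0 ^ 2 * X 1 ^ 2)) := by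
  rcases dichotomy la mu hne hd h3z with h | h
  · refine Or.inl ⟨h, ?_⟩
    rintro ⟨M', c', -, -, e'⟩
    obtain ⟨M, c, hM, hc, e⟩ := h
    exact not_both M M' c c' hM hc (e.symm.trans e')
  · refine Or.inr ⟨h, ?_⟩
    rintro ⟨M, c, hM, hc, e⟩
    obtain ⟨M', c', -, -, e'⟩ := h
    exact not_both M M' c c' hM hc (e.symm.trans e')

end Groth.Agent.Misc3.Quartic
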